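import Mathlib

/-!
# Spreading out a closed immersion from a fibre of a finite morphism

* `exists_mul_mem_range_of_tensor_surjective`: the Nakayama-type ring lemma.
* `exists_basicOpen_isClosedImmersion_of_isPullback`: for a finite morphism to an affine scheme
  whose base change to a field-valued point is a closed immersion, the morphism is a closed
  immersion over a basic open containing the point.
* `exists_opens_isClosedImmersion_of_isPullback`: the same over an arbitrary base, when the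
  morphism is finite over an open containing the point.
* `morphismRestrict_of_le`, `morphismRestrict_iSup`: restriction calculus for target-local properties.
* `exists_opens_preimage_le_of_fibre_subset`: tube lemma for closed maps of schemes.
-/

set_option autoImplicit false
universe u

open TensorProduct CategoryTheory CategoryTheory.Limits AlgebraicGeometry

namespace Groth.Agent.Lib.Helper38

theorem exists_mul_mem_range_of_tensor_surjective {B C K : Type u} [CommRing B] [CommRing C] [Field K]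
    [Algebra B C] [Module.Finite B C] [Algebra B K]
    (h : Function.Surjective (algebraMap K (K ⊗[B] C))) :
    ∃ b : B, algebraMap B K b ≠ 0 ∧ ∀ c : C, ∃ b' : B, algebraMap B C b * c = algebraMap B C b' := by
  let N : Submodule B C := LinearMap.range (Algebra.linearMap B C)
  have h1N : (1 : C) ∈ N := ⟨1, by simp⟩
  have hsub : Subsingleton (K ⊗[B] (C ⧸ N)) := by
    refine subsingleton_of_forall_eq 0 fun t => ?_
    obtain ⟨t', rfl⟩ := LinearMap.lTensor_surjective K N.mkQ_surjective t
    obtain ⟨k, rfl⟩ := h t'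
    rw [Algebra.TensorProduct.algebraMap_apply, LinearMap.lTensor_tmul]
    have : N.mkQ 1 = 0 := by
      rw [Submodule.mkQ_apply, Submodule.Quotient.mk_eq_zero]
      exact h1N
    rw [this, tmul_zero]
  let q : Ideal B := RingHom.ker (algebraMap B K)
  have hq : q.IsPrime := RingHom.ker_isPrime _
  let p : PrimeSpectrum B := ⟨q, hq⟩
  have hp : p ∉ Module.support B (C ⧸ N) := by
    intro hmem
    rw [Module.mem_support_iff_nontrivial_residueField_tensorProduct] at hmem
    let ψ : q.ResidueField →+* K := Ideal.ResidueField.lift q (algebraMap B K) le_rfl (by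
      intro x hx
      simp only [Submonoid.mem_comap, IsUnit.mem_submonoid_iff]
      exact isUnit_iff_ne_zero.mpr (fun h0 => hx (RingHom.mem_ker.mpr h0)))
    let _ : Algebra q.ResidueField K := ψ.toAlgebra
    have : IsScalarTower B q.ResidueField K := IsScalarTower.of_algebraMap_eq fun x => by
      show algebraMap B K x = ψ (algebraMap B q.ResidueField x)
      rw [Ideal.ResidueField.lift_algebraMap]
    let e := AlgebraTensorModule.cancelBaseChange B q.ResidueField K K (C ⧸ N)
    have hnt : Nontrivial (K ⊗[q.ResidueField] (q.ResidueField ⊗[B] (C ⧸ N))) := by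
      rw [Module.FaithfullyFlat.nontrivial_tensorProduct_iff_right]
      exact hmem
    have hs2 : Subsingleton (K ⊗[q.ResidueField] (q.ResidueField ⊗[B] (C ⧸ N))) :=
      e.toEquiv.subsingleton
    exact not_subsingleton _ hs2
  rw [Module.support_eq_zeroLocus, PrimeSpectrum.mem_zeroLocus, Set.not_subset] at hp
  obtain ⟨b, hb, hbq⟩ := hp
  refine ⟨b, fun h0 => hbq (RingHom.mem_ker.mpr h0), fun c => ?_⟩
  have hbc : b • (N.mkQ c) = 0 := Module.mem_annihilator.mp hb _
  rw [← map_smul, Submodule.mkQ_apply, Submodule.Quotient.mk_eq_zero] at hbc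
  obtain ⟨b', hb'⟩ := hbc
  exact ⟨b', by rw [← Algebra.smul_def, ← hb']; rfl⟩

lemma exists_mul_mem_range_of_isPushout {B C D : CommRingCat.{u}} {K : Type u} [Field K]
    {φ : B ⟶ C} {ψ : B ⟶ CommRingCat.of K} {inl : C ⟶ D} {inr : CommRingCat.of K ⟶ D}
    (h : IsPushout φ ψ inl inr) (hfin : φ.hom.Finite) (hsurj : Function.Surjective inr.hom) :
    ∃ b : B, ψ.hom b ≠ 0 ∧ ∀ c : C, ∃ b' : B, φ.hom b * c = φ.hom b' := by
  algebraize [φ.hom, ψ.hom, inl.hom, inr.hom, inl.hom.comp φ.hom]
  have : IsScalarTower B C D := .of_algebraMap_eq' rfl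
  have : IsScalarTower B K D := .of_algebraMap_eq' (congr($(h.w).hom))
  have hpo : Algebra.IsPushout B C K D := CommRingCat.isPushout_iff_isPushout.mp h
  have hpo' : Algebra.IsPushout B K C D := Algebra.IsPushout.symm hpo
  let e : K ⊗[B] C ≃ₐ[K] D := Algebra.IsPushout.equiv B K C D
  have hs : Function.Surjective (algebraMap K (K ⊗[B] C)) := by
    intro t
    obtain ⟨k, hk⟩ := hsurj (e t)
    refine ⟨k, e.injective ?_⟩
    rw [← hk, AlgEquiv.commutes]
    rfl
  exact exists_mul_mem_range_of_tensor_surjective hs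

lemma exists_eq_pow_mul_aux (X : Scheme.{u}) [IsAffine X] (r : Γ(X, ⊤)) (W : X.Opens)
    (hW : W = X.basicOpen r) (x : Γ(X, W)) :
    ∃ (n : ℕ) (c : Γ(X, ⊤)), (X.presheaf.map (homOfLE le_top).op).hom c =
      ((X.presheaf.map (homOfLE le_top).op).hom r) ^ n * x := by
  subst hW
  exact exists_eq_pow_mul_of_isAffineOpen X ⊤ (isAffineOpen_top X) r x

lemma surjective_app_basicOpen {X Y : Scheme.{u}} (f : X ⟶ Y) [IsAffine X] (b : Γ(Y, ⊤))
    (hb : ∀ c : Γ(X, ⊤), ∃ b' : Γ(Y, ⊤), f.appTop.hom b * c = f.appTop.hom b') :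
    Function.Surjective (f.app (Y.basicOpen b)).hom := by
  intro x
  have hW : f ⁻¹ᵁ Y.basicOpen b = X.basicOpen (f.appTop.hom b) := Scheme.preimage_basicOpen_top f b
  obtain ⟨n, c, hc⟩ := exists_eq_pow_mul_aux X (f.appTop.hom b) _ hW x
  obtain ⟨b', hb'⟩ := hb c
  have hunit : IsUnit ((Y.presheaf.map (homOfLE le_top).op).hom b : Γ(Y, Y.basicOpen b)) :=
    RingedSpace.isUnit_res_basicOpen Y.toRingedSpace b
  obtain ⟨u, hu⟩ := hunit
  have hnat : ∀ a : Γ(Y, ⊤), (f.app (Y.basicOpen b)).hom ((Y.presheaf.map (homOfLE le_top).op).hom a) =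
      (X.presheaf.map (homOfLE le_top).op).hom (f.appTop.hom a) := by
    intro a
    have := f.naturality (homOfLE (le_top : Y.basicOpen b ≤ ⊤)).op
    exact congr($(this).hom a)
  set ρ := (X.presheaf.map (homOfLE (le_top : f ⁻¹ᵁ Y.basicOpen b ≤ ⊤)).op).hom with hρ
  set v := (f.app (Y.basicOpen b)).hom (↑u⁻¹ : Γ(Y, Y.basicOpen b)) with hv
  have hrv : ρ (f.appTop.hom b) * v = 1 := by
    rw [← hnat, ← hu, hv, ← map_mul, Units.mul_inv, map_one]
  refine ⟨(Y.presheaf.map (homOfLE (le_top : Y.basicOpen b ≤ ⊤)).op).hom b' *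
    ((↑u⁻¹ : Γ(Y, Y.basicOpen b))) ^ (n + 1), ?_⟩
  rw [map_mul, map_pow, hnat, ← hb', map_mul, hc, ← hv]
  calc ρ (f.appTop.hom b) * (ρ (f.appTop.hom b) ^ n * x) * v ^ (n + 1)
      = (ρ (f.appTop.hom b) * v) ^ (n + 1) * x := by ring
    _ = x := by rw [hrv, one_pow, one_mul]

set_option backward.isDefEq.respectTransparency.types false in
/-- A finite morphism to an affine scheme whose base change to a field-valued point is a closed
immersion is a closed immersion over a basic open neighbourhood of that point. -/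
theorem exists_basicOpen_isClosedImmersion_of_isPullback {X Y P : Scheme.{u}} {K : Type u} [Field K]
    (f : X ⟶ Y) [IsAffine Y] [IsFinite f] (z : Spec (CommRingCat.of K) ⟶ Y)
    {fst : P ⟶ X} {snd : P ⟶ Spec (CommRingCat.of K)} (h : IsPullback fst snd f z)
    [IsClosedImmersion snd] :
    ∃ b : Γ(Y, ⊤), Set.range z ⊆ Y.basicOpen b ∧ IsClosedImmersion (f ∣_ Y.basicOpen b) := by
  have : IsAffine X := isAffine_of_isAffineHom f
  have : IsAffine P := IsAffine.of_isPullback h
  have h0 := isPushout_appTop_of_isPullback h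
  have h1 : IsPushout f.appTop (z.appTop ≫ (Scheme.ΓSpecIso (CommRingCat.of K)).hom) fst.appTop
      ((Scheme.ΓSpecIso (CommRingCat.of K)).inv ≫ snd.appTop) := by
    refine h0.of_iso (Iso.refl _) (Iso.refl _) (Scheme.ΓSpecIso (CommRingCat.of K)) (Iso.refl _)
      ?_ ?_ ?_ ?_ <;> simp
  have hfin : f.appTop.hom.Finite := Scheme.Hom.finite_app f ⊤ (isAffineOpen_top Y)
  have hsurj0 : Function.Surjective snd.appTop.hom :=
    (IsClosedImmersion.isAffine_surjective_of_isAffine snd).2
  have hsurj : Function.Surjective ((Scheme.ΓSpecIso (CommRingCat.of K)).inv ≫ snd.appTop).hom := by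
    rw [CommRingCat.hom_comp, RingHom.coe_comp]
    exact hsurj0.comp (ConcreteCategory.bijective_of_isIso (Scheme.ΓSpecIso (CommRingCat.of K)).inv).2
  obtain ⟨b, hb0, hb⟩ := exists_mul_mem_range_of_isPushout h1 hfin hsurj
  refine ⟨b, ?_, ?_⟩
  · rintro _ ⟨t, rfl⟩
    show t ∈ z ⁻¹ᵁ Y.basicOpen b
    rw [Scheme.preimage_basicOpen_top, Scheme.basicOpen_of_isUnit]
    · trivial
    · have hk : IsUnit ((z.appTop ≫ (Scheme.ΓSpecIso (CommRingCat.of K)).hom).hom b) :=
        isUnit_iff_ne_zero.mpr hb0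
      have := hk.map (Scheme.ΓSpecIso (CommRingCat.of K)).inv.hom
      simpa [← CommRingCat.comp_apply] using this
  · have : IsAffine (Y.basicOpen b) := (isAffineOpen_top Y).basicOpen b
    have : IsAffine (f ⁻¹ᵁ Y.basicOpen b) := ((isAffineOpen_top Y).basicOpen b).preimage f
    refine IsClosedImmersion.of_surjective_of_isAffine _ ?_
    have e := morphismRestrict_appTop f (Y.basicOpen b)
    have e' : ⇑((f ∣_ Y.basicOpen b).appTop.hom) =
      ⇑(X.presheaf.map (eqToHom (image_morphismRestrict_preimage f (Y.basicOpen b) ⊤)).op).hom ∘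
        ⇑(f.app ((Y.basicOpen b).ι ''ᵁ ⊤)).hom := by
      rw [e]; rfl
    show Function.Surjective ⇑((f ∣_ Y.basicOpen b).appTop.hom)
    rw [e']
    refine (ConcreteCategory.bijective_of_isIso _).2.comp ?_
    have key : ∀ (W : Y.Opens) (hW : W = Y.basicOpen b), Function.Surjective (f.app W).hom := by
      intro W hW
      subst hW
      exact surjective_app_basicOpen f b hb
    exact key _ (Scheme.Opens.ι_image_top _)

section Restrict

variable {P : MorphismProperty Scheme.{u}} [IsZariskiLocalAtTarget P] {X Y : Scheme.{u}}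

/-- A target-local property passes to smaller opens. -/
lemma morphismRestrict_of_le (f : X ⟶ Y) {V W : Y.Opens} (hWV : W ≤ V) (h : P (f ∣_ V)) :
    P (f ∣_ W) := by
  have himg : V.ι ''ᵁ (V.ι ⁻¹ᵁ W) = W := by
    rw [Scheme.Hom.image_preimage_eq_opensRange_inf, Scheme.Opens.opensRange_ι]
    exact inf_eq_right.mpr hWV
  have h2 : P ((f ∣_ V) ∣_ (V.ι ⁻¹ᵁ W)) := IsZariskiLocalAtTarget.restrict h _
  exact (MorphismProperty.arrow_mk_iso_iff P
    (morphismRestrictRestrict f V _ ≪≫ morphismRestrictEq f himg)).mp h2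

set_option backward.isDefEq.respectTransparency.types false in
/-- A target-local property holding over each member of a family of opens holds over the union. -/
theorem morphismRestrict_iSup (f : X ⟶ Y) {κ : Type*} (V : κ → Y.Opens)
    (h : ∀ k, P (f ∣_ V k)) : P (f ∣_ ⨆ k, V k) := by
  refine IsZariskiLocalAtTarget.of_forall_exists_morphismRestrict (P := P) ?_
  intro x
  obtain ⟨k, hk⟩ := TopologicalSpace.Opens.mem_iSup.mp x.2
  refine ⟨(⨆ k, V k).ι ⁻¹ᵁ V k, hk, ?_⟩
  have himg : (⨆ k, V k).ι ''ᵁ ((⨆ k, V k).ι ⁻¹ᵁ V k) = V k := by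
    rw [Scheme.Hom.image_preimage_eq_opensRange_inf, Scheme.Opens.opensRange_ι]
    exact inf_eq_right.mpr (le_iSup V k)
  exact (MorphismProperty.arrow_mk_iso_iff P
    (morphismRestrictRestrict f (⨆ k, V k) _ ≪≫ morphismRestrictEq f himg)).mpr (h k)

end Restrict

/-- Tube lemma for a closed morphism: an open containing a fibre contains the preimage of a
neighbourhood of the point. -/
lemma exists_opens_preimage_le_of_fibre_subset {Y S : Scheme.{u}} (h : Y ⟶ S) [UniversallyClosed h]
    (W : Y.Opens) (s : S) (hs : ∀ y : Y, h y = s → y ∈ W) :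
    ∃ U : S.Opens, s ∈ U ∧ h ⁻¹ᵁ U ≤ W := by
  refine ⟨⟨(h '' (W : Set Y)ᶜ)ᶜ, (h.isClosedMap _ W.2.isClosed_compl).isOpen_compl⟩, ?_, ?_⟩
  · rintro ⟨y, hy, hys⟩
    exact hy (hs y hys)
  · intro y hy
    by_contra hyW
    exact hy ⟨y, hyW, rfl⟩

set_option backward.isDefEq.respectTransparency.types false in
/-- Over an arbitrary base: if `f` is finite over an open `V₀` containing a field-valued point `z`
and the base change of `f` to `z` is a closed immersion, then `f` is a closed immersion over some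
open containing `z`. -/
theorem exists_opens_isClosedImmersion_of_isPullback {X Y P : Scheme.{u}} {K : Type u} [Field K]
    (f : X ⟶ Y) (V₀ : Y.Opens) (hfin : IsFinite (f ∣_ V₀)) (z : Spec (CommRingCat.of K) ⟶ Y)
    (hz : Set.range z ⊆ V₀)
    {fst : P ⟶ X} {snd : P ⟶ Spec (CommRingCat.of K)} (h : IsPullback fst snd f z)
    [IsClosedImmersion snd] :
    ∃ V : Y.Opens, Set.range z ⊆ V ∧ IsClosedImmersion (f ∣_ V) := by
  have hsub : Subsingleton (Spec (CommRingCat.of K)) :=
    (inferInstance : Subsingleton (PrimeSpectrum K))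
  obtain ⟨t₀⟩ : Nonempty (Spec (CommRingCat.of K)) :=
    (inferInstance : Nonempty (PrimeSpectrum K))
  have hy : z t₀ ∈ V₀ := hz ⟨t₀, rfl⟩
  obtain ⟨U, hU, hyU, hUV⟩ : ∃ U : Y.Opens, U ∈ Y.affineOpens ∧ z t₀ ∈ U ∧ U ≤ V₀ :=
    TopologicalSpace.Opens.isBasis_iff_nbhd.mp Y.isBasis_affineOpens hy
  have hUaff : IsAffineOpen U := hU
  have : IsAffine U := hUaff
  have hfinU : IsFinite (f ∣_ U) := morphismRestrict_of_le f hUV hfin
  have hzU : Set.range z ⊆ Set.range U.ι := by
    rintro _ ⟨t, rfl⟩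
    rw [Scheme.Opens.range_ι]
    rw [Subsingleton.elim t t₀]
    exact hyU
  let z' : Spec (CommRingCat.of K) ⟶ U := IsOpenImmersion.lift U.ι z hzU
  have hz' : z' ≫ U.ι = z := IsOpenImmersion.lift_fac _ _ _
  have sqU := isPullback_morphismRestrict f U
  let fst' : P ⟶ (f ⁻¹ᵁ U) := sqU.lift (snd ≫ z') fst (by rw [Category.assoc, hz', h.w])
  have hfst'1 : fst' ≫ (f ∣_ U) = snd ≫ z' := sqU.lift_fst _ _ _
  have hfst'2 : fst' ≫ (f ⁻¹ᵁ U).ι = fst := sqU.lift_snd _ _ _
  have sq' : IsPullback fst' snd (f ∣_ U) z' := by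
    refine IsPullback.of_right ?_ hfst'1 sqU.flip
    rw [hfst'2, hz']
    exact h
  obtain ⟨b, hb1, hb2⟩ := exists_basicOpen_isClosedImmersion_of_isPullback (f ∣_ U) z' sq'
  refine ⟨U.ι ''ᵁ (U.toScheme.basicOpen b), ?_, ?_⟩
  · rintro _ ⟨t, rfl⟩
    refine ⟨z' t, hb1 ⟨t, rfl⟩, ?_⟩
    show U.ι (z' t) = z t
    rw [← Scheme.Hom.comp_apply, hz']
  · exact (MorphismProperty.arrow_mk_iso_iff @IsClosedImmersion (morphismRestrictRestrict f U _)).mp hb2


end Groth.Agent.Lib.Helper38
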