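import Groth.Agent.Lib.Helper38.GrpdLib

/-!
# Morphisms of groupoid schemes: compatibility with identities, images
-/

set_option autoImplicit false
universe u

open CategoryTheory CategoryTheory.Limits AlgebraicGeometry Grpd

namespace Groth.Agent.Lib.Helper38.GrpdHom

open Groth.Agent.Lib.Helper38.GrpdLib

variable {S : Scheme.{u}} {G₁ G₂ : Grpd.GroupoidScheme S} (a : Grpd.GroupoidScheme.Hom G₁ G₂)

lemma comm_mul {T : Scheme.{u}} (α β : T ⟶ G₁.R) (h : α ≫ G₁.s = β ≫ G₁.t) :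
    mul α β h ≫ a.fR = mul (α ≫ a.fR) (β ≫ a.fR)
      (by rw [Category.assoc, Category.assoc, a.comm_s, a.comm_t, ← Category.assoc,
        ← Category.assoc, h]) :=
  a.comm_c α β h

/-- An idempotent arrow is an identity. -/
lemma eq_e_of_mul_self {G : Grpd.GroupoidScheme S} {T : Scheme.{u}} (x : T ⟶ G.R)
    (h : x ≫ G.s = x ≫ G.t) (hx : mul x x h = x) : x = x ≫ G.s ≫ G.e := by
  have h1 := i_mul_mul x x h
  rw [mul_congr rfl hx] at h1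
  rw [i_mul] at h1
  exact h1.symm

lemma e_mul_e {G : Grpd.GroupoidScheme S} :
    mul G.e G.e (by rw [G.e_s, G.e_t]) = G.e :=
  mul_e G.e G.e (by rw [← Category.assoc, G.e_s, Category.id_comp])

/-- A morphism of groupoid schemes is compatible with the identity sections. -/
lemma comm_e : G₁.e ≫ a.fR = a.fU ≫ G₂.e := by
  have hs : (G₁.e ≫ a.fR) ≫ G₂.s = a.fU := by
    rw [Category.assoc, a.comm_s, ← Category.assoc, G₁.e_s, Category.id_comp]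
  have ht : (G₁.e ≫ a.fR) ≫ G₂.t = a.fU := by
    rw [Category.assoc, a.comm_t, ← Category.assoc, G₁.e_t, Category.id_comp]
  have h1 : mul (G₁.e ≫ a.fR) (G₁.e ≫ a.fR) (by rw [hs, ht]) = G₁.e ≫ a.fR := by
    rw [← comm_mul a G₁.e G₁.e (by rw [G₁.e_s, G₁.e_t]), e_mul_e]
  have h2 := eq_e_of_mul_self (G₁.e ≫ a.fR) (by rw [hs, ht]) h1
  rw [h2, ← Category.assoc, hs]

/-- Right cancellation. -/
lemma mul_right_cancel {G : Grpd.GroupoidScheme S} {T : Scheme.{u}} (α α' β : T ⟶ G.R)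
    (h : α ≫ G.s = β ≫ G.t) (h' : α' ≫ G.s = β ≫ G.t) (heq : mul α β h = mul α' β h') :
    α = α' := by
  rw [← mul_mul_i α β h, ← mul_mul_i α' β h']
  exact mul_congr heq rfl _

/-- If `ρ₂ · a(y') = a(y₂)` then `ρ₂` is in the image of `a`. -/
lemma exists_eq_comp_of_mul_eq [Mono a.fU] {T : Scheme.{u}} (ρ₂ : T ⟶ G₂.R) (y₂ y' : T ⟶ G₁.R)
    (h : ρ₂ ≫ G₂.s = (y' ≫ a.fR) ≫ G₂.t)
    (key : mul ρ₂ (y' ≫ a.fR) h = y₂ ≫ a.fR) : ∃ z : T ⟶ G₁.R, ρ₂ = z ≫ a.fR := by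
  have hs₂ : (y₂ ≫ G₁.s) ≫ a.fU = (y' ≫ G₁.s) ≫ a.fU := by
    rw [Category.assoc, ← a.comm_s, ← Category.assoc, ← key, mul_s, Category.assoc,
      Category.assoc, a.comm_s]
  have hs₂' : y₂ ≫ G₁.s = y' ≫ G₁.s := (cancel_mono a.fU).mp hs₂
  have c1 : y₂ ≫ G₁.s = (y' ≫ G₁.i) ≫ G₁.t := by rw [Category.assoc, G₁.i_t, hs₂']
  have c2 : mul y₂ (y' ≫ G₁.i) c1 ≫ G₁.s = y' ≫ G₁.t := by
    rw [mul_s, Category.assoc, G₁.i_s]
  have hz : mul (mul y₂ (y' ≫ G₁.i) c1) y' c2 = y₂ := mul_i_mul' y₂ y' hs₂'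
  refine ⟨mul y₂ (y' ≫ G₁.i) c1, ?_⟩
  have c3 : (mul y₂ (y' ≫ G₁.i) c1 ≫ a.fR) ≫ G₂.s = (y' ≫ a.fR) ≫ G₂.t := by
    rw [Category.assoc, Category.assoc, a.comm_s, a.comm_t, ← Category.assoc, ← Category.assoc,
      c2]
  have hz' : mul (mul y₂ (y' ≫ G₁.i) c1 ≫ a.fR) (y' ≫ a.fR) c3 = y₂ ≫ a.fR := by
    rw [← comm_mul a _ y' c2, hz]
  exact mul_right_cancel ρ₂ _ (y' ≫ a.fR) h c3 (key.trans hz'.symm)

end Groth.Agent.Lib.Helper38.GrpdHom
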