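import Groth.Agent.S1889
import Groth.Agent.Lib.Helper38.GrpdHom

/-!
# Closure of the image of a morphism of groupoid schemes over a field
-/

set_option autoImplicit false
universe u

open CategoryTheory CategoryTheory.Limits AlgebraicGeometry Grpd

namespace Groth.Agent.Lib.Helper38.GrpdClosure

open Groth.Agent.Lib.Helper38.GrpdLib Groth.Agent.Lib.Helper38.GrpdHom

variable {S : Scheme.{u}} {G₁ G₂ : Grpd.GroupoidScheme S} (a : Grpd.GroupoidScheme.Hom G₁ G₂)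

/-- A morphism of groupoid schemes is compatible with the inverses. -/
lemma comm_i : G₁.i ≫ a.fR = a.fR ≫ G₂.i := by
  have h1 : (G₁.i ≫ a.fR) ≫ G₂.s = a.fR ≫ G₂.t := by
    rw [Category.assoc, a.comm_s, ← Category.assoc, G₁.i_s, a.comm_t]
  have h2 : (a.fR ≫ G₂.i) ≫ G₂.s = a.fR ≫ G₂.t := by rw [Category.assoc, G₂.i_s]
  apply mul_right_cancel (G₁.i ≫ a.fR) (a.fR ≫ G₂.i) a.fR h1 h2
  rw [i_mul]
  have h3 := comm_mul a G₁.i (𝟙 _) (by rw [G₁.i_s, Category.id_comp])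
  have h4 : mul G₁.i (𝟙 G₁.R) (by rw [G₁.i_s, Category.id_comp]) = G₁.s ≫ G₁.e := by
    have := i_mul (G := G₁) (𝟙 G₁.R)
    refine (mul_congr (Category.id_comp _).symm rfl _).trans (this.trans ?_)
    rw [Category.id_comp]
  rw [h4] at h3
  refine Eq.trans (mul_congr rfl (Category.id_comp _).symm _) (h3.symm.trans ?_)
  rw [Category.assoc, comm_e a, ← Category.assoc, ← a.comm_s, Category.assoc]

/-- `W · cl(W) ⊆ cl(W)`, where `W` is the image of `a`, on `T`-points. -/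
lemma mul_mem_closure [Mono a.fU] (k : Type u) [Field k] (eU : G₂.U ≅ Spec (CommRingCat.of k))
    {T : Scheme.{u}} (τ : T) (y₁ : T ⟶ G₁.R) (z : T ⟶ G₂.R)
    (h : (y₁ ≫ a.fR) ≫ G₂.s = z ≫ G₂.t) (hz : z τ ∈ closure (Set.range ⇑a.fR)) :
    (mul (y₁ ≫ a.fR) z h) τ ∈ closure (Set.range ⇑a.fR) := by
  rw [mem_closure_iff]
  intro N hN hxN
  let N' : G₂.R.Opens := ⟨N, hN⟩
  set x := mul (y₁ ≫ a.fR) z h with hx
  let T' : T.Opens := x ⁻¹ᵁ N'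
  have hτ : τ ∈ T' := hxN
  let n : (T' : Scheme) ⟶ N' := x.resLE N' T' le_rfl
  have hn : n ≫ N'.ι = T'.ι ≫ x := Scheme.Hom.resLE_comp_ι _ _
  have hn2 : n ≫ N'.ι ≫ G₂.t = T'.ι ≫ x ≫ G₂.t := by rw [← Category.assoc, hn, Category.assoc]
  obtain ⟨hinv, hinv_def⟩ : ∃ q : (T' : Scheme) ⟶ G₂.R, q = (T'.ι ≫ (y₁ ≫ a.fR)) ≫ G₂.i :=
    ⟨_, rfl⟩
  have hinv_s : hinv ≫ G₂.s = T'.ι ≫ (y₁ ≫ a.fR) ≫ G₂.t := by
    rw [hinv_def]; simp only [Category.assoc, G₂.i_s]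
  let m := pullback.lift (pullback.fst (hinv ≫ G₂.s) (N'.ι ≫ G₂.t) ≫ hinv)
    (pullback.snd (hinv ≫ G₂.s) (N'.ι ≫ G₂.t) ≫ N'.ι)
    ((Category.assoc _ _ _).trans (pullback.condition.trans (Category.assoc _ _ _).symm)) ≫ G₂.c
  have hm : m = mul (pullback.fst (hinv ≫ G₂.s) (N'.ι ≫ G₂.t) ≫ hinv)
    (pullback.snd (hinv ≫ G₂.s) (N'.ι ≫ G₂.t) ≫ N'.ι)
    ((Category.assoc _ _ _).trans (pullback.condition.trans (Category.assoc _ _ _).symm)) := rfl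
  have hM : IsOpen (Set.range ⇑m) := Groth.Agent.S1889.result S G₂ k eU N' _ hinv
  -- `z τ` lies in `h⁻¹ · N`
  have hzM : z τ ∈ Set.range ⇑m := by
    let δ : (T' : Scheme) ⟶ pullback (hinv ≫ G₂.s) (N'.ι ≫ G₂.t) :=
      pullback.lift (𝟙 _) n (by
        rw [Category.id_comp, hinv_s, hn2, hx, mul_t])
    have hδm : δ ≫ m = T'.ι ≫ z := by
      rw [hm, comp_mul]
      have e1 : δ ≫ pullback.fst (hinv ≫ G₂.s) (N'.ι ≫ G₂.t) ≫ hinv =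
          (T'.ι ≫ (y₁ ≫ a.fR)) ≫ G₂.i := by
        rw [← Category.assoc, pullback.lift_fst, Category.id_comp, hinv_def]
      have e2 : δ ≫ pullback.snd (hinv ≫ G₂.s) (N'.ι ≫ G₂.t) ≫ N'.ι =
          mul (T'.ι ≫ (y₁ ≫ a.fR)) (T'.ι ≫ z) (by rw [Category.assoc, h, Category.assoc]) := by
        rw [← Category.assoc, pullback.lift_snd, hn, hx, comp_mul]
      rw [mul_congr e1 e2]
      exact i_mul_mul _ _ _
    refine ⟨δ ⟨τ, hτ⟩, ?_⟩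
    rw [← Scheme.Hom.comp_apply, hδm, Scheme.Hom.comp_apply]
    rfl
  obtain ⟨p, ⟨η, hη⟩, ⟨y', hy'⟩⟩ := mem_closure_iff.mp hz _ hM hzM
  obtain ⟨t₁, ht₁η, ht₁y⟩ := Scheme.Pullback.exists_preimage_pullback (f := m) (g := a.fR) η y'
    (hη.trans hy'.symm)
  have hcond : pullback.fst m a.fR ≫ mul (pullback.fst (hinv ≫ G₂.s) (N'.ι ≫ G₂.t) ≫ hinv)
      (pullback.snd (hinv ≫ G₂.s) (N'.ι ≫ G₂.t) ≫ N'.ι)
      ((Category.assoc _ _ _).trans (pullback.condition.trans (Category.assoc _ _ _).symm)) =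
      pullback.snd m a.fR ≫ a.fR := pullback.condition
  let hT : pullback m a.fR ⟶ G₁.R :=
    pullback.fst m a.fR ≫ pullback.fst (hinv ≫ G₂.s) (N'.ι ≫ G₂.t) ≫ T'.ι ≫ y₁
  let n' : pullback m a.fR ⟶ G₂.R :=
    pullback.fst m a.fR ≫ pullback.snd (hinv ≫ G₂.s) (N'.ι ≫ G₂.t) ≫ N'.ι
  have hαβ : (hT ≫ a.fR) ≫ G₂.t = n' ≫ G₂.t := by
    have e0 : ∀ {Q : Scheme.{u}} (q : Q ⟶ (T' : Scheme)),
        q ≫ hinv ≫ G₂.s = q ≫ T'.ι ≫ y₁ ≫ a.fR ≫ G₂.t := fun q => by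
      rw [hinv_s]; simp only [Category.assoc]
    calc (hT ≫ a.fR) ≫ G₂.t
        = pullback.fst m a.fR ≫ (pullback.fst (hinv ≫ G₂.s) (N'.ι ≫ G₂.t) ≫ hinv ≫ G₂.s) := by
          rw [e0]; simp only [hT, Category.assoc]
      _ = pullback.fst m a.fR ≫ (pullback.snd (hinv ≫ G₂.s) (N'.ι ≫ G₂.t) ≫ N'.ι ≫ G₂.t) := by
          rw [pullback.condition]
      _ = n' ≫ G₂.t := by simp only [n', Category.assoc]
  have e1 : pullback.fst m a.fR ≫ pullback.fst (hinv ≫ G₂.s) (N'.ι ≫ G₂.t) ≫ hinv =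
      (hT ≫ a.fR) ≫ G₂.i := by
    have e1' : ∀ {Q : Scheme.{u}} (q : Q ⟶ (T' : Scheme)),
        q ≫ hinv = ((q ≫ T'.ι ≫ y₁) ≫ a.fR) ≫ G₂.i := fun q => by
      rw [hinv_def]; simp only [Category.assoc]
    have := e1' (pullback.fst m a.fR ≫ pullback.fst (hinv ≫ G₂.s) (N'.ι ≫ G₂.t))
    simpa only [hT, Category.assoc] using this
  have hcnd : ((hT ≫ a.fR) ≫ G₂.i) ≫ G₂.s = n' ≫ G₂.t :=
    (Category.assoc _ _ _).trans ((congrArg ((hT ≫ a.fR) ≫ ·) G₂.i_s).trans hαβ)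
  have hkey : mul ((hT ≫ a.fR) ≫ G₂.i) n' hcnd =
      pullback.snd m a.fR ≫ a.fR := by
    rw [← hcond, comp_mul]
    exact (mul_congr e1 rfl _).symm
  have hc₁ : hT ≫ G₁.s = pullback.snd m a.fR ≫ G₁.t := by
    have := congrArg (· ≫ G₂.t) hkey
    simp only [mul_t, Category.assoc, G₂.i_t, a.comm_s, a.comm_t] at this
    rw [← cancel_mono a.fU]
    simpa only [Category.assoc] using this
  have hn' : n' = mul hT (pullback.snd m a.fR) hc₁ ≫ a.fR := by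
    rw [comm_mul a hT _ hc₁, ← mul_congr rfl hkey]
    exact (mul_i_mul (hT ≫ a.fR) n' hαβ).symm
  have hn'' : n' t₁ = a.fR (mul hT (pullback.snd m a.fR) hc₁ t₁) := by
    rw [← Scheme.Hom.comp_apply, ← hn']
  refine ⟨n' t₁, ?_, ⟨_, hn''.symm⟩⟩
  exact ((pullback.fst m a.fR ≫ pullback.snd (hinv ≫ G₂.s) (N'.ι ≫ G₂.t)) t₁).2

end Groth.Agent.Lib.Helper38.GrpdClosure
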