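import Groth.Prelude.Def_W4stkschemesremainderFib
import Mathlib

/-!
Helper library for the `BddFib` cluster (degrees of fibres).
-/

set_option autoImplicit false
universe u
open CategoryTheory AlgebraicGeometry Limits

namespace Groth.Agent.Lib.Helper38

/-- ring-level version of "finite of degree at most `n`". -/
def RingFinDegLE {K A : CommRingCat.{u}} (φ : K ⟶ A) (n : ℕ) : Prop :=
  letI := φ.hom.toAlgebra
  Module.Finite K A ∧ Module.finrank K A ≤ n

lemma finiteOfDegLE_iff {K : CommRingCat.{u}} {T : Scheme.{u}} (p : T ⟶ Spec K) (n : ℕ) :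
    BddFib.FiniteOfDegLE K p n ↔
      IsAffine T ∧ RingFinDegLE ((Scheme.ΓSpecIso K).inv ≫ p.appTop) n := Iff.rfl

/-- Base change and descent of `RingFinDegLE` along a pushout square over a field extension. -/
lemma ringFinDegLE_iff_of_isPushout {K L : Type u} [Field K] [Field L] {A A' : CommRingCat.{u}}
    {φ : CommRingCat.of K ⟶ A} {ψ : CommRingCat.of K ⟶ CommRingCat.of L} {inl : A ⟶ A'}
    {inr : CommRingCat.of L ⟶ A'}
    (h : IsPushout φ ψ inl inr) (n : ℕ) :
    RingFinDegLE φ n ↔ RingFinDegLE inr n := by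
  unfold RingFinDegLE
  algebraize [φ.hom, ψ.hom, inl.hom, inr.hom, inl.hom.comp φ.hom]
  have : IsScalarTower K L A' := .of_algebraMap_eq' <| congr($(h.1.1).hom)
  have hpo : Algebra.IsPushout K A L A' := CommRingCat.isPushout_iff_isPushout.mp h
  have hpo' : Algebra.IsPushout K L A A' := Algebra.IsPushout.symm hpo
  let e : TensorProduct K L A ≃ₐ[L] A' := Algebra.IsPushout.equiv K L A A'
  have hfin : Module.Finite K A ↔ Module.Finite L A' := by
    constructor
    · intro hA
      exact Module.Finite.equiv e.toLinearEquiv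
    · intro hA'
      have h1 : Module.Finite L (TensorProduct K L A) := Module.Finite.equiv e.symm.toLinearEquiv
      have h2 : IsNoetherian L (TensorProduct K L A) := inferInstance
      have h3 : IsNoetherian K A := Submodule.IsNoetherian.of_isNoetherian_tensorProduct_of_faithfullyFlat (A := L) h2
      infer_instance
  have hrank : Module.finrank L A' = Module.finrank K A := by
    rw [← LinearEquiv.finrank_eq e.toLinearEquiv, Module.finrank_baseChange]
  rw [hfin, hrank]

/-- Transport of the `appTop` pushout square to the rings `K`, `L` themselves. -/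
lemma isPushout_of_isPullback_SpecMap {K L : CommRingCat.{u}} (ψ : K ⟶ L) {T T' : Scheme.{u}}
    [IsAffine T] [IsAffine T']
    {p : T ⟶ Spec K} {fst : T' ⟶ T} {snd : T' ⟶ Spec L} (h : IsPullback fst snd p (Spec.map ψ)) :
    IsPushout ((Scheme.ΓSpecIso K).inv ≫ p.appTop) ψ fst.appTop
      ((Scheme.ΓSpecIso L).inv ≫ snd.appTop) := by
  have h0 := isPushout_appTop_of_isPullback h
  refine h0.of_iso (Scheme.ΓSpecIso K) (Iso.refl _) (Scheme.ΓSpecIso L) (Iso.refl _) ?_ ?_ ?_ ?_
  · simp
  · exact Scheme.ΓSpecIso_naturality ψ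
  · simp
  · simp

/-- A finite-dimensional algebra over a field has finite discrete spectrum. -/
lemma finite_discrete_of_finiteOfDegLE {K : Type u} [Field K] {T : Scheme.{u}}
    {p : T ⟶ Spec (CommRingCat.of K)} {n : ℕ} (h : BddFib.FiniteOfDegLE (CommRingCat.of K) p n) :
    Finite T ∧ DiscreteTopology T := by
  obtain ⟨haff, hfin, -⟩ := h
  let _ : Algebra K Γ(T, ⊤) := BddFib.secAlgebra (CommRingCat.of K) p
  have : IsArtinianRing Γ(T, ⊤) := IsArtinianRing.of_finite K Γ(T, ⊤)
  have : IsArtinianScheme (Spec Γ(T, ⊤)) := inferInstance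
  have h1 : Finite (Spec Γ(T, ⊤)) := inferInstance
  have h2 : DiscreteTopology (Spec Γ(T, ⊤)) := inferInstance
  let e : T ≃ₜ Spec Γ(T, ⊤) := T.isoSpec.hom.homeomorph
  exact ⟨Finite.of_equiv _ e.symm.toEquiv, e.symm.discreteTopology⟩

theorem finiteOfDegLE_of_isPullback {K L : Type u} [Field K] [Field L]
    (ψ : CommRingCat.of K ⟶ CommRingCat.of L) {T T' : Scheme.{u}}
    {p : T ⟶ Spec (CommRingCat.of K)} {fst : T' ⟶ T} {snd : T' ⟶ Spec (CommRingCat.of L)}
    (h : IsPullback fst snd p (Spec.map ψ)) {n : ℕ}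
    (hp : BddFib.FiniteOfDegLE (CommRingCat.of K) p n) :
    BddFib.FiniteOfDegLE (CommRingCat.of L) snd n := by
  rw [finiteOfDegLE_iff] at hp ⊢
  obtain ⟨haff, hp⟩ := hp
  have : IsAffine T' := .of_isIso h.isoPullback.hom
  exact ⟨this, (ringFinDegLE_iff_of_isPushout (isPushout_of_isPullback_SpecMap ψ h) n).mp hp⟩

theorem finiteOfDegLE_of_isPullback_descent {K L : Type u} [Field K] [Field L]
    (ψ : CommRingCat.of K ⟶ CommRingCat.of L) {T T' : Scheme.{u}}
    {p : T ⟶ Spec (CommRingCat.of K)} {fst : T' ⟶ T} {snd : T' ⟶ Spec (CommRingCat.of L)}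
    (h : IsPullback fst snd p (Spec.map ψ)) {n : ℕ}
    (hp : BddFib.FiniteOfDegLE (CommRingCat.of L) snd n) :
    BddFib.FiniteOfDegLE (CommRingCat.of K) p n := by
  obtain ⟨hfinT', hdiscT'⟩ := finite_discrete_of_finiteOfDegLE hp
  rw [finiteOfDegLE_iff] at hp ⊢
  obtain ⟨haff', hp⟩ := hp
  -- `fst` is a base change of `Spec L ⟶ Spec K`, hence flat, surjective and quasi-compact
  have hψflat : Flat (Spec.map ψ) := by
    rw [Flat.SpecMap_iff]
    exact RingHom.Flat.of_isField (Field.toIsField K) _
  have hψsurj : Surjective (Spec.map ψ) := by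
    constructor
    intro x
    exact ⟨default, Subsingleton.elim _ _⟩
  have hflat : Flat fst := MorphismProperty.of_isPullback h.flip hψflat
  have hsurj : Surjective fst := MorphismProperty.of_isPullback h.flip hψsurj
  have hqc : QuasiCompact fst := MorphismProperty.of_isPullback h.flip (inferInstance : QuasiCompact (Spec.map ψ))
  have hquot := Flat.isQuotientMap_of_surjective fst
  have : Finite T := Finite.of_surjective _ fst.surjective
  have : DiscreteTopology T := by
    rw [discreteTopology_iff_forall_isOpen]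
    intro s
    rw [← hquot.isOpen_preimage]
    exact isOpen_discrete _
  have haff : IsAffine T := inferInstance
  exact ⟨haff, (ringFinDegLE_iff_of_isPushout (isPushout_of_isPullback_SpecMap ψ h) n).mpr hp⟩

/-- A pullback along `Spec k ⟶ Spec κ(y) ⟶ Y` is a base change of the fibre over `y`. -/
theorem isPullback_fiber_of_comp {X Y : Scheme.{u}} (f : X ⟶ Y) (y : Y) {k : CommRingCat.{u}}
    (ψ : Y.residueField y ⟶ k) {P : Scheme.{u}} {fst : P ⟶ X} {snd : P ⟶ Spec k}
    (h : IsPullback fst snd f (Spec.map ψ ≫ Y.fromSpecResidueField y)) :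
    ∃ fst' : P ⟶ f.fiber y,
      IsPullback fst' snd (f.fiberToSpecResidueField y) (Spec.map ψ) := by
  have hw : fst ≫ f = (snd ≫ Spec.map ψ) ≫ Y.fromSpecResidueField y := by
    rw [Category.assoc, h.w]
  let fst' : P ⟶ f.fiber y := pullback.lift fst (snd ≫ Spec.map ψ) hw
  have e1 : fst' ≫ f.fiberι y = fst := pullback.lift_fst _ _ _
  have e2 : fst' ≫ f.fiberToSpecResidueField y = snd ≫ Spec.map ψ := pullback.lift_snd _ _ _
  refine ⟨fst', ?_⟩
  refine IsPullback.of_right (h₁₂ := f.fiberι y) (h₂₂ := Y.fromSpecResidueField y) (v₁₃ := f) ?_ e2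
    (IsPullback.of_hasPullback f (Y.fromSpecResidueField y))
  convert h

/-- The fibre over the image point, base changed to `k`, is the pullback along a `k`-point. -/
theorem isPullback_of_field_point {X Y : Scheme.{u}} (f : X ⟶ Y) (k : Type u) [Field k]
    (g : Spec (CommRingCat.of k) ⟶ Y) {P : Scheme.{u}} {fst : P ⟶ X}
    {snd : P ⟶ Spec (CommRingCat.of k)} (h : IsPullback fst snd f g) :
    ∃ (y : Y) (ψ : Y.residueField y ⟶ CommRingCat.of k) (fst' : P ⟶ f.fiber y),
      IsPullback fst' snd (f.fiberToSpecResidueField y) (Spec.map ψ) := by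
  have hg := Scheme.descResidueField_stalkClosedPointTo_fromSpecResidueField k Y g
  refine ⟨_, Scheme.descResidueField (Scheme.stalkClosedPointTo g), ?_⟩
  apply isPullback_fiber_of_comp
  rw [hg]
  exact h

theorem fibreDegLE_iff_forall_field_points {X Y : Scheme.{u}} (f : X ⟶ Y) (n : ℕ) :
    BddFib.FibreDegLE f n ↔ ∀ (k : Type u) [Field k] (g : Spec (CommRingCat.of k) ⟶ Y)
      (P : Scheme.{u}) (fst : P ⟶ X) (snd : P ⟶ Spec (CommRingCat.of k)),
      IsPullback fst snd f g → BddFib.FiniteOfDegLE (CommRingCat.of k) snd n := by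
  constructor
  · intro hf k _ g P fst snd h
    obtain ⟨y, ψ, fst', h'⟩ := isPullback_of_field_point f k g h
    exact finiteOfDegLE_of_isPullback ψ h' (hf y)
  · intro h y
    exact h (Y.residueField y) (Y.fromSpecResidueField y) _ _ _ (IsPullback.of_hasPullback _ _)

/-- A flat surjective image of a finite discrete scheme is finite discrete. -/
lemma finite_discrete_of_flat_surjective {X Y : Scheme.{u}} (f : X ⟶ Y) [Flat f] [Surjective f]
    [Finite X] [DiscreteTopology X] : Finite Y ∧ DiscreteTopology Y := by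
  have hqc : QuasiCompact f := ⟨fun U _ _ => (Set.toFinite _).isCompact⟩
  have hquot := Flat.isQuotientMap_of_surjective f
  refine ⟨Finite.of_surjective _ f.surjective, ?_⟩
  rw [discreteTopology_iff_forall_isOpen]
  intro s
  rw [← hquot.isOpen_preimage]
  exact isOpen_discrete _

/-- ring-level: a subalgebra of a finite algebra of degree `≤ n` over a field has degree `≤ n`. -/
lemma ringFinDegLE_of_comp_injective {K : Type u} [Field K] {B A : CommRingCat.{u}}
    (φ : CommRingCat.of K ⟶ B) (j : B ⟶ A) (hj : Function.Injective j) {n : ℕ}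
    (h : RingFinDegLE (φ ≫ j) n) : RingFinDegLE φ n := by
  unfold RingFinDegLE at h ⊢
  algebraize [φ.hom, j.hom, (φ ≫ j).hom]
  have : IsScalarTower K B A := .of_algebraMap_eq' rfl
  obtain ⟨hfin, hrk⟩ := h
  let l : B →ₗ[K] A := (IsScalarTower.toAlgHom K B A).toLinearMap
  have hl : Function.Injective l := hj
  exact ⟨Module.Finite.of_injective l hl, (LinearMap.finrank_le_finrank_of_injective hl).trans hrk⟩

/-- ring-level: a quotient of the base field has degree `≤ 1`. -/
lemma ringFinDegLE_one_of_surjective {K : Type u} [Field K] {A : CommRingCat.{u}}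
    (φ : CommRingCat.of K ⟶ A) (hφ : Function.Surjective φ) : RingFinDegLE φ 1 := by
  unfold RingFinDegLE
  algebraize [φ.hom]
  let l : K →ₗ[K] A := Algebra.linearMap K A
  have hl : Function.Surjective l := hφ
  refine ⟨Module.Finite.of_surjective l hl, ?_⟩
  have := LinearMap.finrank_le_finrank_of_surjective hl
  rwa [Module.finrank_self] at this

theorem finiteOfDegLE_of_flat_surjective {K : Type u} [Field K] {T S : Scheme.{u}}
    (q : T ⟶ S) [Flat q] [Surjective q] (p : S ⟶ Spec (CommRingCat.of K)) {n : ℕ}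
    (h : BddFib.FiniteOfDegLE (CommRingCat.of K) (q ≫ p) n) :
    BddFib.FiniteOfDegLE (CommRingCat.of K) p n := by
  obtain ⟨hfinT, hdiscT⟩ := finite_discrete_of_finiteOfDegLE h
  obtain ⟨hfinS, hdiscS⟩ := finite_discrete_of_flat_surjective q
  rw [finiteOfDegLE_iff] at h ⊢
  obtain ⟨haffT, h⟩ := h
  have haffS : IsAffine S := inferInstance
  refine ⟨haffS, ?_⟩
  have hinj : Function.Injective q.appTop :=
    ((Flat.flat_and_surjective_iff_faithfullyFlat_of_isAffine q).mp ⟨inferInstance, inferInstance⟩).injective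
  refine ringFinDegLE_of_comp_injective _ q.appTop hinj ?_
  simpa using h

/-- A preimmersion into the spectrum of a field is finite of degree at most one. -/
theorem finiteOfDegLE_one_of_isPreimmersion {K : Type u} [Field K] {T : Scheme.{u}}
    (p : T ⟶ Spec (CommRingCat.of K)) [IsPreimmersion p] :
    BddFib.FiniteOfDegLE (CommRingCat.of K) p 1 := by
  have : DiscreteTopology (Spec (CommRingCat.of K)) :=
    inferInstanceAs (DiscreteTopology (PrimeSpectrum K))
  have hcl : IsClosedImmersion p := .of_isPreimmersion p (isClosed_discrete _)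
  obtain ⟨haff, hsurj⟩ := IsClosedImmersion.isAffine_surjective_of_isAffine p
  rw [finiteOfDegLE_iff]
  refine ⟨haff, ringFinDegLE_one_of_surjective _ ?_⟩
  intro a
  obtain ⟨b, hb⟩ := hsurj a
  obtain ⟨c, hc⟩ := (ConcreteCategory.bijective_of_isIso (Scheme.ΓSpecIso (CommRingCat.of K)).inv).2 b
  exact ⟨c, by rw [CommRingCat.comp_apply, hc, hb]⟩

lemma isoSpec_hom_comp_SpecMap {K : CommRingCat.{u}} {T : Scheme.{u}} [IsAffine T] (p : T ⟶ Spec K) :
    T.isoSpec.hom ≫ Spec.map ((Scheme.ΓSpecIso K).inv ≫ p.appTop) = p := by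
  rw [Spec.map_comp, ← Category.assoc, Scheme.isoSpec_hom, ← Scheme.toSpecΓ_naturality]
  simp

/-- A finite morphism to the spectrum of a field is finite of degree its `finrank`. -/
theorem finiteOfDegLE_of_isFinite {K : Type u} [Field K] {T : Scheme.{u}}
    (p : T ⟶ Spec (CommRingCat.of K)) [IsFinite p] (x : Spec (CommRingCat.of K)) :
    BddFib.FiniteOfDegLE (CommRingCat.of K) p (p.finrank x) := by
  have haff : IsAffine T := isAffine_of_isAffineHom p
  rw [finiteOfDegLE_iff]
  refine ⟨haff, ?_⟩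
  set φ := (Scheme.ΓSpecIso (CommRingCat.of K)).inv ≫ p.appTop with hφ
  have hp : T.isoSpec.hom ≫ Spec.map φ = p := isoSpec_hom_comp_SpecMap p
  have hφflat : φ.hom.Flat := RingHom.Flat.of_isField (Field.toIsField K) _
  have hfin' : IsFinite (Spec.map φ) := by
    have : Spec.map φ = T.isoSpec.inv ≫ p := by rw [← hp]; simp
    rw [this]
    infer_instance
  have hφfin : φ.hom.Finite := by rwa [IsFinite.SpecMap_iff] at hfin'
  have hflat' : Flat (Spec.map φ) := by rwa [Flat.SpecMap_iff]
  have h1 : p.finrank x = φ.hom.finrank x := by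
    conv_lhs => rw [← hp]
    rw [Scheme.Hom.finrank_comp_left_of_isIso, Scheme.Hom.finrank_SpecMap_eq_finrank hφfin hφflat]
  rw [h1]
  unfold RingFinDegLE
  algebraize [φ.hom]
  refine ⟨hφfin, ?_⟩
  have h2 : φ.hom.finrank x = Module.finrank K Γ(T, ⊤) := by
    rw [← RingHom.algebraMap_toAlgebra φ.hom, RingHom.finrank_algebraMap,
      Module.rankAtStalk_eq_finrank_of_free]
    rfl
  rw [h2]

lemma finiteOfDegLE_mono {K : CommRingCat.{u}} {T : Scheme.{u}} {p : T ⟶ Spec K} {n m : ℕ}
    (h : BddFib.FiniteOfDegLE K p n) (hnm : n ≤ m) : BddFib.FiniteOfDegLE K p m :=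
  ⟨h.1, h.2.1, h.2.2.trans hnm⟩

theorem finiteOfDegLE_of_isFinite_of_le {K : Type u} [Field K] {T : Scheme.{u}}
    (p : T ⟶ Spec (CommRingCat.of K)) [IsFinite p] (x : Spec (CommRingCat.of K)) {n : ℕ}
    (hn : p.finrank x ≤ n) :
    BddFib.FiniteOfDegLE (CommRingCat.of K) p n :=
  finiteOfDegLE_mono (finiteOfDegLE_of_isFinite p x) hn

/-- For a finite algebra over a field, the sum of the degrees of the residue fields at the maximal
ideals is at most the degree. -/
lemma sum_finrank_quotient_le_finrank (k A : Type*) [Field k] [CommRing A] [Algebra k A]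
    [Module.Finite k A] [IsArtinianRing A] [Fintype (MaximalSpectrum A)] :
    ∑ I : MaximalSpectrum A, Module.finrank k (A ⧸ I.asIdeal) ≤ Module.finrank k A := by
  let e := (IsArtinianRing.quotNilradicalEquivPi A).restrictScalars k
  have h1 : Module.finrank k (A ⧸ nilradical A) =
      ∑ I : MaximalSpectrum A, Module.finrank k (A ⧸ I.asIdeal) := by
    rw [e.toLinearEquiv.finrank_eq, Module.finrank_pi_fintype]
  have h2 : Module.finrank k (A ⧸ nilradical A) ≤ Module.finrank k A :=
    LinearMap.finrank_le_finrank_of_surjective (f := (Ideal.Quotient.mkₐ k (nilradical A)).toLinearMap)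
      Ideal.Quotient.mk_surjective
  rw [← h1]
  exact h2

lemma card_primeSpectrum_le_finrank (k A : Type*) [Field k] [CommRing A] [Algebra k A]
    [Module.Finite k A] :
    Finite (PrimeSpectrum A) ∧ Nat.card (PrimeSpectrum A) ≤ Module.finrank k A := by
  have : IsArtinianRing A := IsArtinianRing.of_finite k A
  refine ⟨inferInstance, ?_⟩
  rw [Nat.card_congr IsArtinianRing.primeSpectrumEquivMaximalSpectrum]
  have : Fintype (MaximalSpectrum A) := Fintype.ofFinite _
  have h3 : ∀ I : MaximalSpectrum A, 1 ≤ Module.finrank k (A ⧸ I.asIdeal) := fun I => by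
    have : Nontrivial (A ⧸ I.asIdeal) := Ideal.Quotient.nontrivial_iff.mpr I.isMaximal.ne_top
    exact Module.finrank_pos
  calc Nat.card (MaximalSpectrum A) = ∑ I : MaximalSpectrum A, 1 := by simp
    _ ≤ ∑ I : MaximalSpectrum A, Module.finrank k (A ⧸ I.asIdeal) :=
        Finset.sum_le_sum (fun I _ => h3 I)
    _ ≤ _ := sum_finrank_quotient_le_finrank k A

theorem card_le_of_finiteOfDegLE {K : Type u} [Field K] {T : Scheme.{u}}
    {p : T ⟶ Spec (CommRingCat.of K)} {n : ℕ} (h : BddFib.FiniteOfDegLE (CommRingCat.of K) p n) :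
    Finite T ∧ Nat.card T ≤ n := by
  obtain ⟨haff, hfin, hrk⟩ := h
  let _ : Algebra K Γ(T, ⊤) := BddFib.secAlgebra (CommRingCat.of K) p
  obtain ⟨h1, h2⟩ := card_primeSpectrum_le_finrank K Γ(T, ⊤)
  let e : T ≃ₜ Spec Γ(T, ⊤) := T.isoSpec.hom.homeomorph
  have h1' : Finite (Spec Γ(T, ⊤)) := h1
  refine ⟨Finite.of_equiv _ e.symm.toEquiv, ?_⟩
  rw [Nat.card_congr e.toEquiv]
  exact h2.trans hrk

lemma etale_field_algebra_facts (K A : Type u) [Field K] [CommRing A] [Algebra K A] [Algebra.Etale K A] :
    Module.Finite K A ∧ IsArtinianRing A := by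
  have h1 : Module.Finite K A := Algebra.FormallyUnramified.finite_of_free K A
  exact ⟨h1, IsArtinianRing.of_finite K A⟩

/-- An étale scheme with finitely many points over a separably closed field is finite of degree
equal to the number of points. -/
theorem finiteOfDegLE_of_etale_of_isSepClosed {K : Type u} [Field K] [IsSepClosed K] {T : Scheme.{u}}
    (p : T ⟶ Spec (CommRingCat.of K)) [Etale p] [Finite T] :
    BddFib.FiniteOfDegLE (CommRingCat.of K) p (Nat.card T) := by
  -- `T` is discrete
  have hdisc : DiscreteTopology T := by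
    rw [discreteTopology_iff_isOpen_singleton]
    intro x
    obtain ⟨U, hU, hxU, -⟩ := exists_isAffineOpen_mem_and_subset (X := T) (x := x) (U := ⊤) trivial
    have hEt : (p.appLE ⊤ U le_top).hom.Etale :=
      HasRingHomProperty.appLE (P := @Etale) p inferInstance ⟨⊤, isAffineOpen_top _⟩ ⟨U, hU⟩ le_top
    have hφ : (((Scheme.ΓSpecIso (CommRingCat.of K)).inv ≫ p.appLE ⊤ U le_top).hom).Etale := by
      rw [CommRingCat.hom_comp]
      exact RingHom.Etale.stableUnderComposition _ _
        (RingHom.Etale.of_bijective (ConcreteCategory.bijective_of_isIso _)) hEt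
    algebraize [((Scheme.ΓSpecIso (CommRingCat.of K)).inv ≫ p.appLE ⊤ U le_top).hom]
    obtain ⟨-, hart⟩ := etale_field_algebra_facts K Γ(T, U)
    have : DiscreteTopology (Spec Γ(T, U)) := inferInstanceAs (DiscreteTopology (PrimeSpectrum Γ(T, U)))
    have : DiscreteTopology U.toScheme := hU.isoSpec.hom.homeomorph.symm.discreteTopology
    obtain ⟨x', rfl⟩ : ∃ x' : U.toScheme, U.ι x' = x := ⟨⟨x, hxU⟩, rfl⟩
    have h1 : IsOpen ({x'} : Set U.toScheme) := isOpen_discrete _
    have h2 := U.ι.isOpenEmbedding.isOpenMap _ h1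
    rwa [Set.image_singleton] at h2
  have haff : IsAffine T := inferInstance
  have hEt : (p.appTop).hom.Etale := by
    have := HasRingHomProperty.appLE (P := @Etale) p inferInstance ⟨⊤, isAffineOpen_top _⟩
      ⟨⊤, isAffineOpen_top T⟩ le_top
    have e : p.appLE ⊤ ⊤ le_top = p.appTop := p.appLE_eq_app (U := ⊤)
    rwa [e] at this
  have hφ : (((Scheme.ΓSpecIso (CommRingCat.of K)).inv ≫ p.appTop).hom).Etale := by
    rw [CommRingCat.hom_comp]
    exact RingHom.Etale.stableUnderComposition _ _
      (RingHom.Etale.of_bijective (ConcreteCategory.bijective_of_isIso _)) hEt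
  refine ⟨haff, ?_⟩
  letI : Algebra K Γ(T, ⊤) := BddFib.secAlgebra (CommRingCat.of K) p
  have hEtA : Algebra.Etale K Γ(T, ⊤) := RingHom.etale_algebraMap.mp hφ
  let e := Algebra.FormallyEtale.equivPiOfIsSepClosed K Γ(T, ⊤)
  have hfinPS : Finite (PrimeSpectrum Γ(T, ⊤)) :=
    Finite.of_equiv T T.isoSpec.hom.homeomorph.toEquiv
  have hcard : Nat.card (PrimeSpectrum Γ(T, ⊤)) = Nat.card T :=
    (Nat.card_congr T.isoSpec.hom.homeomorph.toEquiv).symm
  have := Fintype.ofFinite (PrimeSpectrum Γ(T, ⊤))
  refine ⟨Module.Finite.equiv e.symm.toLinearEquiv, ?_⟩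
  rw [LinearEquiv.finrank_eq e.toLinearEquiv, Module.finrank_fintype_fun_eq_card, ← hcard,
    Nat.card_eq_fintype_card]

end Groth.Agent.Lib.Helper38
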