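import Mathlib.Topology.Spectral.Basic
import Mathlib.Topology.Spectral.Hom
import Mathlib.Topology.Spectral.ConstructibleTopology
import Mathlib.Topology.Separation.Hausdorff
import Mathlib.Topology.Homeomorph.Lemmas
import Mathlib.Topology.Inseparable

/-!
Helper library for spectral spaces and the constructible topology (family `SpecSp`).
-/

set_option autoImplicit false
universe u
open Topology Set TopologicalSpace

namespace Groth.Agent.Lib.Helper38.Spec

variable {X : Type*} [tX : TopologicalSpace X]

/-- The constructible topology is finer than the original one. -/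
lemma ct_le [PrespectralSpace X] : constructibleTopology X ≤ tX := by
  rw [TopologicalSpace.le_def]
  intro U hU
  have hb := PrespectralSpace.isTopologicalBasis (X := X)
  obtain ⟨S, hS, rfl⟩ := hb.open_eq_sUnion hU
  exact @isOpen_sUnion X (constructibleTopology X) S fun s hs =>
    IsCompact.isOpen_constructibleTopology_of_isOpen (hS hs).2 (hS hs).1

lemma isOpen_ct_of_isOpen [PrespectralSpace X] {U : Set X} (hU : IsOpen U) :
    IsOpen[constructibleTopology X] U :=
  TopologicalSpace.le_def.mp ct_le U hU

lemma isClosed_ct_of_isClosed [PrespectralSpace X] {Z : Set X} (hZ : IsClosed Z) :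
    IsClosed[constructibleTopology X] Z := by
  rw [← @isOpen_compl_iff X Z (constructibleTopology X)]
  exact isOpen_ct_of_isOpen hZ.isOpen_compl

lemma isClosed_ct_of_isCompact_isOpen {U : Set X} (hc : IsCompact U) (ho : IsOpen U) :
    IsClosed[constructibleTopology X] U := by
  rw [← @isOpen_compl_iff X U (constructibleTopology X)]
  exact IsCompact.isOpen_constructibleTopology_of_isClosed (by simpa using hc) ho.isClosed_compl

lemma continuous_id_ct [PrespectralSpace X] :
    @Continuous X X (constructibleTopology X) tX id :=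
  continuous_id_of_le ct_le

lemma compactSpace_ct [SpectralSpace X] : @CompactSpace X (constructibleTopology X) :=
  @Function.Surjective.compactSpace (WithConstructibleTopology X) X _ (constructibleTopology X)
    WithTopology.ofTopology (WithTopology.continuous_ofTopology _) inferInstance
    (WithTopology.ofTopology_surjective _)

/-- In a T0 prespectral space two distinct points are separated by a compact open. -/
lemma exists_isCompact_isOpen_mem_notMem [T0Space X] [PrespectralSpace X] {x y : X} (h : x ≠ y) :
    ∃ U : Set X, IsOpen U ∧ IsCompact U ∧ ((x ∈ U ∧ y ∉ U) ∨ (y ∈ U ∧ x ∉ U)) := by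
  obtain ⟨V, hV, hxy⟩ := exists_isOpen_xor_mem h
  have hb := PrespectralSpace.isTopologicalBasis (X := X)
  rcases hxy with ⟨hx, hy⟩ | ⟨hy, hx⟩
  · obtain ⟨U, hU, hxU, hUV⟩ := hb.exists_subset_of_mem_open hx hV
    exact ⟨U, hU.1, hU.2, Or.inl ⟨hxU, fun h => hy (hUV h)⟩⟩
  · obtain ⟨U, hU, hyU, hUV⟩ := hb.exists_subset_of_mem_open hy hV
    exact ⟨U, hU.1, hU.2, Or.inr ⟨hyU, fun h => hx (hUV h)⟩⟩

lemma t2Space_ct [T0Space X] [PrespectralSpace X] : @T2Space X (constructibleTopology X) := by
  refine @T2Space.mk X (constructibleTopology X) fun x y hxy => ?_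
  obtain ⟨U, hUo, hUc, h⟩ := exists_isCompact_isOpen_mem_notMem hxy
  have h1 : IsOpen[constructibleTopology X] U :=
    IsCompact.isOpen_constructibleTopology_of_isOpen hUc hUo
  have h2 : IsOpen[constructibleTopology X] Uᶜ :=
    (@isOpen_compl_iff X U (constructibleTopology X)).mpr (isClosed_ct_of_isCompact_isOpen hUc hUo)
  rcases h with ⟨hx, hy⟩ | ⟨hy, hx⟩
  · exact ⟨U, Uᶜ, h1, h2, hx, hy, disjoint_compl_right⟩
  · exact ⟨Uᶜ, U, h2, h1, hx, hy, disjoint_compl_left⟩

lemma isCompact_ct_of_isClosed_ct [SpectralSpace X] {E : Set X}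
    (hE : IsClosed[constructibleTopology X] E) : @IsCompact X (constructibleTopology X) E :=
  @IsClosed.isCompact X (constructibleTopology X) E compactSpace_ct hE

lemma isCompact_of_isClosed_ct [SpectralSpace X] {E : Set X}
    (hE : IsClosed[constructibleTopology X] E) : IsCompact E := by
  have h := isCompact_ct_of_isClosed_ct hE
  have := @IsCompact.image X X (constructibleTopology X) tX E id h continuous_id_ct
  simpa using this

/-- Every point of the closure of a constructibly closed set is a specialization of a point of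
the set. -/
lemma exists_specializes_of_mem_closure [SpectralSpace X] {E : Set X}
    (hE : IsClosed[constructibleTopology X] E) {x : X} (hx : x ∈ closure E) :
    ∃ e ∈ E, e ⤳ x := by
  have hEc := isCompact_ct_of_isClosed_ct hE
  let ι := {U : Set X // IsOpen U ∧ IsCompact U ∧ x ∈ U}
  have key := @IsCompact.inter_iInter_nonempty X (constructibleTopology X) E ι hEc
    (fun U => U.1) (fun U => isClosed_ct_of_isCompact_isOpen U.2.2.1 U.2.1) ?_
  · obtain ⟨e, heE, he⟩ := key
    refine ⟨e, heE, ?_⟩
    rw [specializes_iff_forall_open]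
    intro s hs hxs
    obtain ⟨U, hU, hxU, hUs⟩ :=
      (PrespectralSpace.isTopologicalBasis (X := X)).exists_subset_of_mem_open hxs hs
    exact hUs (mem_iInter.mp he ⟨U, hU.1, hU.2, hxU⟩)
  · intro u
    have hopen : IsOpen (⋂ i ∈ u, (i : ι).1) := isOpen_biInter_finset fun i _ => i.2.1
    have hxmem : x ∈ ⋂ i ∈ u, (i : ι).1 := by
      simp only [mem_iInter]
      exact fun i _ => i.2.2.2
    obtain ⟨z, hz1, hz2⟩ := mem_closure_iff.mp hx _ hopen hxmem
    exact ⟨z, hz2, hz1⟩

lemma isClosed_of_isClosed_ct_of_stableUnderSpecialization [SpectralSpace X] {E : Set X}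
    (hE : IsClosed[constructibleTopology X] E) (hs : StableUnderSpecialization E) : IsClosed E := by
  rw [← closure_subset_iff_isClosed]
  intro x hx
  obtain ⟨e, he, hex⟩ := exists_specializes_of_mem_closure hE hx
  exact hs hex he

lemma isOpen_of_isOpen_ct_of_stableUnderGeneralization [SpectralSpace X] {E : Set X}
    (hE : IsOpen[constructibleTopology X] E) (hs : StableUnderGeneralization E) : IsOpen E := by
  rw [← isClosed_compl_iff]
  refine isClosed_of_isClosed_ct_of_stableUnderSpecialization ?_ hs.compl
  exact (@isClosed_compl_iff X (constructibleTopology X) E).mpr hE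

section maps

variable {Y : Type*} [tY : TopologicalSpace Y] {f : X → Y}

lemma continuous_ct_of_isSpectralMap (hf : IsSpectralMap f) :
    @Continuous X Y (constructibleTopology X) (constructibleTopology Y) f := by
  refine (@continuous_generateFrom_iff X Y f (constructibleTopology X)
    (constructibleTopologySubbasis Y)).mpr ?_
  rintro s (⟨ho, hc⟩ | ⟨hcl, hc⟩)
  · exact IsCompact.isOpen_constructibleTopology_of_isOpen
      (hf.isCompact_preimage_of_isOpen ho hc) (ho.preimage hf.continuous)
  · have : IsCompact (f ⁻¹' sᶜ) := hf.isCompact_preimage_of_isOpen hcl.isOpen_compl hc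
    exact IsCompact.isOpen_constructibleTopology_of_isClosed (by simpa [preimage_compl] using this)
      (hcl.preimage hf.continuous)

lemma isSpectralMap_of_continuous_ct [SpectralSpace X] (hf : Continuous f)
    (hc : @Continuous X Y (constructibleTopology X) (constructibleTopology Y) f) :
    IsSpectralMap f := by
  refine ⟨hf, fun s hso hsc => ?_⟩
  have h1 : IsClosed[constructibleTopology Y] s := isClosed_ct_of_isCompact_isOpen hsc hso
  have h2 : IsClosed[constructibleTopology X] (f ⁻¹' s) :=
    @IsClosed.preimage X Y (constructibleTopology X) (constructibleTopology Y) f hc s h1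
  exact isCompact_of_isClosed_ct h2

lemma isClosedMap_ct_of_isSpectralMap [SpectralSpace X] [T0Space Y] [PrespectralSpace Y]
    (hf : IsSpectralMap f) :
    @IsClosedMap X Y (constructibleTopology X) (constructibleTopology Y) f :=
  @Continuous.isClosedMap X Y (constructibleTopology X) (constructibleTopology Y) compactSpace_ct
    t2Space_ct f (continuous_ct_of_isSpectralMap hf)

lemma isCompact_fiber_of_isSpectralMap [SpectralSpace X] [T0Space Y] [PrespectralSpace Y]
    (hf : IsSpectralMap f) (y : Y) : IsCompact (f ⁻¹' {y}) := by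
  have h1 : IsClosed[constructibleTopology Y] {y} :=
    @isClosed_singleton Y (constructibleTopology Y)
      (@T2Space.t1Space Y (constructibleTopology Y) t2Space_ct) y
  have h2 : IsClosed[constructibleTopology X] (f ⁻¹' {y}) :=
    @IsClosed.preimage X Y (constructibleTopology X) (constructibleTopology Y) f
      (continuous_ct_of_isSpectralMap hf) _ h1
  exact isCompact_of_isClosed_ct h2

lemma isClosed_ct_range_of_isSpectralMap [SpectralSpace X] [T0Space Y] [PrespectralSpace Y]
    (hf : IsSpectralMap f) : IsClosed[constructibleTopology Y] (Set.range f) := by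
  have := isClosedMap_ct_of_isSpectralMap hf univ (@isClosed_univ X (constructibleTopology X))
  rwa [image_univ] at this

theorem isHomeomorph_of_isSpectralMap_bijective [SpectralSpace X] [SpectralSpace Y]
    (hf : IsSpectralMap f) (hb : Function.Bijective f)
    (hlift : GeneralizingMap f ∨ SpecializingMap f) : IsHomeomorph f := by
  have hcl := isClosedMap_ct_of_isSpectralMap hf
  rcases hlift with hg | hs
  · refine ⟨hf.continuous, fun U hU => ?_, hb⟩
    apply isOpen_of_isOpen_ct_of_stableUnderGeneralization
    · have h1 : IsClosed[constructibleTopology X] Uᶜ :=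
        isClosed_ct_of_isClosed hU.isClosed_compl
      have h2 := hcl _ h1
      rw [image_compl_eq hb] at h2
      exact (@isClosed_compl_iff Y (constructibleTopology Y) (f '' U)).mp h2
    · exact hg.stableUnderGeneralization_image hU.stableUnderGeneralization
  · rw [isHomeomorph_iff_continuous_isClosedMap_bijective]
    refine ⟨hf.continuous, fun Z hZ => ?_, hb⟩
    apply isClosed_of_isClosed_ct_of_stableUnderSpecialization
    · exact hcl _ (isClosed_ct_of_isClosed hZ)
    · exact hs.stableUnderSpecialization_image hZ.stableUnderSpecialization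

end maps

/-- Two points of a spectral space have a common generalization or disjoint neighbourhoods. -/
theorem exists_common_generalization_or_disjoint_nhds [SpectralSpace X] (x y : X) :
    (∃ z : X, z ⤳ x ∧ z ⤳ y) ∨
    (∃ U V : Set X, IsOpen U ∧ IsOpen V ∧ x ∈ U ∧ y ∈ V ∧ Disjoint U V) := by
  by_cases h : ∃ U V : Set X, IsOpen U ∧ IsOpen V ∧ x ∈ U ∧ y ∈ V ∧ Disjoint U V
  · exact Or.inr h
  left
  push Not at h
  let ι := {U : Set X // IsOpen U ∧ IsCompact U ∧ (x ∈ U ∨ y ∈ U)}
  have key := @IsCompact.inter_iInter_nonempty X (constructibleTopology X) univ ι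
    (@isCompact_univ X (constructibleTopology X) compactSpace_ct)
    (fun U => U.1) (fun U => isClosed_ct_of_isCompact_isOpen U.2.2.1 U.2.1) ?_
  · obtain ⟨z, -, hz⟩ := key
    have hb := PrespectralSpace.isTopologicalBasis (X := X)
    refine ⟨z, ?_, ?_⟩
    · rw [specializes_iff_forall_open]
      intro s hs hxs
      obtain ⟨U, hU, hxU, hUs⟩ := hb.exists_subset_of_mem_open hxs hs
      exact hUs (mem_iInter.mp hz ⟨U, hU.1, hU.2, Or.inl hxU⟩)
    · rw [specializes_iff_forall_open]
      intro s hs hys
      obtain ⟨U, hU, hyU, hUs⟩ := hb.exists_subset_of_mem_open hys hs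
      exact hUs (mem_iInter.mp hz ⟨U, hU.1, hU.2, Or.inr hyU⟩)
  · intro u
    rw [univ_inter]
    -- split the finite family according to whether the set contains `x`
    classical
    let A : Set X := ⋂ i ∈ u, if x ∈ (i : ι).1 then (i : ι).1 else univ
    let B : Set X := ⋂ i ∈ u, if x ∈ (i : ι).1 then univ else (i : ι).1
    have hA : IsOpen A := isOpen_biInter_finset fun i _ => by
      split_ifs
      · exact i.2.1
      · exact isOpen_univ
    have hB : IsOpen B := isOpen_biInter_finset fun i _ => by
      split_ifs
      · exact isOpen_univ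
      · exact i.2.1
    have hxA : x ∈ A := by
      simp only [A, mem_iInter]
      intro i _
      split_ifs with hi
      · exact hi
      · exact mem_univ _
    have hyB : y ∈ B := by
      simp only [B, mem_iInter]
      intro i _
      split_ifs with hi
      · exact mem_univ _
      · exact i.2.2.2.resolve_left hi
    have hAB := h A B hA hB hxA hyB
    rw [Set.not_disjoint_iff] at hAB
    obtain ⟨z, hzA, hzB⟩ := hAB
    refine ⟨z, ?_⟩
    simp only [mem_iInter]
    intro i hi
    by_cases hxi : x ∈ (i : ι).1
    · have := mem_iInter₂.mp hzA i hi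
      simpa [hxi] using this
    · have := mem_iInter₂.mp hzB i hi
      simpa [hxi] using this

section subspace

lemma isSpectralMap_subtypeVal [SpectralSpace X] {E : Set X}
    (hE : IsClosed[constructibleTopology X] E) : IsSpectralMap (Subtype.val : E → X) := by
  refine ⟨continuous_subtype_val, fun U hUo hUc => ?_⟩
  rw [Subtype.isCompact_iff, Subtype.image_preimage_coe]
  apply isCompact_of_isClosed_ct
  exact @IsClosed.inter X E U (constructibleTopology X) hE (isClosed_ct_of_isCompact_isOpen hUc hUo)

theorem spectralSpace_of_isClosed_ct [SpectralSpace X] {E : Set X}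
    (hE : IsClosed[constructibleTopology X] E) : SpectralSpace E := by
  have hsp := isSpectralMap_subtypeVal hE
  have hind : IsInducing (Subtype.val : E → X) := IsInducing.subtypeVal
  have h1 : CompactSpace E := isCompact_iff_compactSpace.mp (isCompact_of_isClosed_ct hE)
  have h2 : PrespectralSpace E := .of_isInducing _ hind hsp
  have h3 : QuasiSeparatedSpace E := by
    let b : {U : Set X // IsOpen U ∧ IsCompact U} → Set E := fun U => Subtype.val ⁻¹' U.1
    have hb : IsTopologicalBasis (Set.range b) := by
      have := (PrespectralSpace.isTopologicalBasis (X := X)).isInducing hind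
      convert this using 1
      ext s
      simp only [b, mem_range, Subtype.exists, mem_image, mem_ofPred_eq]
      constructor
      · rintro ⟨U, hU, rfl⟩
        exact ⟨U, hU, rfl⟩
      · rintro ⟨U, hU, rfl⟩
        exact ⟨U, hU, rfl⟩
    refine QuasiSeparatedSpace.of_isTopologicalBasis hb fun U V => ?_
    have : b U ∩ b V = Subtype.val ⁻¹' (U.1 ∩ V.1) := by simp [b, preimage_inter]
    rw [this]
    exact hsp.isCompact_preimage_of_isOpen (U.2.1.inter V.2.1)
      (QuasiSeparatedSpace.inter_isCompact _ _ U.2.1 U.2.2 V.2.1 V.2.2)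
  have h4 : QuasiSober E := by
    refine ⟨fun {S} hS hScl => ?_⟩
    have hS' : IsIrreducible (Subtype.val '' S) := hS.image _ continuous_subtype_val.continuousOn
    obtain ⟨T, hT, rfl⟩ := hind.isClosed_iff.mp hScl
    have himg : Subtype.val '' (Subtype.val ⁻¹' T : Set E) = T ∩ E := by
      rw [Subtype.image_preimage_coe, inter_comm]
    have hct : IsClosed[constructibleTopology X] (Subtype.val '' (Subtype.val ⁻¹' T : Set E)) := by
      rw [himg]
      exact @IsClosed.inter X T E (constructibleTopology X) (isClosed_ct_of_isClosed hT) hE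
    obtain ⟨η, hη⟩ := QuasiSober.sober hS'.closure isClosed_closure
    obtain ⟨e, he, heη⟩ := exists_specializes_of_mem_closure hct hη.mem
    have hηe : η ⤳ e := hη.specializes (subset_closure he)
    have : e = η := (heη.antisymm hηe).eq
    subst this
    obtain ⟨s, hs, rfl⟩ := he
    refine ⟨s, ?_⟩
    rw [IsGenericPoint, hind.closure_eq_preimage_closure_image, image_singleton, hη.def,
      ← hind.closure_eq_preimage_closure_image, hScl.closure_eq]
  exact { toT0Space := inferInstance, toCompactSpace := h1, toQuasiSober := h4,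
          toQuasiSeparatedSpace := h3, toPrespectralSpace := h2 }

end subspace

section product

variable {Y : Type*} [tY : TopologicalSpace Y]

lemma quasiSober_prod [QuasiSober X] [QuasiSober Y] : QuasiSober (X × Y) := by
  refine ⟨fun {S} hS hScl => ?_⟩
  have hS1 : IsIrreducible (Prod.fst '' S) := hS.image _ continuous_fst.continuousOn
  have hS2 : IsIrreducible (Prod.snd '' S) := hS.image _ continuous_snd.continuousOn
  obtain ⟨ξ, hξ⟩ := QuasiSober.sober hS1.closure isClosed_closure
  obtain ⟨η, hη⟩ := QuasiSober.sober hS2.closure isClosed_closure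
  refine ⟨(ξ, η), ?_⟩
  have hmem : (ξ, η) ∈ S := by
    by_contra hnot
    have hopen : IsOpen Sᶜ := hScl.isOpen_compl
    obtain ⟨U, V, hU, hV, hξU, hηV, hUV⟩ := isOpen_prod_iff.mp hopen ξ η hnot
    obtain ⟨a, haU, ⟨p, hp, rfl⟩⟩ := mem_closure_iff.mp hξ.mem U hU hξU
    obtain ⟨b, hbV, ⟨q, hq, rfl⟩⟩ := mem_closure_iff.mp hη.mem V hV hηV
    have := hS.isPreirreducible (U ×ˢ univ) (univ ×ˢ V) (hU.prod isOpen_univ) (isOpen_univ.prod hV)
      ⟨p, hp, ⟨haU, mem_univ _⟩⟩ ⟨q, hq, ⟨mem_univ _, hbV⟩⟩
    obtain ⟨z, hzS, hz1, hz2⟩ := this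
    exact hUV (show z ∈ U ×ˢ V from ⟨hz1.1, hz2.2⟩) hzS
  apply subset_antisymm
  · exact (closure_minimal (singleton_subset_iff.mpr hmem) hScl)
  · rw [← singleton_prod_singleton, closure_prod_eq, hξ.def, hη.def]
    intro z hz
    exact ⟨subset_closure ⟨z, hz, rfl⟩, subset_closure ⟨z, hz, rfl⟩⟩

theorem spectralSpace_prod [SpectralSpace X] [SpectralSpace Y] : SpectralSpace (X × Y) := by
  have hbX := PrespectralSpace.isTopologicalBasis (X := X)
  have hbY := PrespectralSpace.isTopologicalBasis (X := Y)
  let b : {U : Set X // IsOpen U ∧ IsCompact U} × {V : Set Y // IsOpen V ∧ IsCompact V} →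
      Set (X × Y) := fun p => p.1.1 ×ˢ p.2.1
  have hb : IsTopologicalBasis (Set.range b) := by
    convert hbX.prod hbY using 1
    ext s
    simp only [b, mem_range, Prod.exists, Subtype.exists, mem_image2, mem_ofPred_eq]
    constructor
    · rintro ⟨U, hU, V, hV, rfl⟩
      exact ⟨U, hU, V, hV, rfl⟩
    · rintro ⟨U, hU, V, hV, rfl⟩
      exact ⟨U, hU, V, hV, rfl⟩
  have h2 : PrespectralSpace (X × Y) :=
    .of_isTopologicalBasis' hb fun p => p.1.2.2.prod p.2.2.2
  have h3 : QuasiSeparatedSpace (X × Y) := by
    refine QuasiSeparatedSpace.of_isTopologicalBasis hb fun p q => ?_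
    simp only [b, prod_inter_prod]
    exact (QuasiSeparatedSpace.inter_isCompact _ _ p.1.2.1 p.1.2.2 q.1.2.1 q.1.2.2).prod
      (QuasiSeparatedSpace.inter_isCompact _ _ p.2.2.1 p.2.2.2 q.2.2.1 q.2.2.2)
  exact { toT0Space := inferInstance, toCompactSpace := inferInstance,
          toQuasiSober := quasiSober_prod, toQuasiSeparatedSpace := h3, toPrespectralSpace := h2 }

end product

end Groth.Agent.Lib.Helper38.Spec
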