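import Groth.Prelude.Def_HTop
import Mathlib.AlgebraicGeometry.ValuativeCriterion
import Mathlib.AlgebraicGeometry.Morphisms.UniversallyOpen
import Groth.Agent.Lib.Helper38.Spectral

set_option autoImplicit false
universe w u

open CategoryTheory CategoryTheory.Limits AlgebraicGeometry IsLocalRing

namespace Groth.Agent.Lib.Helper38.HTopV

/-- A specialization `p' ⤳ p` in a scheme is realised by a valuation ring. -/
theorem exists_valuationRing_of_specializes {P : Scheme.{u}} {p' p : P} (h : p' ⤳ p) :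
    ∃ (W : CommRingCat.{u}) (_ : IsDomain W) (_ : ValuationRing W) (ι : Spec W ⟶ P),
      ι (closedPoint W) = p ∧ ι (⊥ : PrimeSpectrum W) = p' := by
  let stp : P.presheaf.stalk p ⟶ P.residueField p' :=
    P.presheaf.stalkSpecializes h ≫ P.residue p'
  obtain ⟨A, hA, hA_local⟩ := exists_factor_valuationRing stp.hom
  let stA : P.presheaf.stalk p ⟶ .of A :=
    CommRingCat.ofHom (stp.hom.codRestrict _ hA)
  have w : P.fromSpecResidueField p' =
      Spec.map (CommRingCat.ofHom (algebraMap A (P.residueField p'))) ≫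
        Spec.map stA ≫ P.fromSpecStalk p := by
    rw [Scheme.fromSpecResidueField, ← Scheme.SpecMap_stalkSpecializes_fromSpecStalk h]
    simp_rw [← Spec.map_comp_assoc]
    rfl
  refine ⟨.of A, inferInstanceAs (IsDomain A), inferInstanceAs (ValuationRing A),
    Spec.map stA ≫ P.fromSpecStalk p, ?_, ?_⟩
  · have : Spec.map stA (closedPoint A) = closedPoint (P.presheaf.stalk p) :=
      comap_closedPoint (S := A) (stp.hom.codRestrict A.toSubring hA)
    rw [Scheme.Hom.comp_apply]
    erw [this]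
    exact P.fromSpecStalk_closedPoint
  · have h1 : (Spec.map (CommRingCat.ofHom (algebraMap A (P.residueField p'))))
        (closedPoint (P.residueField p')) = (⊥ : PrimeSpectrum A) := by
      apply PrimeSpectrum.ext
      ext a
      show algebraMap A (P.residueField p') a ∈ maximalIdeal (P.residueField p') ↔ a ∈ (⊥ : Ideal A)
      rw [IsLocalRing.maximalIdeal_eq_bot, Ideal.mem_bot, Ideal.mem_bot]
      exact (map_eq_zero_iff _ (FaithfulSMul.algebraMap_injective A _))
    have h2 := congrArg (fun f => f (closedPoint (P.residueField p'))) w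
    simp only [Scheme.Hom.comp_apply, Scheme.fromSpecResidueField_apply] at h2
    erw [h1] at h2
    exact h2.symm

/-- A specialization in `P` lying over the specialization (generic point) ⤳ (closed point) of the
spectrum of a valuation ring `V` gives an extension of valuation rings `V ⟶ W` and a lift `Spec W ⟶ P`. -/
theorem exists_extVal_lift {V : CommRingCat.{u}} [IsDomain V] [ValuationRing V] {P : Scheme.{u}}
    (q : P ⟶ Spec V) {p' p : P} (h : p' ⤳ p) (hp' : q p' = (⊥ : PrimeSpectrum V))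
    (hp : q p = closedPoint V) :
    ∃ (W : CommRingCat.{u}) (_ : IsDomain W) (_ : ValuationRing W) (φ : V ⟶ W),
      HTop.IsExtVal V W φ ∧ ∃ ι : Spec W ⟶ P, ι ≫ q = Spec.map φ ∧ ι (closedPoint W) = p := by
  obtain ⟨W, hWd, hWv, ι, h1, h2⟩ := exists_valuationRing_of_specializes h
  refine ⟨W, hWd, hWv, Spec.preimage (ι ≫ q), ⟨?_, ?_⟩, ι, (Spec.map_preimage _).symm, h1⟩
  · rw [RingHom.injective_iff_ker_eq_bot]
    have e1 : (Spec.map (Spec.preimage (ι ≫ q))) (⊥ : PrimeSpectrum W) = (⊥ : PrimeSpectrum V) := by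
      rw [Spec.map_preimage, Scheme.Hom.comp_apply, h2, hp']
    have e2 := congrArg PrimeSpectrum.asIdeal e1
    exact e2
  · refine ((local_hom_TFAE _).out 4 0).mp ?_
    have e1 : (Spec.map (Spec.preimage (ι ≫ q))) (closedPoint W) = closedPoint V := by
      rw [Spec.map_preimage, Scheme.Hom.comp_apply, h1, hp]
    have e2 := congrArg PrimeSpectrum.asIdeal e1
    exact e2

open HTop

/-- Composition of standard V coverings. -/
theorem isStandardV_bind {T : Scheme.{u}} (E : PreZeroHypercover.{w} T) (hE : IsStandardV E)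
    (F : ∀ j, PreZeroHypercover.{w} (E.X j)) (hF : ∀ j, IsStandardV (F j)) :
    IsStandardV (E.bind F) := by
  refine ⟨hE.isAffine, ?_, ?_, ?_⟩
  · have := hE.finite_index
    have : ∀ j, Finite (F j).I₀ := fun j => (hF j).finite_index
    show Finite (Σ i : E.I₀, (F i).I₀)
    infer_instance
  · rintro ⟨i, j⟩
    exact (hF i).isAffine_obj j
  · intro V _ _ g
    obtain ⟨W, hWd, hWv, φ, hφ, j, g', hg'⟩ := hE.lift V g
    obtain ⟨W', hWd', hWv', ψ, hψ, k, g'', hg''⟩ := (hF j).lift W g'
    refine ⟨W', hWd', hWv', φ ≫ ψ, ⟨?_, ?_⟩, ⟨j, k⟩, g'', ?_⟩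
    · rw [CommRingCat.hom_comp]
      exact hψ.1.comp hφ.1
    · rw [CommRingCat.hom_comp]
      have := hφ.2
      have := hψ.2
      exact RingHom.isLocalHom_comp _ _
    · show g'' ≫ (F j).f k ≫ E.f j = _
      rw [← Category.assoc, hg'', Category.assoc, hg', Spec.map_comp, Category.assoc]

/-- Base change of a standard V covering along a morphism of affine schemes. -/
theorem isStandardV_pullback {T T' : Scheme.{u}} [IsAffine T'] (g : T' ⟶ T)
    (E : PreZeroHypercover.{w} T) (hE : IsStandardV E) : IsStandardV (E.pullback₁ g) := by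
  have := hE.isAffine
  have := hE.isAffine_obj
  refine ⟨inferInstance, hE.finite_index, ?_, ?_⟩
  · intro j
    show IsAffine (pullback g (E.f j))
    infer_instance
  · intro V _ _ h
    obtain ⟨W, hWd, hWv, φ, hφ, j, g', hg'⟩ := hE.lift V (h ≫ g)
    refine ⟨W, hWd, hWv, φ, hφ, j, pullback.lift (Spec.map φ ≫ h) g' ?_, ?_⟩
    · rw [hg', Category.assoc]
    · show pullback.lift _ _ _ ≫ pullback.fst _ _ = _
      rw [pullback.lift_fst]

/-- A finite jointly surjective family of flat morphisms of affine schemes is a standard V covering. -/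
theorem isStandardV_of_flat {T : Scheme.{u}} [IsAffine T] (E : PreZeroHypercover.{w} T)
    (hfin : Finite E.I₀) (haff : ∀ j, IsAffine (E.X j)) (hflat : ∀ j, Flat (E.f j))
    (hsurj : ∀ t : T, ∃ (j : E.I₀) (x : E.X j), E.f j x = t) : IsStandardV E := by
  refine ⟨inferInstance, hfin, haff, ?_⟩
  intro V _ _ g
  obtain ⟨j, x, hx⟩ := hsurj (g (IsLocalRing.closedPoint V))
  obtain ⟨p, hp1, hp2⟩ := Scheme.Pullback.exists_preimage_pullback (f := g) (g := E.f j)
    (IsLocalRing.closedPoint V) x hx.symm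
  have := hflat j
  have hgen : GeneralizingMap (pullback.fst g (E.f j)) := Flat.generalizingMap _
  have hsp : (⊥ : PrimeSpectrum V) ⤳ pullback.fst g (E.f j) p := by
    rw [hp1, ← PrimeSpectrum.le_iff_specializes]
    exact bot_le
  obtain ⟨p', hp'1, hp'2⟩ := hgen hsp
  obtain ⟨W, hWd, hWv, φ, hφ, ι, hι, -⟩ :=
    exists_extVal_lift (pullback.fst g (E.f j)) hp'1 hp'2 hp1
  refine ⟨W, hWd, hWv, φ, hφ, j, ι ≫ pullback.snd g (E.f j), ?_⟩
  rw [Category.assoc, ← pullback.condition, ← Category.assoc, hι]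

/-- Local-to-global: if an affine scheme `U` over `T` is covered by affine opens each carrying a standard V
covering refining `E`, then `U` carries a standard V covering refining `E`. -/
theorem exists_isStandardV_of_local {U T : Scheme.{u}} [IsAffine U] (g : U ⟶ T)
    (E : PreZeroHypercover.{w} T)
    (H : ∀ x : U, ∃ (W : Scheme.{u}) (_ : IsAffine W) (j : W ⟶ U) (_ : IsOpenImmersion j)
      (F : PreZeroHypercover.{0} W), x ∈ Set.range j ∧ IsStandardV F ∧ RefinesOver (j ≫ g) F E) :
    ∃ F : PreZeroHypercover.{0} U, IsStandardV F ∧ RefinesOver g F E := by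
  choose W hW j hj F hx hF href using H
  obtain ⟨t, ht⟩ := isCompact_univ.elim_finite_subcover (fun x : U => Set.range (j x))
    (fun x => (j x).isOpenEmbedding.isOpen_range) (fun x _ => Set.mem_iUnion.mpr ⟨x, hx x⟩)
  let e := t.equivFin
  let C : PreZeroHypercover.{0} U :=
    { I₀ := Fin t.card
      X := fun k => W (e.symm k).1
      f := fun k => j (e.symm k).1 }
  have hC : IsStandardV C := by
    refine isStandardV_of_flat C (inferInstanceAs (Finite (Fin t.card))) (fun k => hW _)
      (fun k => inferInstanceAs (Flat (j (e.symm k).1))) ?_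
    intro y
    have hy := ht (Set.mem_univ y)
    simp only [Set.mem_iUnion] at hy
    obtain ⟨x, hxt, z, hz⟩ := hy
    refine ⟨e ⟨x, hxt⟩, ?_⟩
    show ∃ z : W (e.symm (e ⟨x, hxt⟩)).1, j (e.symm (e ⟨x, hxt⟩)).1 z = y
    rw [Equiv.symm_apply_apply]
    exact ⟨z, hz⟩
  refine ⟨C.bind (fun k => F (e.symm k).1), isStandardV_bind C hC _ (fun k => hF _), ?_⟩
  rintro ⟨k, l⟩
  obtain ⟨i, h, hh⟩ := href (e.symm k).1 l
  refine ⟨i, h, hh.trans ?_⟩
  show _ = ((F (e.symm k).1).f l ≫ j (e.symm k).1) ≫ g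
  rw [Category.assoc]

/-- The intrinsic characterisation of V coverings: over every affine scheme mapping to `T` there is a
standard V covering refining the family. -/
theorem IsVCover.exists_refinement {T : Scheme.{u}} {E : PreZeroHypercover.{w} T} (hE : IsVCover E)
    {W : Scheme.{u}} [IsAffine W] (h : W ⟶ T) :
    ∃ F : PreZeroHypercover.{0} W, IsStandardV F ∧ RefinesOver h F E := by
  apply exists_isStandardV_of_local h E
  intro x
  obtain ⟨_, ⟨Uα, hUα, rfl⟩, hxU, -⟩ :=
    T.isBasis_affineOpens.exists_subset_of_mem_open (Set.mem_univ (h x)) isOpen_univ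
  obtain ⟨_, ⟨W', hW', rfl⟩, hxW', hW'U⟩ :=
    W.isBasis_affineOpens.exists_subset_of_mem_open (show x ∈ (h ⁻¹ᵁ Uα : Set W) from hxU)
      (h ⁻¹ᵁ Uα).2
  obtain ⟨Fα, hFα, hrefα⟩ := hE ⟨Uα, hUα⟩
  let W'' : W.Opens := W'
  let Uα' : T.Opens := Uα
  have hW'aff : IsAffine (W'' : Scheme.{u}) := hW'
  let r : (W'' : Scheme.{u}) ⟶ (Uα' : Scheme.{u}) := h.resLE Uα' W'' hW'U
  refine ⟨W'', hW'aff, W''.ι, inferInstance, Fα.pullback₁ r, ?_, isStandardV_pullback r Fα hFα, ?_⟩
  · simpa using hxW'
  · intro l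
    obtain ⟨i, k, hk⟩ := hrefα l
    refine ⟨i, pullback.snd r (Fα.f l) ≫ k, ?_⟩
    rw [Category.assoc, hk]
    show _ = pullback.fst r (Fα.f l) ≫ W''.ι ≫ h
    rw [← Scheme.Hom.resLE_comp_ι h hW'U, ← Category.assoc, ← Category.assoc, pullback.condition]
    rfl

theorem isVCover_iff_forall_affine {T : Scheme.{u}} (E : PreZeroHypercover.{w} T) :
    IsVCover E ↔ ∀ (W : Scheme.{u}) (_ : IsAffine W) (h : W ⟶ T),
      ∃ F : PreZeroHypercover.{0} W, IsStandardV F ∧ RefinesOver h F E := by
  refine ⟨fun hE W _ h => IsVCover.exists_refinement hE h, fun H U => ?_⟩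
  have : IsAffine ((U : T.Opens) : Scheme.{u}) := U.2
  exact H _ this _

/-- A morphism from the spectrum of a local ring lands in any open containing the image of the closed point. -/
theorem range_subset_of_closedPoint_mem {W : CommRingCat.{u}} [IsLocalRing W] {X : Scheme.{u}}
    (g : Spec W ⟶ X) (A : X.Opens) (h : g (closedPoint W) ∈ A) : Set.range g ⊆ (A : Set X) := by
  rintro _ ⟨y, rfl⟩
  have h1 : y ⤳ closedPoint W := IsLocalRing.specializes_closedPoint y
  exact A.2.stableUnderGeneralization (h1.map g.continuous) h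

/-- A V covering has the valuation-ring lifting property. -/
theorem hasValLift_of_isVCover {T : Scheme.{u}} {E : PreZeroHypercover.{w} T} (hE : IsVCover E) :
    HasValLift E := by
  intro V _ _ g
  obtain ⟨F, hF, href⟩ := IsVCover.exists_refinement hE g
  obtain ⟨W, hWd, hWv, φ, hφ, j, g', hg'⟩ := hF.lift V (𝟙 _)
  obtain ⟨i, k, hk⟩ := href j
  refine ⟨W, hWd, hWv, φ, hφ, i, g' ≫ k, ?_⟩
  rw [Category.assoc, hk, ← Category.assoc, hg', Category.assoc, Category.id_comp]

/-- The valuation-ring lifting property implies lifting of specializations after any base change. -/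
theorem exists_specializes_of_hasValLift {T : Scheme.{u}} {E : PreZeroHypercover.{w} T}
    (hE : HasValLift E) {Z : Scheme.{u}} (g : Z ⟶ T) {z' z : Z} (hz : z' ⤳ z) :
    ∃ (i : E.I₀) (w' w : ↑(pullback g (E.f i))), w' ⤳ w ∧ pullback.fst g (E.f i) w' = z' ∧
      pullback.fst g (E.f i) w = z := by
  obtain ⟨V, hVd, hVv, ι, h1, h2⟩ := exists_valuationRing_of_specializes hz
  obtain ⟨W, hWd, hWv, φ, hφ, i, g', hg'⟩ := hE V (ι ≫ g)
  have hφl : IsLocalHom φ.hom := hφ.2
  have e1 : (Spec.map φ) (closedPoint W) = closedPoint V := comap_closedPoint φ.hom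
  have e2 : (Spec.map φ) (⊥ : PrimeSpectrum W) = (⊥ : PrimeSpectrum V) := by
    apply PrimeSpectrum.ext
    exact (RingHom.injective_iff_ker_eq_bot _).mp hφ.1
  let l : Spec W ⟶ pullback g (E.f i) := pullback.lift (Spec.map φ ≫ ι) g'
    (by rw [hg', Category.assoc])
  have hl : l ≫ pullback.fst g (E.f i) = Spec.map φ ≫ ι := pullback.lift_fst _ _ _
  refine ⟨i, l (⊥ : PrimeSpectrum W), l (closedPoint W),
    (IsLocalRing.specializes_closedPoint _).map l.continuous, ?_, ?_⟩
  · rw [← Scheme.Hom.comp_apply, hl, Scheme.Hom.comp_apply, e2, h2]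
  · rw [← Scheme.Hom.comp_apply, hl, Scheme.Hom.comp_apply, e1, h1]

/-- Lifting of specializations after base change to spectra of valuation rings implies the valuation-ring
lifting property. -/
theorem hasValLift_of_exists_specializes {T : Scheme.{u}} {E : PreZeroHypercover.{w} T}
    (H : ∀ (V : CommRingCat.{u}) [IsDomain V] [ValuationRing V] (g : Spec V ⟶ T),
      ∃ (i : E.I₀) (w' w : ↑(pullback g (E.f i))), w' ⤳ w ∧
        pullback.fst g (E.f i) w' = (⊥ : PrimeSpectrum V) ∧
        pullback.fst g (E.f i) w = closedPoint V) :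
    HasValLift E := by
  intro V _ _ g
  obtain ⟨i, w', w, hw, h1, h2⟩ := H V g
  obtain ⟨W, hWd, hWv, φ, hφ, ι, hι, -⟩ := exists_extVal_lift (pullback.fst g (E.f i)) hw h1 h2
  refine ⟨W, hWd, hWv, φ, hφ, i, ι ≫ pullback.snd g (E.f i), ?_⟩
  rw [Category.assoc, ← pullback.condition, ← Category.assoc, hι]

theorem hasValLift_singleton_iff {X Y : Scheme.{u}} (f : X ⟶ Y) :
    HasValLift (PreZeroHypercover.singleton.{w} f) ↔
      ∀ (V : CommRingCat.{u}) [IsDomain V] [ValuationRing V] (g : Spec V ⟶ Y),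
        ∃ (W : CommRingCat.{u}) (_ : IsDomain W) (_ : ValuationRing W) (φ : V ⟶ W),
          IsExtVal V W φ ∧ ∃ (g' : Spec W ⟶ X), g' ≫ f = Spec.map φ ≫ g := by
  constructor
  · intro h V _ _ g
    obtain ⟨W, hd, hv, φ, hφ, j, g', hg'⟩ := h V g
    exact ⟨W, hd, hv, φ, hφ, g', hg'⟩
  · intro h V _ _ g
    obtain ⟨W, hd, hv, φ, hφ, g', hg'⟩ := h V g
    exact ⟨W, hd, hv, φ, hφ, PUnit.unit, g', hg'⟩

universe w₁ w₂ in
theorem hasValLift_singleton_univ {X Y : Scheme.{u}} (f : X ⟶ Y) :
    HasValLift (PreZeroHypercover.singleton.{w₁} f) ↔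
      HasValLift (PreZeroHypercover.singleton.{w₂} f) :=
  (hasValLift_singleton_iff f).trans (hasValLift_singleton_iff f).symm

universe w₁ w₂ w₃ in
theorem refinesOver_singleton_univ {X Y U : Scheme.{u}} (f : X ⟶ Y) (g : U ⟶ Y)
    (F : PreZeroHypercover.{w₃} U) :
    RefinesOver g F (PreZeroHypercover.singleton.{w₁} f) ↔
      RefinesOver g F (PreZeroHypercover.singleton.{w₂} f) := by
  constructor
  · intro h j
    obtain ⟨i, k, hk⟩ := h j
    exact ⟨PUnit.unit, k, hk⟩
  · intro h j
    obtain ⟨i, k, hk⟩ := h j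
    exact ⟨PUnit.unit, k, hk⟩

universe w₁ w₂ in
theorem isVCover_singleton_univ {X Y : Scheme.{u}} (f : X ⟶ Y) :
    IsVCover (PreZeroHypercover.singleton.{w₁} f) ↔
      IsVCover (PreZeroHypercover.singleton.{w₂} f) := by
  unfold IsVCover
  simp only [refinesOver_singleton_univ.{u, w₁, w₂} f]

/-- For a quasi-compact morphism the valuation-ring lifting property implies being a V covering. -/
theorem isVCover_singleton_of_hasValLift {X Y : Scheme.{u}} (f : X ⟶ Y) [QuasiCompact f]
    (hf : HasValLift (PreZeroHypercover.singleton.{w} f)) :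
    IsVCover (PreZeroHypercover.singleton.{w} f) := by
  intro U
  have hUaff : IsAffine ((U : Y.Opens) : Scheme.{u}) := U.2
  have hc : IsCompact ((f ⁻¹ᵁ (U : Y.Opens) : X.Opens) : Set X) :=
    f.isCompact_preimage U.2.isCompact
  obtain ⟨Us, hUs, hUf, hUc⟩ := X.isBasis_affineOpens.exists_finite_of_isCompact hc
  have : Finite Us := hUf.to_subtype
  obtain ⟨n, ⟨e⟩⟩ := Finite.exists_equiv_fin Us
  have hle : ∀ k : Fin n, ((e.symm k).1 : X.Opens) ≤ f ⁻¹ᵁ (U : Y.Opens) := by
    intro k
    rw [hUc]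
    exact le_sSup (e.symm k).2
  let F : PreZeroHypercover.{0} ((U : Y.Opens) : Scheme.{u}) :=
    { I₀ := Fin n
      X := fun k => (((e.symm k).1 : X.Opens) : Scheme.{u})
      f := fun k => f.resLE (U : Y.Opens) (e.symm k).1 (hle k) }
  refine ⟨F, ⟨hUaff, inferInstanceAs (Finite (Fin n)), fun k => hUs (e.symm k).2, ?_⟩, ?_⟩
  · intro V _ _ g
    obtain ⟨W, hWd, hWv, φ, hφ, g', hg'⟩ :=
      (hasValLift_singleton_iff f).mp hf V (g ≫ (U : Y.Opens).ι)
    have hmem : g' (closedPoint W) ∈ f ⁻¹ᵁ (U : Y.Opens) := by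
      show f (g' (closedPoint W)) ∈ (U : Y.Opens)
      rw [← Scheme.Hom.comp_apply, hg', Scheme.Hom.comp_apply, Scheme.Hom.comp_apply]
      have := Set.mem_range_self (f := (U : Y.Opens).ι) (g (Spec.map φ (closedPoint W)))
      rwa [Scheme.Opens.range_ι] at this
    rw [hUc] at hmem
    obtain ⟨A, hA, hmemA⟩ := TopologicalSpace.Opens.mem_sSup.mp hmem
    have hr : Set.range g' ⊆ Set.range (Scheme.Opens.ι (X := X) A) := by
      rw [Scheme.Opens.range_ι]
      exact range_subset_of_closedPoint_mem g' A hmemA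
    let k : Fin n := e ⟨A, hA⟩
    have hk : ((e.symm k).1 : X.Opens) = A := by simp [k]
    have hr' : Set.range g' ⊆ Set.range (Scheme.Opens.ι (X := X) (e.symm k).1) := by rwa [hk]
    refine ⟨W, hWd, hWv, φ, hφ, k, IsOpenImmersion.lift (Scheme.Opens.ι (X := X) (e.symm k).1) g' hr', ?_⟩
    rw [← cancel_mono (U : Y.Opens).ι]
    show (_ ≫ f.resLE (U : Y.Opens) (e.symm k).1 (hle k)) ≫ _ = _
    rw [Category.assoc, Scheme.Hom.resLE_comp_ι, ← Category.assoc, IsOpenImmersion.lift_fac, hg',
      Category.assoc]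
  · intro k
    refine ⟨PUnit.unit, Scheme.Opens.ι (X := X) (e.symm k).1, ?_⟩
    show _ ≫ f = f.resLE (U : Y.Opens) (e.symm k).1 (hle k) ≫ _
    rw [Scheme.Hom.resLE_comp_ι]

/-- An affine scheme is a spectral space. -/
theorem spectralSpace_of_isAffine (X : Scheme.{u}) [IsAffine X] : SpectralSpace X := by
  have : SpectralSpace ↥(Spec Γ(X, ⊤)) := inferInstanceAs (SpectralSpace (PrimeSpectrum Γ(X, ⊤)))
  exact X.isoSpec.hom.isOpenEmbedding.spectralSpace

open Groth.Agent.Lib.Helper38.Spec in
/-- A finite union of images of closed sets under spectral maps which is stable under specialization is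
closed. -/
theorem isClosed_iUnion_image_of_stableUnderSpecialization {ι : Type*} [Finite ι] {X : ι → Type*}
    [∀ i, TopologicalSpace (X i)] [∀ i, SpectralSpace (X i)] {Y : Type*} [TopologicalSpace Y]
    [SpectralSpace Y] (f : ∀ i, X i → Y) (hf : ∀ i, IsSpectralMap (f i)) (C : ∀ i, Set (X i))
    (hC : ∀ i, IsClosed (C i)) (hs : StableUnderSpecialization (⋃ i, f i '' C i)) :
    IsClosed (⋃ i, f i '' C i) := by
  refine isClosed_of_isClosed_ct_of_stableUnderSpecialization ?_ hs
  refine @isClosed_iUnion_of_finite Y ι (constructibleTopology Y) _ _ (fun i => ?_)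
  exact isClosedMap_ct_of_isSpectralMap (hf i) _ (isClosed_ct_of_isClosed (hC i))

/-- Specializations lift along a family with the valuation-ring lifting property. -/
theorem HasValLift.exists_specializes_lift {T : Scheme.{u}} {E : PreZeroHypercover.{w} T}
    (hE : HasValLift E) {t' t : T} (h : t' ⤳ t) :
    ∃ (i : E.I₀) (x' x : E.X i), x' ⤳ x ∧ E.f i x' = t' ∧ E.f i x = t := by
  obtain ⟨i, w', w, hw, h1, h2⟩ := exists_specializes_of_hasValLift hE (𝟙 T) h
  refine ⟨i, pullback.snd (𝟙 T) (E.f i) w', pullback.snd (𝟙 T) (E.f i) w,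
    hw.map (pullback.snd (𝟙 T) (E.f i)).continuous, ?_, ?_⟩
  · rw [← Scheme.Hom.comp_apply, ← pullback.condition, Scheme.Hom.comp_apply, h1]
    rfl
  · rw [← Scheme.Hom.comp_apply, ← pullback.condition, Scheme.Hom.comp_apply, h2]
    rfl

/-- A family with the valuation-ring lifting property is jointly surjective. -/
theorem HasValLift.exists_preimage {T : Scheme.{u}} {E : PreZeroHypercover.{w} T}
    (hE : HasValLift E) (t : T) : ∃ (i : E.I₀) (x : E.X i), E.f i x = t := by
  obtain ⟨i, x', x, -, -, h2⟩ := HasValLift.exists_specializes_lift hE (specializes_rfl (x := t))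
  exact ⟨i, x, h2⟩

/-- A standard V covering is submersive: a subset of the target is closed as soon as all its preimages
are closed. -/
theorem IsStandardV.isClosed_of_forall_isClosed_preimage {U : Scheme.{u}}
    {F : PreZeroHypercover.{w} U} (hF : IsStandardV F) (S : Set U)
    (hS : ∀ j, IsClosed ((F.f j) ⁻¹' S)) : IsClosed S := by
  have := hF.isAffine
  have := hF.isAffine_obj
  have := hF.finite_index
  have : SpectralSpace U := spectralSpace_of_isAffine U
  have : ∀ j, SpectralSpace (F.X j) := fun j => spectralSpace_of_isAffine (F.X j)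
  have hSeq : S = ⋃ j, (F.f j) '' ((F.f j) ⁻¹' S) := by
    ext y
    simp only [Set.mem_iUnion, Set.mem_image, Set.mem_preimage]
    constructor
    · intro hy
      obtain ⟨j, x, hx⟩ := HasValLift.exists_preimage hF.lift y
      exact ⟨j, x, by rwa [hx], hx⟩
    · rintro ⟨j, x, hx, rfl⟩
      exact hx
  rw [hSeq]
  refine isClosed_iUnion_image_of_stableUnderSpecialization (fun j => (F.f j))
    (fun j => (F.f j).isSpectralMap) _ hS ?_
  rw [← hSeq]
  intro t' t htt ht'
  obtain ⟨j, x', x, hx, h1, h2⟩ := HasValLift.exists_specializes_lift hF.lift htt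
  have hx' : x' ∈ (F.f j) ⁻¹' S := by
    show F.f j x' ∈ S
    rwa [h1]
  have := (hS j).stableUnderSpecialization hx hx'
  rw [← h2]
  exact this

end Groth.Agent.Lib.Helper38.HTopV
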