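import Mathlib
import Groth.Agent.Lib.Helper38.HTopV

/-!
Descent of immersions (helper38): topological preparation (closure of the range of a quasi-compact
morphism consists of specializations; flat morphisms pull closures of such ranges back to closures)
and the reduction of descent of immersions to descent of closed immersions.
-/

set_option autoImplicit false
open CategoryTheory CategoryTheory.Limits AlgebraicGeometry Topology TopologicalSpace
universe u

namespace Groth.Agent.Lib.Helper38.ImmDescent

open Groth.Agent.Lib.Helper38.HTopV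

/-- Every point in the closure of the range of a quasi-compact morphism is a specialization of a
point of the range. -/
theorem exists_specializes_of_mem_closure_range {Y Z : Scheme.{u}} (g : Y ⟶ Z) [QuasiCompact g]
    {z : Z} (hz : z ∈ closure (Set.range g)) : ∃ y : Y, g y ⤳ z := by
  obtain ⟨V', hV', hzV', -⟩ :=
    (Opens.isBasis_iff_nbhd.mp Z.isBasis_affineOpens) (show z ∈ (⊤ : Z.Opens) from trivial)
  obtain ⟨V, hV, hzV⟩ : ∃ V : Z.Opens, IsAffineOpen V ∧ z ∈ V := ⟨V', hV', hzV'⟩
  haveI : IsAffine V.toScheme := hV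
  haveI : CompactSpace ↥(g ⁻¹ᵁ V).toScheme :=
    isCompact_iff_compactSpace.mp (QuasiCompact.isCompact_preimage (f := g) _ V.isOpen hV.isCompact)
  obtain ⟨R, h, hh⟩ := compactSpace_iff_exists.mp this
  let k : Spec R ⟶ V.toScheme := h ≫ (g ∣_ V)
  haveI : SpectralSpace ↥V.toScheme := spectralSpace_of_isAffine V.toScheme
  haveI : SpectralSpace ↥(Spec R) := spectralSpace_of_isAffine (Spec R)
  have hk : IsSpectralMap k := k.isSpectralMap
  have hct := Groth.Agent.Lib.Helper38.Spec.isClosed_ct_range_of_isSpectralMap hk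
  obtain ⟨z', rfl⟩ : ∃ z' : V.toScheme, V.ι z' = z := ⟨⟨z, hzV⟩, rfl⟩
  have hzcl : z' ∈ closure (Set.range k) := by
    rw [mem_closure_iff]
    intro o ho hzo
    have ho' : IsOpen (V.ι '' o) := V.ι.isOpenEmbedding.isOpenMap _ ho
    obtain ⟨w, hw1, ⟨y, rfl⟩⟩ := mem_closure_iff.mp hz _ ho' ⟨_, hzo, rfl⟩
    obtain ⟨v, hv, hvw⟩ := hw1
    have hyV : y ∈ g ⁻¹ᵁ V := by
      show g y ∈ V
      rw [← hvw]
      exact v.2
    obtain ⟨r, hr⟩ := hh ⟨y, hyV⟩
    refine ⟨v, hv, r, ?_⟩
    apply V.ι.isOpenEmbedding.injective
    rw [hvw]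
    show (k ≫ V.ι) r = _
    simp only [k, Category.assoc, morphismRestrict_ι, Scheme.Hom.comp_apply, hr]
    rfl
  obtain ⟨e, ⟨r, rfl⟩, hes⟩ := Groth.Agent.Lib.Helper38.Spec.exists_specializes_of_mem_closure hct hzcl
  refine ⟨(g ⁻¹ᵁ V).ι (h r), ?_⟩
  have := hes.map V.ι.continuous
  have e1 : V.ι (k r) = g ((g ⁻¹ᵁ V).ι (h r)) := by
    show (k ≫ V.ι) r = _
    simp only [k, Category.assoc, morphismRestrict_ι, Scheme.Hom.comp_apply]
  rw [e1] at this
  exact this

/-- For `f` flat and `g` quasi-compact, the preimage under `f` of the closure of the range of `g`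
is contained in the closure of the preimage of the range. -/
theorem preimage_closure_range_subset {X Y Z : Scheme.{u}} (f : X ⟶ Z) (g : Y ⟶ Z) [Flat f]
    [QuasiCompact g] : f ⁻¹' closure (Set.range g) ⊆ closure (f ⁻¹' Set.range g) := by
  intro x hx
  obtain ⟨y, hy⟩ := exists_specializes_of_mem_closure_range g hx
  obtain ⟨x', hx', hfx'⟩ := Flat.generalizingMap f hy
  have h1 : x ∈ closure ({x'} : Set X) := hx'.mem_closure
  refine closure_mono ?_ h1
  rintro _ rfl
  exact ⟨y, hfx'.symm⟩

/-- Reduction of descent of immersions to descent of closed immersions: if `f` is a quotient map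
whose preimage commutes with the closure of the range of `g`, and the base change of `g` along `f`
is an immersion, then `g` is an immersion. -/
theorem isImmersion_of_pullback_fst (Q : MorphismProperty Scheme.{u}) [Q.IsStableUnderBaseChange]
    (hQ : MorphismProperty.DescendsAlong @IsClosedImmersion Q)
    {X Y Z : Scheme.{u}} (f : X ⟶ Z) (g : Y ⟶ Z) (hf : Q f)
    (hquot : IsQuotientMap f)
    (hcl : f ⁻¹' closure (Set.range g) ⊆ closure (f ⁻¹' Set.range g))
    [IsImmersion (pullback.fst f g)] : IsImmersion g := by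
  have hA' : IsLocallyClosed (f ⁻¹' Set.range g) := by
    rw [← Scheme.Pullback.range_fst]
    exact (pullback.fst f g).isLocallyClosed_range
  have hcob : coborder (f ⁻¹' Set.range g) = f ⁻¹' coborder (Set.range g) := by
    refine subset_antisymm ?_ (f.continuous.preimage_coborder_subset _)
    rw [coborder, coborder, Set.preimage_compl, Set.preimage_diff, Set.compl_subset_compl]
    exact Set.diff_subset_diff_left hcl
  have hopen : IsOpen (coborder (Set.range g)) := by
    rw [← hquot.isOpen_preimage, ← hcob]
    exact hA'.isOpen_coborder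
  let W : Z.Opens := ⟨coborder (Set.range g), hopen⟩
  have hgW : Set.range g ⊆ Set.range W.ι := by
    rw [Scheme.Opens.range_ι]
    exact subset_coborder
  let g' : Y ⟶ W := IsOpenImmersion.lift W.ι g hgW
  have hg' : g' ≫ W.ι = g := IsOpenImmersion.lift_fac _ _ _
  let f' := pullback.snd f W.ι
  have hf' : Q f' := Q.pullback_snd _ _ hf
  have h1 : IsImmersion (pullback.fst f (g' ≫ W.ι)) := by rwa [hg']
  have h2 : IsImmersion (pullback.fst f' g' ≫ pullback.fst f W.ι) := by
    rw [← pullbackLeftPullbackSndIso_hom_fst]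
    infer_instance
  have h3 : IsImmersion (pullback.fst f' g') := IsImmersion.of_comp _ (pullback.fst f W.ι)
  have h4 : IsClosed (Set.range (pullback.fst f' g')) := by
    rw [Scheme.Pullback.range_fst]
    refine IsClosed.preimage f'.continuous ?_
    have : Set.range g' = W.ι ⁻¹' Set.range g := by
      rw [← hg', Scheme.Hom.comp_base, TopCat.coe_comp, Set.range_comp,
        Set.preimage_image_eq _ W.ι.isOpenEmbedding.injective]
    rw [this]
    exact isClosed_preimage_val_coborder
  have h5 : IsClosedImmersion (pullback.fst f' g') := IsClosedImmersion.of_isPreimmersion _ h4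
  have h6 : IsClosedImmersion g' :=
    MorphismProperty.of_pullback_fst_of_descendsAlong (P := @IsClosedImmersion) (Q := Q) hf' h5
  rw [← hg']
  infer_instance

end Groth.Agent.Lib.Helper38.ImmDescent
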