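import Mathlib

set_option autoImplicit false
universe u

open CategoryTheory AlgebraicGeometry

namespace Groth.Agent.Lib.Helper38.QCClosure

/-- Affine case: a point in the closure of the image of a closed subset is a specialization of a
point of the image. -/
lemma exists_specializes_of_mem_closure_image_comap {R S : Type*} [CommRing R] [CommRing S]
    (f : R →+* S) (I : Ideal S) (x : PrimeSpectrum R)
    (hx : x ∈ closure (PrimeSpectrum.comap f '' PrimeSpectrum.zeroLocus (I : Set S))) :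
    ∃ q ∈ PrimeSpectrum.zeroLocus (I : Set S), PrimeSpectrum.comap f q ⤳ x := by
  rw [PrimeSpectrum.closure_image_comap_zeroLocus] at hx
  obtain ⟨q, hq₁, hq₂⟩ := Ideal.exists_minimalPrimes_le hx
  obtain ⟨p', hp', hp'', rfl⟩ := Ideal.exists_comap_eq_of_mem_minimalPrimes f _ hq₁
  exact ⟨⟨p', hp'⟩, hp'', (PrimeSpectrum.le_iff_specializes _ x).mp hq₂⟩

/-- For a quasi-compact morphism, every point in the closure of the image of a closed subset is a
specialization of a point of that image. -/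
theorem exists_specializes_of_mem_closure_image {X Y : Scheme.{u}} (f : X ⟶ Y) [QuasiCompact f]
    (C : Set X) (hC : IsClosed C) (ξ : Y) (hξ : ξ ∈ closure (f '' C)) :
    ∃ c ∈ C, f c ⤳ ξ := by
  obtain ⟨_, ⟨Y', hY'₀, rfl⟩, hξY', -⟩ :=
    Y.isBasis_affineOpens.exists_subset_of_mem_open (Set.mem_univ ξ) isOpen_univ
  have hY' : IsAffineOpen Y' := hY'₀
  have hcomp : IsCompact ((f ⁻¹ᵁ Y' : X.Opens) : Set X) := f.isCompact_preimage hY'.isCompact
  obtain ⟨B, g, hg⟩ := isCompact_iff_exists.mp hcomp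
  have hgmem : ∀ b, f (g b) ∈ Y' := fun b => by
    have : g b ∈ ((f ⁻¹ᵁ Y' : X.Opens) : Set X) := hg ▸ ⟨b, rfl⟩
    exact this
  have hrange : Set.range (g ≫ f) ⊆ Set.range hY'.fromSpec := by
    rw [hY'.range_fromSpec]
    rintro _ ⟨b, rfl⟩
    exact hgmem b
  let h := IsOpenImmersion.lift hY'.fromSpec (g ≫ f) hrange
  have hh : h ≫ hY'.fromSpec = g ≫ f := IsOpenImmersion.lift_fac _ _ _
  obtain ⟨φ, hφ⟩ : ∃ φ : Γ(Y, Y') ⟶ B, Spec.map φ = h := ⟨Spec.preimage h, Spec.map_preimage h⟩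
  have hD : IsClosed (g ⁻¹' C) := hC.preimage g.continuous
  obtain ⟨I, hI⟩ := (PrimeSpectrum.isClosed_iff_zeroLocus_ideal _).mp hD
  obtain ⟨ξ', hξ'⟩ : ξ ∈ Set.range hY'.fromSpec := by rw [hY'.range_fromSpec]; exact hξY'
  have himg : hY'.fromSpec '' (h '' (g ⁻¹' C)) = (Y' : Set Y) ∩ f '' C := by
    ext y
    constructor
    · rintro ⟨_, ⟨b, hb, rfl⟩, rfl⟩
      rw [← Scheme.Hom.comp_apply, hh]
      exact ⟨hgmem b, ⟨g b, hb, rfl⟩⟩
    · rintro ⟨hy, ⟨c, hc, rfl⟩⟩
      have : c ∈ Set.range g := by rw [hg]; exact hy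
      obtain ⟨b, rfl⟩ := this
      refine ⟨h b, ⟨b, hc, rfl⟩, ?_⟩
      rw [← Scheme.Hom.comp_apply, hh]
      rfl
  have h1 : ξ' ∈ closure (h '' (g ⁻¹' C)) := by
    have hemb : Topology.IsOpenEmbedding hY'.fromSpec := hY'.fromSpec.isOpenEmbedding
    rw [hemb.isInducing.closure_eq_preimage_closure_image, Set.mem_preimage, hξ', himg]
    exact Y'.2.inter_closure ⟨hξY', hξ⟩
  have h2 : ξ' ∈ closure (PrimeSpectrum.comap φ.hom '' PrimeSpectrum.zeroLocus (I : Set B)) := by
    rw [← hI]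
    rw [← hφ] at h1
    exact h1
  obtain ⟨q, hq, hqξ⟩ := exists_specializes_of_mem_closure_image_comap φ.hom I ξ' h2
  refine ⟨g q, ?_, ?_⟩
  · have : q ∈ g ⁻¹' C := by rw [hI]; exact hq
    exact this
  · have := hqξ.map hY'.fromSpec.continuous
    rw [hξ'] at this
    have e : ∀ q' : Spec B, hY'.fromSpec (h q') = f (g q') := fun q' => by
      rw [← Scheme.Hom.comp_apply, hh]
      rfl
    have e' : hY'.fromSpec (PrimeSpectrum.comap φ.hom q) = f (g q) := by
      rw [← e q, ← hφ]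
      rfl
    rwa [e'] at this

end Groth.Agent.Lib.Helper38.QCClosure
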