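import Groth.Agent.S18826

/-!
# The largest open over which an equivariant morphism has an fpqc-local property is stable

Also: the left translation actions of `G` on itself and on `H` through a homomorphism `u : G ⟶ H`.
-/

set_option autoImplicit false
universe u

open CategoryTheory CategoryTheory.Limits MonoidalCategory CartesianMonoidalCategory MonObj GrpObj
  AlgebraicGeometry

namespace Groth.Agent.Lib.Helper38.ActionMaxOpen

open Groth.Agent.Lib.Helper38.MaxOpen

/-- fpqc version of the stability of the largest `P`-open under a flat universally open group. -/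
theorem preimage_snd_le_preimage_act {S : Scheme.{u}} {G X Y : Over S} [GrpObj G] [Flat G.hom]
    [UniversallyOpen G.hom]
    (aX : AlgGrp.Action G X) (aY : AlgGrp.Action G Y) (f : X ⟶ Y)
    (hf : (G ◁ f) ≫ aY.act = aX.act ≫ f)
    (P : MorphismProperty Scheme.{u}) [P.IsStableUnderBaseChange]
    [P.DescendsAlong (@Flat ⊓ @Surjective ⊓ @QuasiCompact)]
    (W : Y.left.Opens) (hW : P (f.left ∣_ W))
    (hmax : ∀ W' : Y.left.Opens, P (f.left ∣_ W') → W' ≤ W) :
    (snd G Y).left ⁻¹ᵁ W ≤ aY.act.left ⁻¹ᵁ W := by
  have hflat : Flat aY.act.left :=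
    Groth.Agent.Lib.Helper95.act_left_of_isStableUnderBaseChange @Flat aY inferInstance
  have hopen : UniversallyOpen aY.act.left :=
    Groth.Agent.Lib.Helper95.act_left_of_isStableUnderBaseChange @UniversallyOpen aY inferInstance
  have sqA : IsPullback (snd G X).left (G ◁ f).left f.left (snd G Y).left :=
    (Groth.Agent.S18826.isPullback_snd_whiskerLeft G f).map (Over.forget _)
  have sqB : IsPullback aX.act.left (G ◁ f).left f.left aY.act.left :=
    (Groth.Agent.S18826.isPullback_act aX aY f hf).map (Over.forget _)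
  intro z hz
  have h1 : P ((G ◁ f).left ∣_ (snd G Y).left ⁻¹ᵁ W) := morphismRestrict_preimage P sqA W hW
  have sq' := isPullback_morphismRestrict_comp sqB ((snd G Y).left ⁻¹ᵁ W)
  have hp : IsOpenMap (((snd G Y).left ⁻¹ᵁ W).ι ≫ aY.act.left).base :=
    (((snd G Y).left ⁻¹ᵁ W).ι ≫ aY.act.left).isOpenMap
  obtain ⟨U, hU, hzU, hUsub⟩ := exists_isAffineOpen_mem_and_subset (x := aY.act.left.base z)
    (U := ⟨Set.range (((snd G Y).left ⁻¹ᵁ W).ι ≫ aY.act.left).base, hp.isOpen_range⟩)
    ⟨⟨z, hz⟩, rfl⟩
  have := morphismRestrict_of_subset_range P hp sq' h1 U hU hUsub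
  exact hmax U this hzU

variable {C : Type*} [Category C] [CartesianMonoidalCategory C]

lemma whiskerRight_comp_mul {G H : C} [MonObj H] (u : G ⟶ H) :
    (u ▷ H) ≫ μ[H] = (fst G H ≫ u) * snd G H := by
  rw [Hom.mul_def]
  congr 1
  apply CartesianMonoidalCategory.hom_ext <;> simp

end Groth.Agent.Lib.Helper38.ActionMaxOpen

namespace Groth.Agent.Lib.Helper38.ActionMaxOpen

variable {S : Scheme.{u}}

/-- Left translation action of `G` on itself. -/
noncomputable def selfAction (G : Over S) [GrpObj G] : AlgGrp.Action G G where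
  act := μ[G]
  one_act := MonObj.one_mul G
  mul_act := MonObj.mul_assoc G

/-- Left translation action of `G` on `H` through `u : G ⟶ H`. -/
noncomputable def homAction {G H : Over S} [GrpObj G] [GrpObj H] (u : G ⟶ H) [IsMonHom u] :
    AlgGrp.Action G H where
  act := (u ▷ H) ≫ μ[H]
  one_act := by
    rw [← comp_whiskerRight_assoc, IsMonHom.one_hom, MonObj.one_mul]
  mul_act := by
    rw [whiskerRight_comp_mul]
    simp only [MonObj.comp_mul, MonObj.mul_eq_mul, MonObj.mul_comp, whiskerRight_fst_assoc,
      whiskerRight_snd, whiskerLeft_fst_assoc, whiskerLeft_snd_assoc, whiskerLeft_snd, Category.assoc,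
      associator_hom_fst_assoc, associator_hom_fst, associator_hom_snd_fst_assoc,
      associator_hom_snd_fst, associator_hom_snd_snd, associator_hom_snd_snd_assoc]
    exact mul_assoc _ _ _

lemma homAction_equivariant {G H : Over S} [GrpObj G] [GrpObj H] (u : G ⟶ H) [IsMonHom u] :
    (G ◁ u) ≫ (homAction u).act = (selfAction G).act ≫ u := by
  change (G ◁ u) ≫ (u ▷ H) ≫ μ[H] = μ[G] ≫ u
  rw [IsMonHom.mul_hom, tensorHom_def', Category.assoc]

end Groth.Agent.Lib.Helper38.ActionMaxOpen
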