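import Groth.Agent.Lib.Helper38.PicPnB
import Groth.Agent.Lib.Proj.Helper66_Glue
import Groth.Agent.S3557

/-!
# Picard group of projective space over a UFD, part C (helper38)

ns `Groth.Agent.Lib.Helper38.PicPn`.
* `zfrac_mul`, `isIntegral_proj`, `genPt`, `not_inf_le`, `core_eq`, `core_dom`.
* `deg_eq` : the twisting degrees read off on the charts `D j`, `D k` agree.
-/

set_option linter.style.haveILetI false
universe u
open CategoryTheory CategoryTheory.Limits AlgebraicGeometry TopologicalSpace Opposite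
  HomogeneousLocalization

namespace Groth.Agent.Lib.Helper38.PicPn

open Groth.Agent.Lib.Ample Groth.Agent.Lib.QCoh Groth.Agent.Lib.Proj Groth.Agent.Lib.Proj.ToProj
  Groth.Agent.Lib.Proj.ToPn Groth.Agent.Lib.Proj.PullSec Groth.Agent.Lib.Proj.QuotCompare
  Groth.Agent.Lib.Proj.PnUP Groth.Agent.Lib.Proj.PnUnique
  Groth.Agent.Lib.Helper38.SepPts Groth.Agent.Lib.Helper48.UfdPic Scheme.Modules Twist

lemma core_eq {X : Scheme.{u}} {M : X.Modules} {V : X.Opens} (ε0 εj εk : Γ(M, V))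
    (hinj : Function.Injective (fun r : Γ(X, V) => r • εj))
    (τj τk η : Γ(X, V)) (aj bj ak bk : ℕ)
    (h1 : τj ^ aj • ε0 = τj ^ bj • εj) (h2 : τk ^ ak • ε0 = τk ^ bk • εk) (h3 : εk = η • εj) :
    τk ^ ak * τj ^ bj = τj ^ aj * τk ^ bk * η := by
  apply hinj
  show (τk ^ ak * τj ^ bj) • εj = (τj ^ aj * τk ^ bk * η) • εj
  rw [mul_smul, ← h1, mul_smul, mul_smul, ← h3, ← h2, ← mul_smul, ← mul_smul, mul_comm]

lemma core_dom {D : Type*} [CommRing D] [IsDomain D] (τ w η : D) (hw : IsUnit w) (hη : IsUnit η)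
    (hτ : τ ≠ 0) (A B p q : ℕ) (h : τ ^ A * w ^ p = τ ^ B * w ^ q * η) : A = B ∨ IsUnit τ := by
  rcases lt_trichotomy A B with hAB | hAB | hAB
  · right
    obtain ⟨c, rfl⟩ := Nat.exists_eq_add_of_lt hAB
    have h' : τ ^ A * w ^ p = τ ^ A * (τ ^ (c + 1) * (w ^ q * η)) := by
      rw [h]; ring
    have h2 := mul_left_cancel₀ (pow_ne_zero A hτ) h'
    have hu : IsUnit (τ ^ (c + 1) * (w ^ q * η)) := h2 ▸ hw.pow p
    have hu2 : IsUnit (τ ^ (c + 1)) := isUnit_of_mul_isUnit_left hu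
    exact (isUnit_pow_iff (Nat.succ_ne_zero c)).1 hu2
  · left; exact hAB
  · right
    obtain ⟨c, rfl⟩ := Nat.exists_eq_add_of_lt hAB
    have h' : τ ^ B * (τ ^ (c + 1) * w ^ p) = τ ^ B * (w ^ q * η) := by
      rw [← mul_assoc (τ ^ B) (w ^ q) η, ← h]; ring
    have h2 := mul_left_cancel₀ (pow_ne_zero B hτ) h'
    have hu : IsUnit (τ ^ (c + 1) * w ^ p) := h2 ▸ (hw.pow q).mul hη
    have hu2 : IsUnit (τ ^ (c + 1)) := isUnit_of_mul_isUnit_left hu
    exact (isUnit_pow_iff (Nat.succ_ne_zero c)).1 hu2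

variable (R : Type u) [CommRing R] (n : ℕ)

/-- `T_i / T_k = (T_i / T_j) (T_j / T_k)` on `D₊(T_j) ∩ D₊(T_k)` -/
lemma zfrac_mul (i j k : Fin (n + 1)) :
    resFn (inf_le_right : D R n j ⊓ D R n k ≤ D R n k) (zfrac n R k i) =
      resFn (inf_le_left : D R n j ⊓ D R n k ≤ D R n j) (zfrac n R j i) *
        resFn (inf_le_right : D R n j ⊓ D R n k ≤ D R n k) (zfrac n R k j) := by
  have hle : D R n k ≤ CohB1.genLocus (twist (CohB1.polyGrading n R) 1) (θ n R k) := by
    rw [genLocus_θ]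
  have he := isGenerator_resSec_of_le_genLocus (θ n R k) hle
  rw [secOf_θ] at he
  apply (he (D R n j ⊓ D R n k) inf_le_right).1
  show resFn _ (zfrac n R k i) • resSec _ _ (resSec _ _ (coord n R k)) =
    (resFn _ (zfrac n R j i) * resFn _ (zfrac n R k j)) • resSec _ _ (resSec _ _ (coord n R k))
  have h1 := congrArg (resSec (twist (CohB1.polyGrading n R) 1)
    (inf_le_right : D R n j ⊓ D R n k ≤ D R n k)) (coord_rel n R k i)
  have h2 := congrArg (resSec (twist (CohB1.polyGrading n R) 1)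
    (inf_le_left : D R n j ⊓ D R n k ≤ D R n j)) (coord_rel n R j i)
  have h3 := congrArg (resSec (twist (CohB1.polyGrading n R) 1)
    (inf_le_right : D R n j ⊓ D R n k ≤ D R n k)) (coord_rel n R k j)
  simp only [resSec_smul, resSec_resSec] at h1 h2 h3
  rw [resSec_resSec, ← h1, mul_smul, ← h3, ← h2]

theorem not_inf_le [Nontrivial R] (j k : Fin (n + 1)) (hj : j ≠ 0) (hk : k ≠ 0) :
    ¬ (D R n j ⊓ D R n k ≤ D R n 0) := by
  intro hle
  have hmem : (MvPolynomial.X j * MvPolynomial.X k : MvPolynomial (Fin (n + 1)) R) ∈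
      CohB1.polyGrading n R 2 :=
    SetLike.GradedMul.mul_mem (X_mem n R j) (X_mem n R k)
  obtain ⟨K, hK⟩ := Groth.Agent.Lib.Proj.Glue.exists_pow_mem_span (CohB1.polyGrading n R)
    (d := 2) (by norm_num) hmem (fun _ : Unit => (MvPolynomial.X 0 : MvPolynomial (Fin (n + 1)) R))
    (fun _ => 1) (fun _ => X_mem n R 0) (by
      intro z hz
      refine ⟨(), ?_⟩
      have hz' : (show Proj (CohB1.polyGrading n R) from z) ∈ D R n j ⊓ D R n k := by
        rw [← Proj.basicOpen_mul, Proj.mem_basicOpen]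
        exact hz
      exact (Proj.mem_basicOpen _ _ _).1 (hle hz'))
  rw [Set.range_const, Ideal.mem_span_singleton] at hK
  obtain ⟨c, hc⟩ := hK
  have h := congrArg (MvPolynomial.eval (fun i : Fin (n + 1) => if i = 0 then (0 : R) else 1)) hc
  simp only [map_pow, map_mul, MvPolynomial.eval_X, if_neg hj, if_neg hk, if_true, mul_one,
    one_pow, zero_mul] at h
  exact one_ne_zero h

lemma X_mem_irrelevant (i : Fin (n + 1)) :
    (MvPolynomial.X i : MvPolynomial (Fin (n + 1)) R) ∈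
      (HomogeneousIdeal.irrelevant (CohB1.polyGrading n R)).toIdeal := by
  rw [HomogeneousIdeal.mem_iff, HomogeneousIdeal.mem_irrelevant_iff,
    GradedRing.proj_apply, DirectSum.decompose_of_mem_ne _ (X_mem n R i) one_ne_zero]

variable [IsDomain R]

theorem isIntegral_proj : IsIntegral (Proj (CohB1.polyGrading n R)) := by
  rw [Groth.Agent.S3557.result (CohB1.polyGrading n R) (fun f _ hf => hf.eq_zero)]
  exact ⟨⟨MvPolynomial.X 0, X_mem_irrelevant R n 0, MvPolynomial.X_ne_zero 0⟩,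
    fun f _ g _ h => mul_eq_zero.1 h⟩

/-- the generic point of `P^n_R`: the zero ideal -/
noncomputable def genPt : Proj (CohB1.polyGrading n R) :=
  (⟨⊥, by
      show (⊥ : Ideal (MvPolynomial (Fin (n + 1)) R)).IsPrime
      exact Ideal.isPrime_bot, by
      intro h
      have := h (X_mem_irrelevant R n 0)
      exact MvPolynomial.X_ne_zero (0 : Fin (n + 1)) ((Submodule.mem_bot _).1 this)⟩ :
    ProjectiveSpectrum (CohB1.polyGrading n R))

lemma genPt_mem_basicOpen (f : MvPolynomial (Fin (n + 1)) R) (hf : f ≠ 0) :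
    genPt R n ∈ Proj.basicOpen (CohB1.polyGrading n R) f := by
  rw [Proj.mem_basicOpen]
  intro h
  exact hf ((Submodule.mem_bot _).1 h)


theorem deg_eq {M : (Proj (CohB1.polyGrading n R)).Modules}
    (e0 : Γ(M, D R n 0)) (j k : Fin (n + 1)) (hj : j ≠ 0) (hk : k ≠ 0)
    (ej : Γ(M, D R n j)) (hej : IsGenerator M (D R n j) ej)
    (ek : Γ(M, D R n k)) (hek : IsGenerator M (D R n k) ek) (aj bj ak bk : ℕ)
    (hRj : resFn (inf_le_right : D R n 0 ⊓ D R n j ≤ D R n j) (zfrac n R j 0) ^ aj •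
          resSec M (inf_le_left : D R n 0 ⊓ D R n j ≤ D R n 0) e0 =
        resFn (inf_le_right : D R n 0 ⊓ D R n j ≤ D R n j) (zfrac n R j 0) ^ bj •
          resSec M (inf_le_right : D R n 0 ⊓ D R n j ≤ D R n j) ej)
    (hRk : resFn (inf_le_right : D R n 0 ⊓ D R n k ≤ D R n k) (zfrac n R k 0) ^ ak •
          resSec M (inf_le_left : D R n 0 ⊓ D R n k ≤ D R n 0) e0 =
        resFn (inf_le_right : D R n 0 ⊓ D R n k ≤ D R n k) (zfrac n R k 0) ^ bk •
          resSec M (inf_le_right : D R n 0 ⊓ D R n k ≤ D R n k) ek) :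
    ak + bj = aj + bk := by
  haveI := isIntegral_proj R n
  -- the opens
  have hV0j : D R n 0 ⊓ (D R n j ⊓ D R n k) ≤ D R n 0 ⊓ D R n j :=
    le_inf inf_le_left (inf_le_right.trans inf_le_left)
  have hV0k : D R n 0 ⊓ (D R n j ⊓ D R n k) ≤ D R n 0 ⊓ D R n k :=
    le_inf inf_le_left (inf_le_right.trans inf_le_right)
  have hV0V : D R n 0 ⊓ (D R n j ⊓ D R n k) ≤ D R n j ⊓ D R n k := inf_le_right
  have hXj : (MvPolynomial.X j : MvPolynomial (Fin (n + 1)) R) ≠ 0 := MvPolynomial.X_ne_zero j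
  have hXk : (MvPolynomial.X k : MvPolynomial (Fin (n + 1)) R) ≠ 0 := MvPolynomial.X_ne_zero k
  have hX0 : (MvPolynomial.X 0 : MvPolynomial (Fin (n + 1)) R) ≠ 0 := MvPolynomial.X_ne_zero 0
  have hgV : genPt R n ∈ D R n j ⊓ D R n k :=
    ⟨genPt_mem_basicOpen R n _ hXj, genPt_mem_basicOpen R n _ hXk⟩
  have hgV0 : genPt R n ∈ D R n 0 ⊓ (D R n j ⊓ D R n k) :=
    ⟨genPt_mem_basicOpen R n _ hX0, hgV⟩
  haveI : Nonempty ↥(D R n j ⊓ D R n k) := ⟨⟨_, hgV⟩⟩
  haveI : Nonempty ↥(D R n 0 ⊓ (D R n j ⊓ D R n k)) := ⟨⟨_, hgV0⟩⟩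
  -- transition unit between the generators on `D j ⊓ D k`
  obtain ⟨h, hh, hhe⟩ := exists_unit_smul (hej.mono (inf_le_left : D R n j ⊓ D R n k ≤ D R n j))
    (hek.mono (inf_le_right : D R n j ⊓ D R n k ≤ D R n k))
  -- restrict everything to `V0`
  have h1 := congrArg (resSec M hV0j) hRj
  have h2 := congrArg (resSec M hV0k) hRk
  have h3 := congrArg (resSec M hV0V) hhe
  simp only [resSec_smul, resSec_resSec, resFn_pow, resFn_resFn] at h1 h2 h3
  have hinj := (hej (D R n 0 ⊓ (D R n j ⊓ D R n k)) (hV0V.trans inf_le_left)).1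
  have hc := core_eq _ _ _ hinj _ _ _ aj bj ak bk h1 h2 h3
  -- rewrite in terms of `τ`, `w` on `V`
  set τ := resFn (inf_le_left : D R n j ⊓ D R n k ≤ D R n j) (zfrac n R j 0) with hτdef
  set w := resFn (inf_le_right : D R n j ⊓ D R n k ≤ D R n k) (zfrac n R k j) with hwdef
  have hzk : resFn (inf_le_right : D R n j ⊓ D R n k ≤ D R n k) (zfrac n R k 0) = τ * w :=
    zfrac_mul R n 0 j k
  have e1 : resFn (hV0V.trans inf_le_left) (zfrac n R j 0) = resFn hV0V τ := by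
    rw [hτdef, resFn_resFn]
  have e2 : resFn (hV0V.trans inf_le_right) (zfrac n R k 0) = resFn hV0V (τ * w) := by
    rw [← hzk, resFn_resFn]
  rw [e1, e2] at hc
  have hc' : resFn hV0V ((τ * w) ^ ak * τ ^ bj) = resFn hV0V (τ ^ aj * (τ * w) ^ bk * h) := by
    simp only [resFn_mul, resFn_pow]
    exact hc
  have hinjV := map_injective_of_isIntegral (Proj (CohB1.polyGrading n R)) (homOfLE hV0V)
    (H := ⟨⟨_, hgV0⟩⟩)
  have hV : (τ * w) ^ ak * τ ^ bj = τ ^ aj * (τ * w) ^ bk * h := hinjV hc'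
  have hV' : τ ^ (ak + bj) * w ^ ak = τ ^ (aj + bk) * w ^ bk * h := by
    rw [pow_add, pow_add]
    rw [mul_pow, mul_pow] at hV
    calc τ ^ ak * τ ^ bj * w ^ ak = τ ^ ak * w ^ ak * τ ^ bj := by ring
      _ = τ ^ aj * (τ ^ bk * w ^ bk) * h := hV
      _ = τ ^ aj * τ ^ bk * w ^ bk * h := by ring
  -- `w` is a unit
  have hw : IsUnit w := by
    have := zfrac_mul R n k j k
    rw [zfrac_self, resFn_one] at this
    exact IsUnit.of_mul_eq_one _ (by rw [mul_comm]; exact this.symm)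
  -- `τ ≠ 0`
  have hbo : (Proj (CohB1.polyGrading n R)).basicOpen τ =
      (D R n j ⊓ D R n k) ⊓ (D R n 0 ⊓ D R n j) := by
    rw [hτdef, ← basicOpen_zfrac (R := R) (n := n) 0 j]
    exact Scheme.basicOpen_res _ _ _
  have hτ : τ ≠ 0 := by
    intro h0
    rw [h0, Scheme.basicOpen_zero] at hbo
    have : genPt R n ∈ (D R n j ⊓ D R n k) ⊓ (D R n 0 ⊓ D R n j) :=
      ⟨hgV, genPt_mem_basicOpen R n _ hX0, genPt_mem_basicOpen R n _ hXj⟩
    rw [← hbo] at this
    exact this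
  haveI : IsDomain Γ(Proj (CohB1.polyGrading n R), D R n j ⊓ D R n k) :=
    @IsIntegral.component_integral _ _ (D R n j ⊓ D R n k) ⟨⟨_, hgV⟩⟩
  rcases core_dom τ w h hw hh hτ (ak + bj) (aj + bk) ak bk hV' with heq | hu
  · exact heq
  · exfalso
    have h1 := Scheme.basicOpen_of_isUnit _ hu
    rw [hbo] at h1
    apply not_inf_le R n j k hj hk
    intro x hx
    have : x ∈ (D R n j ⊓ D R n k) ⊓ (D R n 0 ⊓ D R n j) := by rw [h1]; exact hx
    exact this.2.1

end Groth.Agent.Lib.Helper38.PicPn
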