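import Groth.Agent.Lib.Helper38.ConstA
import Groth.Agent.Lib.Helper38.PicPnC

set_option autoImplicit false
set_option linter.style.haveILetI false
universe u
open CategoryTheory AlgebraicGeometry MvPolynomial

namespace Groth.Agent.Lib.Helper38.AutA

variable {k : Type u} [Field k] {a b c : ℕ}

/-- the linear forms given by the rows of a matrix -/
noncomputable def lin (M : Matrix (Fin (a + 1)) (Fin (b + 1)) k) (i : Fin (a + 1)) :
    MvPolynomial (Fin (b + 1)) k := ∑ j, C (M i j) * X j

lemma lin_isHomogeneous (M : Matrix (Fin (a + 1)) (Fin (b + 1)) k) (i : Fin (a + 1)) :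
    (lin M i).IsHomogeneous 1 := by
  unfold lin
  apply IsHomogeneous.sum
  intro j _
  have h := (isHomogeneous_C (Fin (b + 1)) (M i j)).mul (isHomogeneous_X k j)
  rwa [zero_add] at h

/-- linear substitution `X_i ↦ ∑_j M i j X_j` -/
noncomputable def alpha (M : Matrix (Fin (a + 1)) (Fin (b + 1)) k) :
    MvPolynomial (Fin (a + 1)) k →ₐ[k] MvPolynomial (Fin (b + 1)) k := aeval (lin M)

lemma alpha_X (M : Matrix (Fin (a + 1)) (Fin (b + 1)) k) (i : Fin (a + 1)) :
    alpha M (X i) = lin M i := aeval_X _ _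

lemma alpha_C (M : Matrix (Fin (a + 1)) (Fin (b + 1)) k) (r : k) :
    alpha M (C r) = C r := by
  unfold alpha; rw [aeval_C]; rfl

lemma alpha_mem (M : Matrix (Fin (a + 1)) (Fin (b + 1)) k) {d : ℕ}
    {x : MvPolynomial (Fin (a + 1)) k} (hx : x ∈ CohB1.polyGrading a k d) :
    alpha M x ∈ CohB1.polyGrading b k d := by
  have h : (aeval (lin M) x).IsHomogeneous (1 * d) :=
    IsHomogeneous.aeval (show x.IsHomogeneous d from hx) (lin M) (lin_isHomogeneous M)
  rw [one_mul] at h
  exact h

lemma alpha_lin (M : Matrix (Fin (a + 1)) (Fin (b + 1)) k) (N : Matrix (Fin (b + 1)) (Fin (c + 1)) k)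
    (i : Fin (a + 1)) : alpha N (lin M i) = lin (M * N) i := by
  unfold lin
  rw [map_sum]
  simp only [map_mul, alpha_C, alpha_X]
  unfold lin
  simp only [Finset.mul_sum, Matrix.mul_apply, map_sum, Finset.sum_mul, map_mul]
  rw [Finset.sum_comm]
  apply Finset.sum_congr rfl
  intro l _
  apply Finset.sum_congr rfl
  intro j _
  ring

lemma alpha_comp (M : Matrix (Fin (a + 1)) (Fin (b + 1)) k) (N : Matrix (Fin (b + 1)) (Fin (c + 1)) k) :
    (alpha N).comp (alpha M) = alpha (M * N) := by
  apply MvPolynomial.algHom_ext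
  intro i
  rw [AlgHom.comp_apply, alpha_X, alpha_X, alpha_lin]

lemma alpha_comp_apply (M : Matrix (Fin (a + 1)) (Fin (b + 1)) k)
    (N : Matrix (Fin (b + 1)) (Fin (c + 1)) k) (x : MvPolynomial (Fin (a + 1)) k) :
    alpha N (alpha M x) = alpha (M * N) x := by
  rw [← alpha_comp]; rfl

lemma lin_one (i : Fin (a + 1)) : lin (1 : Matrix (Fin (a + 1)) (Fin (a + 1)) k) i = X i := by
  unfold lin
  rw [Finset.sum_eq_single i]
  · simp
  · intro j _ hj
    rw [Matrix.one_apply_ne (Ne.symm hj)]
    simp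
  · intro h; exact absurd (Finset.mem_univ i) h

lemma alpha_one : alpha (1 : Matrix (Fin (a + 1)) (Fin (a + 1)) k) = AlgHom.id k _ := by
  apply MvPolynomial.algHom_ext
  intro i
  rw [alpha_X, lin_one]; rfl

/-- `alpha M` as a graded ring hom -/
noncomputable def galpha (M : Matrix (Fin (a + 1)) (Fin (b + 1)) k) :
    (CohB1.polyGrading a k) →+*ᵍ (CohB1.polyGrading b k) where
  toRingHom := (alpha M).toRingHom
  map_mem := fun hx => alpha_mem M hx

lemma galpha_apply (M : Matrix (Fin (a + 1)) (Fin (b + 1)) k) (x : MvPolynomial (Fin (a + 1)) k) :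
    galpha M x = alpha M x := rfl

lemma galpha_comp (M : Matrix (Fin (a + 1)) (Fin (b + 1)) k) (N : Matrix (Fin (b + 1)) (Fin (c + 1)) k) :
    (galpha N).comp (galpha M) = galpha (M * N) := by
  apply GradedRingHom.ext
  intro x
  show alpha N (alpha M x) = alpha (M * N) x
  exact alpha_comp_apply M N x

lemma galpha_one : galpha (1 : Matrix (Fin (a + 1)) (Fin (a + 1)) k) = GradedRingHom.id _ := by
  apply GradedRingHom.ext
  intro x
  show alpha 1 x = x
  rw [alpha_one]; rfl

/-- the irrelevant-ideal condition for an invertible matrix -/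
lemma irrelevant_le_map_galpha (M N : Matrix (Fin (a + 1)) (Fin (a + 1)) k) (h : N * M = 1) :
    HomogeneousIdeal.irrelevant (CohB1.polyGrading a k) ≤
      (HomogeneousIdeal.irrelevant (CohB1.polyGrading a k)).map (galpha M) := by
  rw [HomogeneousIdeal.irrelevant_le]
  intro d hd x hx
  have h1 : x = galpha M (alpha N x) := by
    show x = alpha M (alpha N x)
    rw [alpha_comp_apply, h, alpha_one]; rfl
  rw [h1]
  exact Ideal.mem_map_of_mem _ (HomogeneousIdeal.mem_irrelevant_of_mem (CohB1.polyGrading a k) hd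
    (alpha_mem N hx))

/-! ### rational points -/

/-- the column matrix of a vector -/
def colv (v : Fin (a + 1) → k) : Matrix (Fin (a + 1)) (Fin (0 + 1)) k := fun i _ => v i

lemma lin_colv (v : Fin (a + 1) → k) (i : Fin (a + 1)) :
    lin (colv v) i = C (v i) * X 0 := by
  unfold lin colv
  simp

lemma mul_colv (M : Matrix (Fin (b + 1)) (Fin (a + 1)) k) (v : Fin (a + 1) → k) :
    M * colv v = colv (M.mulVec v) := by
  ext i j
  simp [colv, Matrix.mul_apply, Matrix.mulVec, dotProduct]

/-- evaluation of a form at a vector, as a polynomial in one variable -/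
noncomputable abbrev ev (v : Fin (a + 1) → k) :
    MvPolynomial (Fin (a + 1)) k →ₐ[k] MvPolynomial (Fin (0 + 1)) k := alpha (colv v)

lemma ev_lin (M : Matrix (Fin (b + 1)) (Fin (a + 1)) k) (v : Fin (a + 1) → k) (i : Fin (b + 1)) :
    ev v (lin M i) = C (M.mulVec v i) * X 0 := by
  unfold ev
  rw [alpha_lin, mul_colv, lin_colv]

lemma ev_alpha (M : Matrix (Fin (b + 1)) (Fin (a + 1)) k) (v : Fin (a + 1) → k)
    (x : MvPolynomial (Fin (b + 1)) k) : ev v (alpha M x) = ev (M.mulVec v) x := by
  unfold ev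
  rw [alpha_comp_apply, mul_colv]

lemma C_mul_X_eq_zero_iff (r : k) : (C r * X 0 : MvPolynomial (Fin (0 + 1)) k) = 0 ↔ r = 0 := by
  constructor
  · intro h
    rcases mul_eq_zero.1 h with h1 | h1
    · exact (map_eq_zero_iff C (C_injective _ _)).1 h1
    · exact absurd h1 (X_ne_zero _)
  · rintro rfl; simp

/-- the `k`-point `[v]` of `P^a_k` -/
noncomputable def pt (v : Fin (a + 1) → k) (hv : v ≠ 0) :
    ProjectiveSpectrum (CohB1.polyGrading a k) where
  asHomogeneousIdeal := (⊥ : HomogeneousIdeal (CohB1.polyGrading 0 k)).comap (galpha (colv v))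
  isPrime := by
    show (Ideal.comap (galpha (colv v)) (⊥ : Ideal (MvPolynomial (Fin (0 + 1)) k))).IsPrime
    exact Ideal.IsPrime.comap _
  not_irrelevant_le := by
    intro h
    obtain ⟨i, hi⟩ : ∃ i, v i ≠ 0 := by
      by_contra hcon
      push Not at hcon
      exact hv (funext hcon)
    have h1 := h (ConstA.X_mem_irrelevant' k a i)
    have h2 : alpha (colv v) (X i) = 0 := h1
    rw [alpha_X, lin_colv, C_mul_X_eq_zero_iff] at h2
    exact hi h2

lemma mem_pt (v : Fin (a + 1) → k) (hv : v ≠ 0) (x : MvPolynomial (Fin (a + 1)) k) :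
    x ∈ (pt v hv).asHomogeneousIdeal ↔ ev v x = 0 := Iff.rfl

lemma lin_mem_pt (M : Matrix (Fin (b + 1)) (Fin (a + 1)) k) (v : Fin (a + 1) → k) (hv : v ≠ 0)
    (i : Fin (b + 1)) : lin M i ∈ (pt v hv).asHomogeneousIdeal ↔ M.mulVec v i = 0 := by
  rw [mem_pt, ev_lin, C_mul_X_eq_zero_iff]

/-- a matrix all of whose nonzero vectors are "eigenvectors up to the point they define" is scalar -/
lemma exists_scalar (M : Matrix (Fin (a + 1)) (Fin (a + 1)) k)
    (h : ∀ v : Fin (a + 1) → k, v ≠ 0 → ∀ x : MvPolynomial (Fin (a + 1)) k,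
      ev v x = 0 → ev (M.mulVec v) x = 0) :
    ∃ r : k, M = Matrix.scalar (Fin (a + 1)) r := by
  classical
  have key : ∀ v : Fin (a + 1) → k, v ≠ 0 → ∀ i j, v i * M.mulVec v j = v j * M.mulVec v i := by
    intro v hv i j
    have h1 : ev v (C (v i) * X j - C (v j) * X i) = 0 := by
      unfold ev
      simp only [map_sub, map_mul, alpha_C, alpha_X, lin_colv]
      ring
    have h2 := h v hv _ h1
    unfold ev at h2
    simp only [map_sub, map_mul, alpha_C, alpha_X, lin_colv] at h2
    have h3 : (C (v i * M.mulVec v j - v j * M.mulVec v i) * X 0 :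
        MvPolynomial (Fin (0 + 1)) k) = 0 := by
      rw [← h2]; simp only [map_sub, map_mul]; ring
    rw [C_mul_X_eq_zero_iff] at h3
    exact sub_eq_zero.1 h3
  have hoff : ∀ i j, i ≠ j → M j i = 0 := by
    intro i j hij
    have hv : (Pi.single i 1 : Fin (a + 1) → k) ≠ 0 := by
      intro h0
      have := congrFun h0 i
      simp at this
    have h1 := key _ hv i j
    simp only [Matrix.mulVec_single_one, Pi.single_eq_same, one_mul, Matrix.col_apply,
      Pi.single_eq_of_ne hij.symm, zero_mul] at h1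
    exact h1
  have hdiag : ∀ i j, M i i = M j j := by
    intro i j
    by_cases hij : i = j
    · rw [hij]
    have hv : (Pi.single i 1 + Pi.single j 1 : Fin (a + 1) → k) ≠ 0 := by
      intro h0
      have := congrFun h0 i
      simp [Pi.single_eq_of_ne hij] at this
    have h1 := key _ hv i j
    simp only [Matrix.mulVec_add, Matrix.mulVec_single_one, Pi.add_apply, Pi.single_eq_same,
      Pi.single_eq_of_ne hij, Pi.single_eq_of_ne (Ne.symm hij), add_zero, zero_add, one_mul,
      Matrix.col_apply, hoff i j hij, hoff j i (Ne.symm hij)] at h1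
    exact h1.symm
  refine ⟨M 0 0, ?_⟩
  ext i j
  rw [Matrix.scalar_apply, Matrix.diagonal_apply]
  split_ifs with hij
  · rw [hij]; exact hdiag j 0
  · exact hoff j i (Ne.symm hij)

end Groth.Agent.Lib.Helper38.AutA
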