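import Groth.Agent.Lib.Helper38.AutA
import Groth.Agent.Lib.Helper42.ProjLoc

set_option autoImplicit false
set_option linter.style.haveILetI false
universe u
open CategoryTheory AlgebraicGeometry MvPolynomial

namespace Groth.Agent.Lib.Helper38.AutB

open Groth.Agent.Lib.Helper38.AutA

variable (k : Type u) [Field k] (n : ℕ)

lemma hirr (A : Matrix.GeneralLinearGroup (Fin (n + 1)) k) :
    HomogeneousIdeal.irrelevant (CohB1.polyGrading n k) ≤
      (HomogeneousIdeal.irrelevant (CohB1.polyGrading n k)).map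
        (galpha (A : Matrix (Fin (n + 1)) (Fin (n + 1)) k)) :=
  irrelevant_le_map_galpha _ ((A⁻¹ : Matrix.GeneralLinearGroup (Fin (n + 1)) k) :
    Matrix (Fin (n + 1)) (Fin (n + 1)) k) (by
      rw [← Units.val_mul, inv_mul_cancel]; rfl)

/-- the automorphism of `P^n_k` given by an invertible matrix -/
noncomputable def pmap (A : Matrix.GeneralLinearGroup (Fin (n + 1)) k) :
    Proj (CohB1.polyGrading n k) ⟶ Proj (CohB1.polyGrading n k) :=
  Proj.map (galpha (A : Matrix (Fin (n + 1)) (Fin (n + 1)) k)) (hirr k n A)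

lemma map_congr {f f' : (CohB1.polyGrading n k) →+*ᵍ (CohB1.polyGrading n k)} (h : f = f')
    (hf : HomogeneousIdeal.irrelevant (CohB1.polyGrading n k) ≤
      (HomogeneousIdeal.irrelevant (CohB1.polyGrading n k)).map f)
    (hf' : HomogeneousIdeal.irrelevant (CohB1.polyGrading n k) ≤
      (HomogeneousIdeal.irrelevant (CohB1.polyGrading n k)).map f') :
    Proj.map f hf = Proj.map f' hf' := by
  subst h; rfl

lemma pmap_one : pmap k n 1 = 𝟙 _ := by
  unfold pmap
  rw [map_congr k n (show galpha ((1 : Matrix.GeneralLinearGroup (Fin (n + 1)) k) :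
    Matrix (Fin (n + 1)) (Fin (n + 1)) k) = GradedRingHom.id _ from galpha_one) _ (by simp)]
  exact Proj.map_id

lemma pmap_mul (A B : Matrix.GeneralLinearGroup (Fin (n + 1)) k) :
    pmap k n (A * B) = pmap k n B ≫ pmap k n A := by
  unfold pmap
  rw [← Proj.map_comp]
  apply map_congr
  rw [galpha_comp]
  rfl

lemma pmap_toSpec (A : Matrix.GeneralLinearGroup (Fin (n + 1)) k) :
    pmap k n A ≫ CohB1.ProjSpace.toSpec n k = CohB1.ProjSpace.toSpec n k := by
  have h := Groth.Agent.Lib.Helper42.ProjLoc.map_toSpecZero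
    (galpha (A : Matrix (Fin (n + 1)) (Fin (n + 1)) k)) (hirr k n A)
    (algebraMap k (CohB1.polyGrading n k 0)) (algebraMap k (CohB1.polyGrading n k 0))
    (RingHom.id k) (fun r => alpha_C _ r)
  rw [CommRingCat.ofHom_id, Spec.map_id, Category.comp_id] at h
  exact h

/-- `pmap A` as an endomorphism of `P^n_k` over `Spec k` -/
noncomputable def om (A : Matrix.GeneralLinearGroup (Fin (n + 1)) k) :
    Over.mk (CohB1.ProjSpace.toSpec n k) ⟶ Over.mk (CohB1.ProjSpace.toSpec n k) :=
  Over.homMk (pmap k n A) (pmap_toSpec k n A)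

lemma om_one : om k n 1 = 𝟙 _ := by
  apply Over.OverMorphism.ext
  exact pmap_one k n

lemma om_mul (A B : Matrix.GeneralLinearGroup (Fin (n + 1)) k) :
    om k n (A * B) = om k n B ≫ om k n A := by
  apply Over.OverMorphism.ext
  exact pmap_mul k n A B

/-- the homomorphism `GL_{n+1}(k) → Aut(P^n_k / k)` -/
noncomputable def phi : Matrix.GeneralLinearGroup (Fin (n + 1)) k →*
    Aut (Over.mk (CohB1.ProjSpace.toSpec n k)) where
  toFun A := ⟨om k n A, om k n A⁻¹, by rw [← om_mul, inv_mul_cancel, om_one],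
    by rw [← om_mul, mul_inv_cancel, om_one]⟩
  map_one' := by
    apply Iso.ext
    exact om_one k n
  map_mul' A B := by
    apply Iso.ext
    exact om_mul k n A B

lemma phi_hom_left (A : Matrix.GeneralLinearGroup (Fin (n + 1)) k) :
    (phi k n A).hom.left = pmap k n A := rfl

lemma phi_eq_one_iff (A : Matrix.GeneralLinearGroup (Fin (n + 1)) k) :
    phi k n A = 1 ↔ pmap k n A = 𝟙 _ := by
  constructor
  · intro h
    have h1 := congrArg (fun e : Aut (Over.mk (CohB1.ProjSpace.toSpec n k)) => e.hom.left) h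
    exact h1
  · intro h
    apply Iso.ext
    apply Over.OverMorphism.ext
    exact h

end Groth.Agent.Lib.Helper38.AutB
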