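import Groth.Agent.Lib.Helper38.AutB

set_option autoImplicit false
set_option linter.style.haveILetI false
universe u
open CategoryTheory AlgebraicGeometry MvPolynomial

namespace Groth.Agent.Lib.Helper38.AutB

open Groth.Agent.Lib.Helper38.AutA

variable (k : Type u) [Field k] (n : ℕ)

lemma mem_pmap_pt (A : Matrix.GeneralLinearGroup (Fin (n + 1)) k) (v : Fin (n + 1) → k) (hv : v ≠ 0)
    (x : MvPolynomial (Fin (n + 1)) k) :
    x ∈ (show ProjectiveSpectrum (CohB1.polyGrading n k) from
      (pmap k n A) (show Proj (CohB1.polyGrading n k) from pt v hv)).asHomogeneousIdeal ↔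
      ev ((A : Matrix (Fin (n + 1)) (Fin (n + 1)) k).mulVec v) x = 0 := by
  rw [← ev_alpha]
  rfl

/-- `pmap A = 𝟙` forces `A` to be a scalar matrix -/
lemma exists_scalar_of_pmap_eq_id (A : Matrix.GeneralLinearGroup (Fin (n + 1)) k)
    (h : pmap k n A = 𝟙 _) :
    ∃ r : k, (A : Matrix (Fin (n + 1)) (Fin (n + 1)) k) = Matrix.scalar (Fin (n + 1)) r := by
  apply exists_scalar
  intro v hv x hx
  rw [← mem_pmap_pt k n A v hv, h]
  exact hx

end Groth.Agent.Lib.Helper38.AutB
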