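import Groth.Agent.Lib.Helper38.AutC
import Groth.Agent.Lib.Helper38.ConstD
import Groth.Agent.Lib.Proj.GenUP

set_option autoImplicit false
set_option linter.style.haveILetI false
universe u
open CategoryTheory CategoryTheory.Limits AlgebraicGeometry TopologicalSpace Opposite
  HomogeneousLocalization MvPolynomial

namespace Groth.Agent.Lib.Helper38.AutD

open Groth.Agent.Lib.Ample Groth.Agent.Lib.QCoh Groth.Agent.Lib.Proj Groth.Agent.Lib.Proj.ToProj
  Groth.Agent.Lib.Proj.ToPn Groth.Agent.Lib.Proj.PullSec Groth.Agent.Lib.Proj.QuotCompare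
  Groth.Agent.Lib.Proj.PnUP Groth.Agent.Lib.Proj.PnUnique Groth.Agent.Lib.Proj.GenUP
  Groth.Agent.Lib.Helper38.SepPts Groth.Agent.Lib.Helper38.PicPn Scheme.Modules Twist CohB1
  Groth.Agent.Lib.Helper38.AutA Groth.Agent.Lib.Helper38.AutB

variable (k : Type u) [Field k] (n : ℕ)
  (β : (CohB1.polyGrading n k) →+*ᵍ (CohB1.polyGrading n k))
  (hβ : HomogeneousIdeal.irrelevant (CohB1.polyGrading n k) ≤
      (HomogeneousIdeal.irrelevant (CohB1.polyGrading n k)).map β)

/-- `β` on linear forms -/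
noncomputable def bet1 (t : (CohB1.polyGrading n k) 1) : (CohB1.polyGrading n k) 1 :=
  ⟨β t.1, β.map_mem t.2⟩

lemma app_zfrac_map (s t : (CohB1.polyGrading n k) 1) :
    ((Proj.map β hβ).app (Proj.basicOpen (CohB1.polyGrading n k)
        (s : MvPolynomial (Fin (n + 1)) k))).hom (GenUP.zfrac (CohB1.polyGrading n k) s t) =
      GenUP.zfrac (CohB1.polyGrading n k) (bet1 k n β s) (bet1 k n β t) := by
  have h := Proj.awayToSection_comp_appLE β hβ s.2
  have h2 := congrArg (fun m => m.hom (HomogeneousLocalization.Away.mk (CohB1.polyGrading n k) s.2 1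
    (t : MvPolynomial (Fin (n + 1)) k) (mem_one_smul_one (CohB1.polyGrading n k) t))) h
  simp only [CommRingCat.hom_comp, RingHom.comp_apply, CommRingCat.hom_ofHom] at h2
  rw [HomogeneousLocalization.Away.map_mk] at h2
  rw [Scheme.Hom.app_eq_appLE]
  exact h2

lemma hUV_map (i : Fin (n + 1)) :
    CohB1.genLocus (twist (CohB1.polyGrading n k) 1) (sectHom (bet1 k n β (T n k i))) ≤
      (Proj.map β hβ) ⁻¹ᵁ Proj.basicOpen (CohB1.polyGrading n k)
        (MvPolynomial.X i : MvPolynomial (Fin (n + 1)) k) := by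
  rw [genLocus_sectHom_one (CohB1.polyGrading n k) (PnUP.hcov n k)]
  exact le_rfl

lemma hz_map (i j : Fin (n + 1)) :
    resFn (hUV_map k n β hβ i) (((Proj.map β hβ).app (Proj.basicOpen (CohB1.polyGrading n k)
      (MvPolynomial.X i : MvPolynomial (Fin (n + 1)) k))).hom (PnUP.zfrac n k i j)) =
      ratio (sectHom (bet1 k n β (T n k i))) (sectHom (bet1 k n β (T n k j))) := by
  apply eq_of_smul_resSec_eq (sectHom (bet1 k n β (T n k i))) le_rfl
  rw [← ratio_spec]
  have h0 : PnUP.zfrac n k i j = GenUP.zfrac (CohB1.polyGrading n k) (T n k i) (T n k j) := rfl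
  rw [h0]
  have h1 := app_zfrac_map k n β hβ (T n k i) (T n k j)
  have h1' : ((Proj.map β hβ).app (Proj.basicOpen (CohB1.polyGrading n k)
      (MvPolynomial.X i : MvPolynomial (Fin (n + 1)) k))).hom
        (GenUP.zfrac (CohB1.polyGrading n k) (T n k i) (T n k j)) =
      GenUP.zfrac (CohB1.polyGrading n k) (bet1 k n β (T n k i)) (bet1 k n β (T n k j)) := h1
  rw [h1', secOf_sectHom, secOf_sectHom]
  have hW : CohB1.genLocus (twist (CohB1.polyGrading n k) 1) (sectHom (bet1 k n β (T n k i))) ≤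
      Proj.basicOpen (CohB1.polyGrading n k)
        ((bet1 k n β (T n k i) : (CohB1.polyGrading n k) 1) : MvPolynomial (Fin (n + 1)) k) :=
    hUV_map k n β hβ i
  have h := congrArg (resSec (twist (CohB1.polyGrading n k) 1) hW)
    (globalOf_rel (CohB1.polyGrading n k) (bet1 k n β (T n k i)) (bet1 k n β (T n k j)))
  rw [resSec_smul, resSec_resSec, resSec_resSec] at h
  exact h.symm

/-- a `k`-endomorphism of `P^n_k` with the chart data of `Proj.map β` is `Proj.map β` -/
theorem eq_map_of_chart_data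
    (hmap : Proj.map β hβ ≫ CohB1.ProjSpace.toSpec n k = CohB1.ProjSpace.toSpec n k)
    (g : Proj (CohB1.polyGrading n k) ⟶ Proj (CohB1.polyGrading n k))
    (hg : g ≫ CohB1.ProjSpace.toSpec n k = CohB1.ProjSpace.toSpec n k)
    (hcov : ∀ x : Proj (CohB1.polyGrading n k), ∃ i,
      x ∈ CohB1.genLocus (twist (CohB1.polyGrading n k) 1) (sectHom (bet1 k n β (T n k i))))
    (hUV : ∀ i, CohB1.genLocus (twist (CohB1.polyGrading n k) 1) (sectHom (bet1 k n β (T n k i))) ≤
      g ⁻¹ᵁ Proj.basicOpen (CohB1.polyGrading n k)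
        (MvPolynomial.X i : MvPolynomial (Fin (n + 1)) k))
    (hz : ∀ i j, resFn (hUV i) ((g.app (Proj.basicOpen (CohB1.polyGrading n k)
      (MvPolynomial.X i : MvPolynomial (Fin (n + 1)) k))).hom (PnUP.zfrac n k i j)) =
      ratio (sectHom (bet1 k n β (T n k i))) (sectHom (bet1 k n β (T n k j)))) :
    g = Proj.map β hβ := by
  refine eq_of_chart_data (X := Proj (CohB1.polyGrading n k)) (R := k) n
    (CohB1.ProjSpace.toSpec n k) (L := twist (CohB1.polyGrading n k) 1)
    (fun i => sectHom (bet1 k n β (T n k i))) g (Proj.map β hβ) hg hmap hcov hUV ?_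
    (hUV_map k n β hβ) ?_
  · intro i j
    exact hz i j
  · intro i j
    exact hz_map k n β hβ i j

end Groth.Agent.Lib.Helper38.AutD
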