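import Groth.Agent.Lib.Helper38.AutD

set_option autoImplicit false
set_option linter.style.haveILetI false
universe u
open CategoryTheory CategoryTheory.Limits AlgebraicGeometry TopologicalSpace Opposite
  HomogeneousLocalization MvPolynomial

namespace Groth.Agent.Lib.Helper38.AutD

open Groth.Agent.Lib.Ample Groth.Agent.Lib.QCoh Groth.Agent.Lib.Proj Groth.Agent.Lib.Proj.ToProj
  Groth.Agent.Lib.Proj.ToPn Groth.Agent.Lib.Proj.PullSec Groth.Agent.Lib.Proj.QuotCompare
  Groth.Agent.Lib.Proj.PnUP Groth.Agent.Lib.Proj.PnUnique Groth.Agent.Lib.Proj.GenUP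
  Groth.Agent.Lib.Helper38.SepPts Groth.Agent.Lib.Helper38.PicPn Scheme.Modules Twist CohB1
  Groth.Agent.Lib.Helper38.AutA Groth.Agent.Lib.Helper38.AutB

variable (k : Type u) [Field k] (n : ℕ)

lemma lin_scalar (c : k) (i : Fin (n + 1)) :
    lin (Matrix.scalar (Fin (n + 1)) c) i = C c * X i := by
  unfold lin
  rw [Finset.sum_eq_single i]
  · simp
  · intro j _ hj
    rw [Matrix.scalar_apply, Matrix.diagonal_apply_ne _ (Ne.symm hj)]
    simp
  · intro h; exact absurd (Finset.mem_univ i) h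

/-- scalar matrices act trivially on `P^n_k` -/
theorem pmap_scalar (A : Matrix.GeneralLinearGroup (Fin (n + 1)) k) (c : k)
    (hA : (A : Matrix (Fin (n + 1)) (Fin (n + 1)) k) = Matrix.scalar (Fin (n + 1)) c) :
    pmap k n A = 𝟙 _ := by
  have hc : c ≠ 0 := by
    rintro rfl
    have h1 : (A : Matrix (Fin (n + 1)) (Fin (n + 1)) k) = 0 := by rw [hA]; simp
    have h2 := A.isUnit
    rw [h1] at h2
    exact not_isUnit_zero h2
  have hell : ∀ i, ((bet1 k n (galpha (A : Matrix (Fin (n + 1)) (Fin (n + 1)) k)) (T n k i) :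
      (CohB1.polyGrading n k) 1) : MvPolynomial (Fin (n + 1)) k) = C c * X i := by
    intro i
    show alpha _ (X i) = _
    rw [alpha_X, hA, lin_scalar]
  have hmem : ∀ (i : Fin (n + 1)) (x : Proj (CohB1.polyGrading n k)),
      x ∈ Proj.basicOpen (CohB1.polyGrading n k) (C c * X i : MvPolynomial (Fin (n + 1)) k) ↔
      x ∈ Proj.basicOpen (CohB1.polyGrading n k) (X i : MvPolynomial (Fin (n + 1)) k) := by
    intro i x
    rw [Proj.mem_basicOpen, Proj.mem_basicOpen]
    constructor
    · intro h h'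
      exact h (Ideal.mul_mem_left _ _ h')
    · intro h h'
      apply h
      have : (X i : MvPolynomial (Fin (n + 1)) k) = C c⁻¹ * (C c * X i) := by
        rw [← mul_assoc, ← C_mul, inv_mul_cancel₀ hc, C_1, one_mul]
      rw [this]
      exact Ideal.mul_mem_left _ _ h'
  have hgl : ∀ i, CohB1.genLocus (twist (CohB1.polyGrading n k) 1)
      (sectHom (bet1 k n (galpha (A : Matrix (Fin (n + 1)) (Fin (n + 1)) k)) (T n k i))) =
      Proj.basicOpen (CohB1.polyGrading n k) (C c * X i : MvPolynomial (Fin (n + 1)) k) := by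
    intro i
    rw [genLocus_sectHom_one (CohB1.polyGrading n k) (PnUP.hcov n k), hell]
  symm
  unfold pmap
  have hUV : ∀ i, CohB1.genLocus (twist (CohB1.polyGrading n k) 1)
      (sectHom (bet1 k n (galpha (A : Matrix (Fin (n + 1)) (Fin (n + 1)) k)) (T n k i))) ≤
      (𝟙 (Proj (CohB1.polyGrading n k))) ⁻¹ᵁ Proj.basicOpen (CohB1.polyGrading n k)
        (MvPolynomial.X i : MvPolynomial (Fin (n + 1)) k) := by
    intro i x hx
    rw [hgl i] at hx
    exact (hmem i x).1 hx
  refine eq_map_of_chart_data k n _ (hirr k n A) (pmap_toSpec k n A) (𝟙 _) (Category.id_comp _)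
    ?_ hUV ?_
  · intro x
    have h1 : x ∈ (⊤ : (Proj (CohB1.polyGrading n k)).Opens) := trivial
    rw [← iSup_basicOpen_X n k] at h1
    obtain ⟨i, hi⟩ := Opens.mem_iSup.1 h1
    exact ⟨i, by rw [hgl i]; exact (hmem i x).2 hi⟩
  · intro i j
    apply eq_of_smul_resSec_eq (sectHom (bet1 k n (galpha (A : Matrix (Fin (n + 1)) (Fin (n + 1)) k))
      (T n k i))) le_rfl
    rw [← ratio_spec, secOf_sectHom, secOf_sectHom]
    have hid : ((𝟙 (Proj (CohB1.polyGrading n k)) : Proj (CohB1.polyGrading n k) ⟶ _).app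
        (Proj.basicOpen (CohB1.polyGrading n k)
          (MvPolynomial.X i : MvPolynomial (Fin (n + 1)) k))).hom (PnUP.zfrac n k i j) =
        PnUP.zfrac n k i j := by
      rw [Scheme.Hom.id_app]; rfl
    rw [hid]
    apply sec_ext (𝒜 := CohB1.polyGrading n k) (m := 1)
      (V := op (CohB1.genLocus (twist (CohB1.polyGrading n k) 1)
        (sectHom (bet1 k n (galpha (A : Matrix (Fin (n + 1)) (Fin (n + 1)) k)) (T n k i)))))
    intro x
    refine (val_smul (𝒜 := CohB1.polyGrading n k) (m := 1) (resFn (hUV i) (PnUP.zfrac n k i j)) _ x).trans ?_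
    have hx : x.1 ∈ Proj.basicOpen (CohB1.polyGrading n k)
        (MvPolynomial.X i : MvPolynomial (Fin (n + 1)) k) := hUV i x.2
    have h1 := val_zfrac k n i j ⟨x.1, hx⟩
    refine Eq.trans (congrArg (fun q => q * _) h1) ?_
    have hxi : (MvPolynomial.X i : MvPolynomial (Fin (n + 1)) k) ∉ x.1.asHomogeneousIdeal := hx
    show frac x.1 (X j) (X i) hxi *
      frac x.1 ((bet1 k n (galpha (A : Matrix (Fin (n + 1)) (Fin (n + 1)) k)) (T n k i) :
        (CohB1.polyGrading n k) 1) : MvPolynomial (Fin (n + 1)) k) 1 (one_not_mem x.1) =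
      frac x.1 ((bet1 k n (galpha (A : Matrix (Fin (n + 1)) (Fin (n + 1)) k)) (T n k j) :
        (CohB1.polyGrading n k) 1) : MvPolynomial (Fin (n + 1)) k) 1 (one_not_mem x.1)
    refine (frac_mul_frac x.1 _ _ _ _ hxi (one_not_mem x.1)).trans ?_
    refine Localization.mk_eq_mk_iff.2 (Localization.r_iff_exists.2 ⟨1, ?_⟩)
    simp only [OneMemClass.coe_one, one_mul, mul_one]
    rw [hell i, hell j]
    ring

end Groth.Agent.Lib.Helper38.AutD
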