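import Groth.Agent.Lib.Helper38.AutE
import Groth.Agent.Lib.Helper56.PullTensorB
import Groth.Agent.Lib.QCoh.TensorPic

set_option autoImplicit false
set_option linter.style.haveILetI false
universe u
open CategoryTheory CategoryTheory.Limits AlgebraicGeometry TopologicalSpace Opposite
  HomogeneousLocalization MvPolynomial

namespace Groth.Agent.Lib.Helper38.AutF

open Groth.Agent.Lib.Ample Groth.Agent.Lib.QCoh Groth.Agent.Lib.Proj Groth.Agent.Lib.Proj.ToProj
  Groth.Agent.Lib.Proj.ToPn Groth.Agent.Lib.Proj.PullSec Groth.Agent.Lib.Proj.QuotCompare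
  Groth.Agent.Lib.Proj.PnUP Groth.Agent.Lib.Proj.PnUnique
  Groth.Agent.Lib.Helper38.SepPts Groth.Agent.Lib.Helper38.PicPn Scheme.Modules Twist CohB1
  Groth.Agent.Lib.Helper38.ConstB

variable (k : Type u) [Field k] (n : ℕ)

/-- `O(d)^{⊗ e} ≅ O(d e)` on `P^n_k` -/
theorem nonempty_tensorPow_twist (d : ℤ) : ∀ e : ℕ,
    Nonempty (CohB1.tensorPow (twist (CohB1.polyGrading n k) d) e ≅
      twist (CohB1.polyGrading n k) (d * (e : ℤ)))
  | 0 => by
    have h : d * ((0 : ℕ) : ℤ) = 0 := by simp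
    rw [h]
    exact ⟨(twistZeroIso (CohB1.polyGrading n k)).symm⟩
  | e + 1 => by
    obtain ⟨φ⟩ := nonempty_tensorPow_twist d e
    exact ⟨tensorModCongr φ (Iso.refl _) ≪≫
      twistMulIso (𝒜 := CohB1.polyGrading n k) (d * (e : ℤ)) d (d * ((e + 1 : ℕ) : ℤ))
        (by push_cast; ring) (hasUnitFrac_of_cover (PnUP.hcov n k) _)⟩

/-- the degree of `f^* O(1)` is nonnegative -/
theorem deg_nonneg (hn : 1 ≤ n) (m : ℕ)
    (f : Proj (CohB1.polyGrading n k) ⟶ Proj (CohB1.polyGrading m k)) (d : ℤ)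
    (τ : (Scheme.Modules.pullback f).obj (twist (CohB1.polyGrading m k) 1) ≅
      twist (CohB1.polyGrading n k) d) : 0 ≤ d := by
  by_contra hd
  push Not at hd
  have hgen : ∀ i, CohB1.genLocus (twist (CohB1.polyGrading n k) d) (μ m f i ≫ τ.hom) =
      f ⁻¹ᵁ Proj.basicOpen (CohB1.polyGrading m k)
        (MvPolynomial.X i : MvPolynomial (Fin (m + 1)) k) := fun i => by
    rw [genLocus_comp_iso, genLocus_μ]
  have h1 : f (genPt k n) ∈ (⊤ : (Proj (CohB1.polyGrading m k)).Opens) := trivial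
  rw [← iSup_basicOpen_X m k] at h1
  obtain ⟨i, hi⟩ := Opens.mem_iSup.1 h1
  have h2 : genPt k n ∈ CohB1.genLocus (twist (CohB1.polyGrading n k) d) (μ m f i ≫ τ.hom) := by
    rw [hgen i]; exact hi
  rw [eq_zero_of_neg k n hn d hd (μ m f i ≫ τ.hom), genLocus_zero] at h2
  exact h2

/-- an automorphism of `P^n_k`, `n ≥ 1`, pulls `O(1)` back to `O(1)` -/
theorem nonempty_pullback_iso (hn : 1 ≤ n)
    (g h : Proj (CohB1.polyGrading n k) ⟶ Proj (CohB1.polyGrading n k))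
    (hgh : g ≫ h = 𝟙 _) :
    Nonempty ((Scheme.Modules.pullback g).obj (twist (CohB1.polyGrading n k) 1) ≅
      twist (CohB1.polyGrading n k) 1) := by
  have hO1 := isInvertible_O1 n k
  obtain ⟨d, ⟨τ⟩⟩ := exists_iso_twist k n (isInvertible_pullback g hO1)
  obtain ⟨d', ⟨τ'⟩⟩ := exists_iso_twist k n (isInvertible_pullback h hO1)
  have hd := deg_nonneg k n hn n g d τ
  have hd' := deg_nonneg k n hn n h d' τ'
  obtain ⟨e', rfl⟩ := Int.eq_ofNat_of_zero_le hd'
  obtain ⟨ψ⟩ := nonempty_twist_iso_tensorPow (PnUP.hcov n k) e'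
  obtain ⟨χ⟩ := nonempty_tensorPow_twist k n d e'
  -- `O(1) ≅ O(d e')`
  have key : Nonempty (twist (CohB1.polyGrading n k) 1 ≅ twist (CohB1.polyGrading n k) (d * (e' : ℤ))) :=
    ⟨((Scheme.Modules.pullbackId _).app _).symm ≪≫
      ((Scheme.Modules.pullbackCongr hgh).app _).symm ≪≫
      ((Scheme.Modules.pullbackComp g h).app _).symm ≪≫
      (Scheme.Modules.pullback g).mapIso (τ' ≪≫ ψ) ≪≫
      Groth.Agent.Lib.Helper56.PullTensor.pullbackTensorPowIso g hO1 e' ≪≫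
      tensorPowCongr τ e' ≪≫ χ⟩
  have h1 : (1 : ℤ) = d * (e' : ℤ) :=
    Groth.Agent.Lib.Helper27.TwistInj.twist_inj k n hn 1 (d * (e' : ℤ)) key
  have h2 : d = 1 := by
    have h3 : d ∣ 1 := ⟨(e' : ℤ), h1⟩
    have h4 := Int.eq_one_or_neg_one_of_mul_eq_one h1.symm
    rcases h4 with h4 | h4
    · exact h4
    · omega
  rw [h2] at τ
  exact ⟨τ⟩

end Groth.Agent.Lib.Helper38.AutF
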