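import Groth.Agent.Lib.Helper38.AutF

set_option autoImplicit false
set_option linter.style.haveILetI false
universe u
open CategoryTheory CategoryTheory.Limits AlgebraicGeometry TopologicalSpace Opposite
  HomogeneousLocalization MvPolynomial

namespace Groth.Agent.Lib.Helper38.AutG

open Groth.Agent.Lib.Ample Groth.Agent.Lib.QCoh Groth.Agent.Lib.Proj Groth.Agent.Lib.Proj.ToProj
  Groth.Agent.Lib.Proj.ToPn Groth.Agent.Lib.Proj.PullSec Groth.Agent.Lib.Proj.QuotCompare
  Groth.Agent.Lib.Proj.PnUP Groth.Agent.Lib.Proj.PnUnique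
  Groth.Agent.Lib.Helper38.SepPts Groth.Agent.Lib.Helper38.PicPn Scheme.Modules Twist CohB1
  Groth.Agent.Lib.Helper38.ConstB Groth.Agent.Lib.Helper38.AutA Groth.Agent.Lib.Helper38.AutB
  Groth.Agent.Lib.Helper38.AutD Groth.Agent.Lib.Helper38.AutF

variable (k : Type u) [Field k] (n : ℕ)

/-- every automorphism of `P^n_k` over `k` (`n ≥ 1`) is a linear substitution -/
theorem exists_pmap_eq (hn : 1 ≤ n)
    (g h : Proj (CohB1.polyGrading n k) ⟶ Proj (CohB1.polyGrading n k))
    (hgh : g ≫ h = 𝟙 _)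
    (hg : g ≫ CohB1.ProjSpace.toSpec n k = CohB1.ProjSpace.toSpec n k) :
    ∃ A : Matrix.GeneralLinearGroup (Fin (n + 1)) k, g = pmap k n A := by
  classical
  obtain ⟨τ⟩ := nonempty_pullback_iso k n hn g h hgh
  have hp : ∀ i, ∃ p : (CohB1.polyGrading n k) 1, μ n g i ≫ τ.hom = sectHom p := fun i =>
    exists_eq_sectHom_deg k n 1 (μ n g i ≫ τ.hom)
  choose ℓ hℓ using hp
  obtain ⟨M, hM⟩ : ∃ M : Matrix (Fin (n + 1)) (Fin (n + 1)) k,
      M = fun i j => coeff (Finsupp.single j 1) ((ℓ i : (CohB1.polyGrading n k) 1) :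
        MvPolynomial (Fin (n + 1)) k) := ⟨_, rfl⟩
  have hlin : ∀ i, ((ℓ i : (CohB1.polyGrading n k) 1) : MvPolynomial (Fin (n + 1)) k) = lin M i := by
    intro i
    rw [hM]
    exact Groth.Agent.Lib.Helper38.Hyp.eq_sum_of_isHomogeneous_one _ (ℓ i).2
  have hb : ∀ i, bet1 k n (galpha M) (T n k i) = ℓ i := fun i => Subtype.ext (by
    show alpha M (X i) = _
    rw [alpha_X, hlin])
  have hσ : ∀ i, sectHom (bet1 k n (galpha M) (T n k i)) = μ n g i ≫ τ.hom := fun i => by
    rw [hb, hℓ]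
  have hτ : ∀ i, (τ.hom.app ⊤).hom
      (ProjUP.pullSec g (twist (CohB1.polyGrading n k) 1) (coord n k i)) =
      secOf (sectHom (bet1 k n (galpha M) (T n k i))) := by
    intro i
    rw [hσ, ← secOf_μ]
    rfl
  have hcov := cover_of_iso n (fun i => sectHom (bet1 k n (galpha M) (T n k i))) g τ hτ
  have hdet : IsUnit M.det := by
    rw [isUnit_iff_ne_zero]
    intro hdet
    obtain ⟨v, hv, hMv⟩ := Matrix.exists_mulVec_eq_zero_iff.2 hdet
    obtain ⟨i, hi⟩ := hcov (show Proj (CohB1.polyGrading n k) from pt v hv)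
    have hgl := GenUP.genLocus_sectHom_one (CohB1.polyGrading n k) (PnUP.hcov n k)
      (bet1 k n (galpha M) (T n k i))
    have hi' := hgl.le hi
    rw [Proj.mem_basicOpen] at hi'
    apply hi'
    have h1 : ((bet1 k n (galpha M) (T n k i) : (CohB1.polyGrading n k) 1) :
        MvPolynomial (Fin (n + 1)) k) = lin M i := by rw [hb, hlin]
    rw [h1]
    exact (lin_mem_pt M v hv i).2 (congrFun hMv i)
  refine ⟨Matrix.nonsingInvUnit M hdet, ?_⟩
  exact eq_map_of_chart_data k n (galpha M) (hirr k n (Matrix.nonsingInvUnit M hdet))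
    (pmap_toSpec k n (Matrix.nonsingInvUnit M hdet)) g hg hcov
    (fun i => (genLocus_eq_preimage n (fun i => sectHom (bet1 k n (galpha M) (T n k i))) g τ hτ i).le)
    (app_zfrac n (fun i => sectHom (bet1 k n (galpha M) (T n k i))) g τ hτ)

end Groth.Agent.Lib.Helper38.AutG
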