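import Groth.Agent.Lib.Helper38.AutG

set_option autoImplicit false
set_option linter.style.haveILetI false
universe u
open CategoryTheory CategoryTheory.Limits AlgebraicGeometry TopologicalSpace Opposite
  HomogeneousLocalization MvPolynomial

namespace Groth.Agent.Lib.Helper38.AutG

open Groth.Agent.Lib.Ample Groth.Agent.Lib.QCoh Groth.Agent.Lib.Proj Groth.Agent.Lib.Proj.ToProj
  Groth.Agent.Lib.Proj.ToPn Groth.Agent.Lib.Proj.PullSec Groth.Agent.Lib.Proj.QuotCompare
  Groth.Agent.Lib.Proj.PnUP Groth.Agent.Lib.Proj.PnUnique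
  Groth.Agent.Lib.Helper38.SepPts Groth.Agent.Lib.Helper38.PicPn Scheme.Modules Twist CohB1
  Groth.Agent.Lib.Helper38.ConstB Groth.Agent.Lib.Helper38.AutA Groth.Agent.Lib.Helper38.AutB
  Groth.Agent.Lib.Helper38.AutD Groth.Agent.Lib.Helper38.AutF

variable (k : Type u) [Field k]

/-- every `k`-endomorphism of `P^0_k` is the identity -/
theorem eq_pmap_one_of_zero
    (g : Proj (CohB1.polyGrading 0 k) ⟶ Proj (CohB1.polyGrading 0 k))
    (hg : g ≫ CohB1.ProjSpace.toSpec 0 k = CohB1.ProjSpace.toSpec 0 k) :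
    g = pmap k 0 1 := by
  haveI : Subsingleton (Fin (0 + 1)) := (inferInstance : Subsingleton (Fin 1))
  have htop : Proj.basicOpen (CohB1.polyGrading 0 k)
      (MvPolynomial.X 0 : MvPolynomial (Fin (0 + 1)) k) = ⊤ := by
    rw [eq_top_iff, ← iSup_basicOpen_X 0 k]
    refine iSup_le fun i => ?_
    rw [Subsingleton.elim i 0]
  have hb : ∀ i : Fin (0 + 1), ((bet1 k 0 (galpha ((1 : Matrix.GeneralLinearGroup (Fin (0 + 1)) k) :
      Matrix (Fin (0 + 1)) (Fin (0 + 1)) k)) (T 0 k i) : (CohB1.polyGrading 0 k) 1) :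
      MvPolynomial (Fin (0 + 1)) k) = X i := by
    intro i
    show alpha _ (X i) = _
    rw [alpha_X]
    exact lin_one i
  have hgl : ∀ i : Fin (0 + 1), CohB1.genLocus (twist (CohB1.polyGrading 0 k) 1)
      (sectHom (bet1 k 0 (galpha ((1 : Matrix.GeneralLinearGroup (Fin (0 + 1)) k) :
        Matrix (Fin (0 + 1)) (Fin (0 + 1)) k)) (T 0 k i))) = ⊤ := by
    intro i
    rw [GenUP.genLocus_sectHom_one (CohB1.polyGrading 0 k) (PnUP.hcov 0 k), hb,
      Subsingleton.elim i 0, htop]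
  have hUV : ∀ i : Fin (0 + 1), CohB1.genLocus (twist (CohB1.polyGrading 0 k) 1)
      (sectHom (bet1 k 0 (galpha ((1 : Matrix.GeneralLinearGroup (Fin (0 + 1)) k) :
        Matrix (Fin (0 + 1)) (Fin (0 + 1)) k)) (T 0 k i))) ≤
      g ⁻¹ᵁ Proj.basicOpen (CohB1.polyGrading 0 k)
        (MvPolynomial.X i : MvPolynomial (Fin (0 + 1)) k) := by
    intro i
    rw [Subsingleton.elim i 0, htop]
    exact le_top
  unfold pmap
  refine eq_map_of_chart_data k 0 _ (hirr k 0 1) (pmap_toSpec k 0 1) g hg ?_ hUV ?_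
  · intro x
    exact ⟨0, by rw [hgl 0]; trivial⟩
  · intro i j
    obtain rfl : i = 0 := Subsingleton.elim i 0
    obtain rfl : j = 0 := Subsingleton.elim j 0
    apply eq_of_smul_resSec_eq (sectHom (bet1 k 0 (galpha ((1 : Matrix.GeneralLinearGroup
      (Fin (0 + 1)) k) : Matrix (Fin (0 + 1)) (Fin (0 + 1)) k)) (T 0 k 0))) le_rfl
    rw [← ratio_spec, zfrac_self, map_one]
    rw [Groth.Agent.Lib.Helper48.UfdPic.resFn_one, one_smul]

end Groth.Agent.Lib.Helper38.AutG
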