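import Mathlib.RingTheory.Length
import Mathlib.RingTheory.FiniteLength
import Mathlib.RingTheory.Flat.Basic
import Mathlib.LinearAlgebra.TensorProduct.RightExactness
import Mathlib.LinearAlgebra.TensorProduct.Quotient
import Mathlib.RingTheory.Artinian.Module
import Mathlib.RingTheory.SimpleModule.Basic
import Mathlib.RingTheory.HopkinsLevitzki
import Mathlib.Algebra.Category.Ring.Constructions
import Mathlib.RingTheory.Ideal.Quotient.Operations
import Mathlib.LinearAlgebra.Dimension.Free

/-!
# Degree of a tower `K → B → C`, `B` finite over the field `K`, `C` of bounded degree on the fibres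
-/

set_option autoImplicit false
universe u

open TensorProduct

namespace Groth.Agent.Lib.Helper38.FinDegTower

section Length

variable {K : Type u} [Field K] {M₁ M₂ M₃ : Type u} [AddCommGroup M₁] [AddCommGroup M₂]
  [AddCommGroup M₃] [Module K M₁] [Module K M₂] [Module K M₃]

/-- Subadditivity of the length on a right exact sequence. -/
theorem length_le_add_of_exact (f : M₁ →ₗ[K] M₂) (g : M₂ →ₗ[K] M₃) (hg : Function.Surjective g)
    (h : Function.Exact f g) :
    Module.length K M₂ ≤ Module.length K M₁ + Module.length K M₃ := by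
  have h1 : Module.length K M₂ = Module.length K (LinearMap.range f) + Module.length K M₃ := by
    refine Module.length_eq_add_of_exact (LinearMap.range f).subtype g
      (Submodule.injective_subtype _) hg ?_
    intro y
    rw [h y]
    constructor
    · rintro ⟨x, rfl⟩
      exact ⟨⟨f x, ⟨x, rfl⟩⟩, rfl⟩
    · rintro ⟨⟨_, ⟨x, rfl⟩⟩, rfl⟩
      exact ⟨x, rfl⟩
  rw [h1]
  gcongr
  exact Module.length_le_of_surjective f.rangeRestrict f.surjective_rangeRestrict

end Length

variable {K B C : Type u} [Field K] [CommRing B] [CommRing C] [Algebra K B] [Algebra B C]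
  [Algebra K C] [IsScalarTower K B C]

/-- Key induction: for a `B`-module `N` of finite length, `length_K (C ⊗ N) ≤ n * length_K (B ⊗ N)`
as soon as this holds for the simple modules `B ⧸ 𝔪`. -/
theorem length_tensor_le (n : ℕ)
    (h : ∀ 𝔪 : Ideal B, 𝔪.IsMaximal →
      Module.length K (C ⊗[B] (B ⧸ 𝔪)) ≤ n * Module.length K (B ⊗[B] (B ⧸ 𝔪)))
    (N : Type u) [AddCommGroup N] [Module B N] (hN : IsFiniteLength B N) :
    Module.length K (C ⊗[B] N) ≤ n * Module.length K (B ⊗[B] N) := by
  induction hN with
  | of_subsingleton =>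
    rw [Module.length_eq_zero, Module.length_eq_zero]
    simp
  | @of_simple_quotient M _ _ N' hsimple hN' ih =>
    have hex : Function.Exact N'.subtype N'.mkQ := by
      intro x
      rw [Submodule.mkQ_apply, Submodule.Quotient.mk_eq_zero]
      constructor
      · intro hx; exact ⟨⟨x, hx⟩, rfl⟩
      · rintro ⟨y, rfl⟩; exact y.2
    have hsurj : Function.Surjective N'.mkQ := Submodule.mkQ_surjective N'
    -- the `C`-side
    have hC : Module.length K (C ⊗[B] M) ≤
        Module.length K (C ⊗[B] N') + Module.length K (C ⊗[B] (M ⧸ N')) := by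
      refine length_le_add_of_exact
        ((TensorProduct.AlgebraTensorModule.lTensor C C N'.subtype).restrictScalars K)
        ((TensorProduct.AlgebraTensorModule.lTensor C C N'.mkQ).restrictScalars K) ?_ ?_
      · exact LinearMap.lTensor_surjective C hsurj
      · exact lTensor_exact C hex hsurj
    -- the `B`-side
    have hB : Module.length K (B ⊗[B] M) =
        Module.length K (B ⊗[B] N') + Module.length K (B ⊗[B] (M ⧸ N')) := by
      refine Module.length_eq_add_of_exact
        ((TensorProduct.AlgebraTensorModule.lTensor B B N'.subtype).restrictScalars K)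
        ((TensorProduct.AlgebraTensorModule.lTensor B B N'.mkQ).restrictScalars K) ?_ ?_ ?_
      · exact Module.Flat.lTensor_preserves_injective_linearMap N'.subtype
          (Submodule.injective_subtype _)
      · exact LinearMap.lTensor_surjective B hsurj
      · exact lTensor_exact B hex hsurj
    -- the simple quotient
    obtain ⟨𝔪, h𝔪, ⟨e⟩⟩ := isSimpleModule_iff_quot_maximal.mp hsimple
    have hCs : Module.length K (C ⊗[B] (M ⧸ N')) = Module.length K (C ⊗[B] (B ⧸ 𝔪)) :=
      LinearEquiv.length_eq
        ((TensorProduct.AlgebraTensorModule.congr (LinearEquiv.refl C C) e).restrictScalars K)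
    have hBs : Module.length K (B ⊗[B] (M ⧸ N')) = Module.length K (B ⊗[B] (B ⧸ 𝔪)) :=
      LinearEquiv.length_eq
        ((TensorProduct.AlgebraTensorModule.congr (LinearEquiv.refl B B) e).restrictScalars K)
    calc Module.length K (C ⊗[B] M)
        ≤ Module.length K (C ⊗[B] N') + Module.length K (C ⊗[B] (M ⧸ N')) := hC
      _ ≤ n * Module.length K (B ⊗[B] N') + n * Module.length K (B ⊗[B] (B ⧸ 𝔪)) := by
          rw [hCs]; exact add_le_add ih (h 𝔪 h𝔪)
      _ = n * Module.length K (B ⊗[B] M) := by
          rw [hB, hBs, mul_add]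


/-- Degree bound for a tower `K → B → C`. -/
theorem finite_and_finrank_le [Module.Finite K B] (n : ℕ)
    (h : ∀ 𝔪 : Ideal B, 𝔪.IsMaximal →
      Module.Finite K (C ⧸ 𝔪.map (algebraMap B C)) ∧
        Module.finrank K (C ⧸ 𝔪.map (algebraMap B C)) ≤ n * Module.finrank K (B ⧸ 𝔪)) :
    Module.Finite K C ∧ Module.finrank K C ≤ n * Module.finrank K B := by
  have hart : IsArtinianRing B := IsArtinianRing.of_finite K B
  have hnoeth : IsNoetherianRing B := inferInstance
  have hfl : IsFiniteLength B B := isFiniteLength_iff_isNoetherian_isArtinian.mpr ⟨hnoeth, hart⟩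
  have key := length_tensor_le (K := K) (B := B) (C := C) n ?_ B hfl
  · -- identify the two sides
    have eC : Module.length K (C ⊗[B] B) = Module.length K C :=
      LinearEquiv.length_eq ((TensorProduct.rid B C).restrictScalars K)
    have eB : Module.length K (B ⊗[B] B) = Module.length K B :=
      LinearEquiv.length_eq ((TensorProduct.rid B B).restrictScalars K)
    rw [eC, eB, Module.length_eq_finrank K B] at key
    have hne : Module.length K C ≠ ⊤ := by
      intro htop
      rw [htop] at key
      exact absurd key (by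
        rw [not_le, ← ENat.natCast_mul]
        exact ENat.natCast_lt_top _)
    have hfinC : Module.Finite K C := by
      have h1 : IsFiniteLength K C := Module.length_ne_top_iff.mp hne
      obtain ⟨h2, -⟩ := isFiniteLength_iff_isNoetherian_isArtinian.mp h1
      exact Module.IsNoetherian.finite K C
    refine ⟨hfinC, ?_⟩
    rw [Module.length_eq_finrank K C] at key
    exact_mod_cast key
  · intro 𝔪 h𝔪
    obtain ⟨hfin, hrk⟩ := h 𝔪 h𝔪
    have e1a : C ⊗[B] (B ⧸ 𝔪) ≃ₗ[K] C ⧸ (𝔪 • ⊤ : Submodule B C) :=
      (tensorQuotEquivQuotSMul C 𝔪).restrictScalars K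
    have e1b : (C ⧸ (𝔪 • ⊤ : Submodule B C)) ≃ₗ[K]
        C ⧸ (𝔪.map (algebraMap B C)).restrictScalars B :=
      (Submodule.quotEquivOfEq _ _ (Ideal.smul_top_eq_map 𝔪)).restrictScalars K
    have e1c : (C ⧸ (𝔪.map (algebraMap B C)).restrictScalars B) ≃ₗ[K]
        C ⧸ 𝔪.map (algebraMap B C) :=
      (Submodule.Quotient.restrictScalarsEquiv B (𝔪.map (algebraMap B C))).restrictScalars K
    have e1 : C ⊗[B] (B ⧸ 𝔪) ≃ₗ[K] C ⧸ 𝔪.map (algebraMap B C) := (e1a.trans e1b).trans e1c
    have e2 : B ⊗[B] (B ⧸ 𝔪) ≃ₗ[K] B ⧸ 𝔪 := (TensorProduct.lid B (B ⧸ 𝔪)).restrictScalars K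
    rw [LinearEquiv.length_eq e1, LinearEquiv.length_eq e2, Module.length_eq_finrank K _,
      Module.length_eq_finrank K _]
    exact_mod_cast hrk


section Pushout

open CategoryTheory CategoryTheory.Limits

/-- In a pushout square of rings `C ← B → κ` with `B → κ` surjective onto a field and the pushout
`D` finite of rank `≤ n` over `κ`, the quotient `C ⧸ 𝔪C` (`𝔪 = ker (B → κ)`) is finite over `K` of
rank `≤ n * [B ⧸ 𝔪 : K]`. -/
theorem finite_and_finrank_quotient_le {K B C κ D : Type u} [Field K] [CommRing B] [CommRing C]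
    [Field κ] [CommRing D] [Algebra K B] [Module.Finite K B] [Algebra B C] [Algebra K C]
    [IsScalarTower K B C] (ψ : B →+* κ) (α : C →+* D) (β : κ →+* D)
    (hsq : IsPushout (CommRingCat.ofHom (algebraMap B C)) (CommRingCat.ofHom ψ)
      (CommRingCat.ofHom α) (CommRingCat.ofHom β))
    (hψ : Function.Surjective ψ) (n : ℕ)
    (hfin : letI := β.toAlgebra; Module.Finite κ D ∧ Module.finrank κ D ≤ n) :
    Module.Finite K (C ⧸ (RingHom.ker ψ).map (algebraMap B C)) ∧
      Module.finrank K (C ⧸ (RingHom.ker ψ).map (algebraMap B C)) ≤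
        n * Module.finrank K (B ⧸ RingHom.ker ψ) := by
  -- algebra structures
  letI aκD : Algebra κ D := β.toAlgebra
  letI aKκ : Algebra K κ := (ψ.comp (algebraMap K B)).toAlgebra
  letI aKD : Algebra K D := (α.comp (algebraMap K C)).toAlgebra
  have hw : α.comp (algebraMap B C) = β.comp ψ := by
    have := hsq.w
    exact congrArg CommRingCat.Hom.hom this
  have tKκD : IsScalarTower K κ D := by
    refine IsScalarTower.of_algebraMap_eq fun k => ?_
    show α (algebraMap K C k) = β (ψ (algebraMap K B k))
    rw [IsScalarTower.algebraMap_apply K B C]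
    exact congrArg (fun f : B →+* D => f (algebraMap K B k)) hw
  obtain ⟨hfinD, hrkD⟩ := hfin
  -- `κ` is a quotient of `B`
  let eκ : (B ⧸ RingHom.ker ψ) ≃+* κ := RingHom.quotientKerEquivOfSurjective hψ
  let eκK : (B ⧸ RingHom.ker ψ) ≃ₗ[K] κ :=
    { eκ with
      map_smul' := fun k x => by
        obtain ⟨b, rfl⟩ := Ideal.Quotient.mk_surjective x
        show eκ (k • Ideal.Quotient.mk _ b) = k • eκ (Ideal.Quotient.mk _ b)
        rw [Algebra.smul_def, Algebra.smul_def, map_mul]
        rfl }
  have hfinκ : Module.Finite K κ := Module.Finite.equiv eκK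
  have hrkκ : Module.finrank K κ = Module.finrank K (B ⧸ RingHom.ker ψ) :=
    eκK.symm.finrank_eq
  have hfinKD : Module.Finite K D := Module.Finite.trans κ D
  have hrkKD : Module.finrank K D = Module.finrank K κ * Module.finrank κ D :=
    (Module.finrank_mul_finrank K κ D).symm
  -- the map `D → C ⧸ 𝔪C`
  let J : Ideal C := (RingHom.ker ψ).map (algebraMap B C)
  have hle : RingHom.ker ψ ≤ J.comap (algebraMap B C) := Ideal.le_comap_map
  let γ : κ →+* C ⧸ J := (Ideal.quotientMap J (algebraMap B C) hle).comp eκ.symm.toRingHom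
  have hγ : γ.comp ψ = (Ideal.Quotient.mk J).comp (algebraMap B C) := by
    ext b
    show Ideal.quotientMap J (algebraMap B C) hle (eκ.symm (ψ b)) = _
    have : eκ.symm (ψ b) = Ideal.Quotient.mk _ b := by
      rw [RingEquiv.symm_apply_eq]; rfl
    rw [this, Ideal.quotientMap_mk]
    rfl
  let δ : CommRingCat.of D ⟶ CommRingCat.of (C ⧸ J) :=
    hsq.desc (CommRingCat.ofHom (Ideal.Quotient.mk J)) (CommRingCat.ofHom γ) (by
      ext b
      exact (congrArg (fun f : B →+* C ⧸ J => f b) hγ).symm)
  have hδα : ∀ c : C, δ.hom (α c) = Ideal.Quotient.mk J c := fun c =>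
    congrArg (fun f : CommRingCat.of C ⟶ CommRingCat.of (C ⧸ J) => f.hom c)
      (hsq.inl_desc _ _ _)
  let δK : D →ₗ[K] C ⧸ J :=
    { toFun := δ.hom
      map_add' := map_add _
      map_smul' := fun k d => by
        rw [Algebra.smul_def, Algebra.smul_def, map_mul]
        congr 1
        show δ.hom (α (algebraMap K C k)) = _
        rw [hδα]
        rfl }
  have hδsurj : Function.Surjective δK := by
    intro x
    obtain ⟨c, rfl⟩ := Ideal.Quotient.mk_surjective x
    exact ⟨α c, hδα c⟩
  refine ⟨Module.Finite.of_surjective δK hδsurj, ?_⟩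
  calc Module.finrank K (C ⧸ J) ≤ Module.finrank K D := LinearMap.finrank_le_finrank_of_surjective hδsurj
    _ = Module.finrank K κ * Module.finrank κ D := hrkKD
    _ ≤ Module.finrank K (B ⧸ RingHom.ker ψ) * n := by rw [hrkκ]; gcongr
    _ = n * Module.finrank K (B ⧸ RingHom.ker ψ) := mul_comm _ _

end Pushout

end Groth.Agent.Lib.Helper38.FinDegTower
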