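import Groth.Agent.Lib.Helper38.BddFib
import Groth.Agent.Lib.Helper38.FinDegTower
import Mathlib.AlgebraicGeometry.Morphisms.Affine
import Mathlib.AlgebraicGeometry.Morphisms.ClosedImmersion

/-!
# Degree of a composite: `T ⟶ S ⟶ Spec K`
-/

set_option autoImplicit false
universe u

open CategoryTheory CategoryTheory.Limits AlgebraicGeometry

namespace Groth.Agent.Lib.Helper38

/-- The total space of a morphism with finite discrete fibres over a finite discrete base is finite
and discrete. -/
theorem finite_discrete_of_fibres {T S : Scheme.{u}} (q : T ⟶ S) [Finite S] [DiscreteTopology S]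
    (h : ∀ s : S, Finite (q.fiber s) ∧ DiscreteTopology (q.fiber s)) :
    Finite T ∧ DiscreteTopology T := by
  have hfin : ∀ s : S, Finite (q.fiber s) := fun s => (h s).1
  have hdisc : ∀ s : S, DiscreteTopology (q.fiber s) := fun s => (h s).2
  constructor
  · exact Finite.of_surjective (fun x : Σ s : S, q.fiber s => q.fiberι x.1 x.2)
      (fun t => ⟨⟨q t, q.asFiber t⟩, q.fiberι_asFiber t⟩)
  · rw [discreteTopology_iff_isOpen_singleton]
    intro t
    have hopen : IsOpen (Set.range (q.fiberι (q t))) := by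
      rw [q.range_fiberι]
      exact (isOpen_discrete {q t}).preimage q.continuous
    have hoe : Topology.IsOpenEmbedding (q.fiberι (q t)) :=
      ⟨(q.fiberι (q t)).isEmbedding, hopen⟩
    have := hoe.isOpenMap _ (isOpen_discrete ({q.asFiber t} : Set (q.fiber (q t))))
    rwa [Set.image_singleton, q.fiberι_asFiber] at this


/-- The kernel of `Γ(S) → κ(s)` is the prime ideal corresponding to `s` (affine case). -/
theorem ker_appTop_fromSpecResidueField {S : Scheme.{u}} [IsAffine S] (s : S) :
    RingHom.ker (S.fromSpecResidueField s).appTop.hom = (S.isoSpec.hom s).asIdeal := by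
  set j := S.fromSpecResidueField s with hj
  have hnat := Scheme.toSpecΓ_naturality j
  let pt : Spec (S.residueField s) := default
  have h1 : (Spec.map j.appTop) ((Spec (S.residueField s)).toSpecΓ pt) = S.isoSpec.hom s := by
    have := congrArg (fun f => f pt) hnat
    simp only [Scheme.Hom.comp_apply] at this
    rw [← this, Scheme.isoSpec_hom]
    congr 1
    rw [hj, Scheme.fromSpecResidueField_apply]
  rw [← h1]
  -- the point of `Spec Γ(Spec κ, ⊤)` is the zero ideal
  have hfield : IsField Γ(Spec (S.residueField s), ⊤) :=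
    MulEquiv.isField (Field.toIsField (S.residueField s))
      (Scheme.ΓSpecIso (S.residueField s)).commRingCatIsoToRingEquiv.toMulEquiv
  letI := hfield.toField
  have h0 : ((Spec (S.residueField s)).toSpecΓ pt).asIdeal = ⊥ :=
    ((Ideal.eq_bot_or_top _).resolve_right
      ((Spec (S.residueField s)).toSpecΓ pt).isPrime.ne_top)
  show _ = Ideal.comap j.appTop.hom ((Spec (S.residueField s)).toSpecΓ pt).asIdeal
  rw [h0]
  rfl

theorem finiteOfDegLE_comp {K : Type u} [Field K] {T S : Scheme.{u}} (q : T ⟶ S)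
    (p : S ⟶ Spec (CommRingCat.of K)) {n m : ℕ}
    (hp : BddFib.FiniteOfDegLE (CommRingCat.of K) p m) (hq : BddFib.FibreDegLE q n) :
    BddFib.FiniteOfDegLE (CommRingCat.of K) (q ≫ p) (n * m) := by
  obtain ⟨hSfin, hSdisc⟩ := finite_discrete_of_finiteOfDegLE hp
  have hfib : ∀ s : S, Finite (q.fiber s) ∧ DiscreteTopology (q.fiber s) := fun s =>
    finite_discrete_of_finiteOfDegLE (K := S.residueField s) (hq s)
  obtain ⟨hTfin, hTdisc⟩ := finite_discrete_of_fibres q hfib
  have haffT : IsAffine T := inferInstance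
  obtain ⟨haffS, hfinB, hrkB⟩ := hp
  letI aKB : Algebra K Γ(S, ⊤) := BddFib.secAlgebra (CommRingCat.of K) p
  letI aBC : Algebra Γ(S, ⊤) Γ(T, ⊤) := q.appTop.hom.toAlgebra
  letI aKC : Algebra K Γ(T, ⊤) := BddFib.secAlgebra (CommRingCat.of K) (q ≫ p)
  have tower : IsScalarTower K Γ(S, ⊤) Γ(T, ⊤) := IsScalarTower.of_algebraMap_eq fun k => by
    show ((Scheme.ΓSpecIso _).inv ≫ (q ≫ p).appTop).hom k =
      q.appTop.hom (((Scheme.ΓSpecIso _).inv ≫ p.appTop).hom k)
    rw [Scheme.Hom.comp_appTop]
    rfl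
  refine ⟨haffT, ?_⟩
  have key := FinDegTower.finite_and_finrank_le (K := K) (B := Γ(S, ⊤)) (C := Γ(T, ⊤)) n ?_
  · exact ⟨key.1, key.2.trans (Nat.mul_le_mul_left n hrkB)⟩
  intro 𝔪 h𝔪
  let x : Spec Γ(S, ⊤) := ⟨𝔪, h𝔪.isPrime⟩
  let s : S := S.isoSpec.inv x
  have hsx : S.isoSpec.hom s = x := by
    show S.isoSpec.hom (S.isoSpec.inv x) = x
    rw [← Scheme.Hom.comp_apply, Iso.inv_hom_id]
    rfl
  let j := S.fromSpecResidueField s
  have hcl : IsClosedImmersion j := .of_isPreimmersion j (isClosed_discrete _)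
  obtain ⟨-, hjsurj⟩ := IsClosedImmersion.isAffine_surjective_of_isAffine j
  let e := Scheme.ΓSpecIso (S.residueField s)
  let ψ : Γ(S, ⊤) →+* S.residueField s := (j.appTop ≫ e.hom).hom
  have hψsurj : Function.Surjective ψ := by
    intro a
    obtain ⟨b, hb⟩ := hjsurj (e.inv.hom a)
    refine ⟨b, ?_⟩
    show e.hom.hom (j.appTop.hom b) = a
    rw [hb]
    exact congrArg (fun f : (S.residueField s) ⟶ (S.residueField s) => f.hom a) e.inv_hom_id
  have hker : RingHom.ker ψ = 𝔪 := by
    have h1 := ker_appTop_fromSpecResidueField s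
    rw [hsx] at h1
    rw [← show x.asIdeal = 𝔪 from rfl, ← h1]
    ext b
    simp only [RingHom.mem_ker]
    show e.hom.hom (j.appTop.hom b) = 0 ↔ j.appTop.hom b = 0
    constructor
    · intro h
      have := congrArg e.inv.hom h
      rw [map_zero] at this
      rw [← this]
      exact (congrArg (fun f : Γ(Spec (S.residueField s), ⊤) ⟶ Γ(Spec (S.residueField s), ⊤) => f.hom (j.appTop.hom b)) e.hom_inv_id).symm
    · intro h
      rw [h, map_zero]
  have haffF : IsAffine (q.fiber s) := (hq s).1
  have hpb : IsPullback (q.fiberι s) (q.fiberToSpecResidueField s) q j :=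
    IsPullback.of_hasPullback q j
  have h0 := isPushout_appTop_of_isPullback hpb
  have hsq : IsPushout q.appTop (j.appTop ≫ e.hom) (q.fiberι s).appTop
      (e.inv ≫ (q.fiberToSpecResidueField s).appTop) := by
    refine h0.of_iso (Iso.refl _) (Iso.refl _) e (Iso.refl _) ?_ ?_ ?_ ?_
    · simp
    · simp
    · simp
    · simp
  have := FinDegTower.finite_and_finrank_quotient_le (K := K) (B := Γ(S, ⊤)) (C := Γ(T, ⊤))
    (κ := S.residueField s) (D := Γ(q.fiber s, ⊤)) ψ (q.fiberι s).appTop.hom
    (e.inv ≫ (q.fiberToSpecResidueField s).appTop).hom hsq hψsurj n (hq s).2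
  rwa [hker] at this

end Groth.Agent.Lib.Helper38
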