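import Groth.Agent.Lib.Helper38.BddFibComp

/-!
# Bounded fibre degree and finite open covers
-/

set_option autoImplicit false
universe u

open CategoryTheory CategoryTheory.Limits AlgebraicGeometry

namespace Groth.Agent.Lib.Helper38

/-- A scheme over a field covered by finitely many open pieces, each finite of degree `≤ n i`, is
finite of degree `≤ ∑ n i`. -/
theorem finiteOfDegLE_of_finite_cover {K : Type u} [Field K] {Z : Scheme.{u}}
    (p : Z ⟶ Spec (CommRingCat.of K)) {ι : Type u} [Fintype ι] (T : ι → Scheme.{u})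
    (j : ∀ i, T i ⟶ Z) [∀ i, IsOpenImmersion (j i)] (hcov : ∀ z : Z, ∃ i y, j i y = z)
    (n : ι → ℕ) (h : ∀ i, BddFib.FiniteOfDegLE (CommRingCat.of K) (j i ≫ p) (n i)) :
    BddFib.FiniteOfDegLE (CommRingCat.of K) p (∑ i, n i) := by
  have hfd : ∀ i, Finite (T i) ∧ DiscreteTopology (T i) := fun i =>
    finite_discrete_of_finiteOfDegLE (h i)
  have hfin : Finite Z := by
    haveI := fun i => (hfd i).1
    exact Finite.of_surjective (fun x : Σ i, T i => j x.1 x.2) (fun z => by
      obtain ⟨i, x, hx⟩ := hcov z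
      exact ⟨⟨i, x⟩, hx⟩)
  have hdisc : DiscreteTopology Z := by
    rw [discreteTopology_iff_isOpen_singleton]
    intro z
    obtain ⟨i, x, rfl⟩ := hcov z
    haveI := (hfd i).2
    have := (j i).isOpenEmbedding.isOpenMap _ (isOpen_discrete {x})
    rwa [Set.image_singleton] at this
  have haff : IsAffine Z := inferInstance
  refine ⟨haff, ?_⟩
  letI aZ : Algebra K Γ(Z, ⊤) := BddFib.secAlgebra (CommRingCat.of K) p
  letI aX : ∀ i, Algebra K Γ(T i, ⊤) := fun i => BddFib.secAlgebra (CommRingCat.of K) (j i ≫ p)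
  have hcomp : ∀ i (k : K), (j i).appTop.hom (algebraMap K Γ(Z, ⊤) k) = algebraMap K Γ(T i, ⊤) k := by
    intro i k
    show (j i).appTop.hom (((Scheme.ΓSpecIso _).inv ≫ p.appTop).hom k) =
      ((Scheme.ΓSpecIso _).inv ≫ (j i ≫ p).appTop).hom k
    rw [Scheme.Hom.comp_appTop]
    rfl
  let Φ : Γ(Z, ⊤) →ₗ[K] (∀ i, Γ(T i, ⊤)) :=
    { toFun := fun s i => (j i).appTop.hom s
      map_add' := fun a b => by
        funext i
        exact map_add _ _ _
      map_smul' := fun k s => by
        funext i
        show (j i).appTop.hom (k • s) = k • (j i).appTop.hom s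
        rw [Algebra.smul_def, Algebra.smul_def, map_mul, hcomp] }
  let 𝒰 : Z.OpenCover := Scheme.Cover.mkOfCovers ι T j hcov
  have hinj : Function.Injective Φ := by
    rw [injective_iff_map_eq_zero]
    intro s hs
    exact Scheme.zero_of_zero_cover s 𝒰 (fun i => congrFun hs i)
  haveI : ∀ i, Module.Finite K Γ(T i, ⊤) := fun i => (h i).2.1
  refine ⟨Module.Finite.of_injective Φ hinj, ?_⟩
  refine (LinearMap.finrank_le_finrank_of_injective hinj).trans ?_
  rw [Module.finrank_pi_fintype]
  exact Finset.sum_le_sum fun i _ => (h i).2.2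

/-- Global version: bounded fibre degrees on the members of a finite open cover of the source give
a bound on the fibre degrees. -/
theorem fibreDegLE_of_finite_cover {X Y : Scheme.{u}} (f : X ⟶ Y) {ι : Type u} [Fintype ι]
    (T : ι → Scheme.{u}) (j : ∀ i, T i ⟶ X) [∀ i, IsOpenImmersion (j i)]
    (hcov : ∀ x : X, ∃ i y, j i y = x) (n : ι → ℕ)
    (h : ∀ i, BddFib.FibreDegLE (j i ≫ f) (n i)) : BddFib.FibreDegLE f (∑ i, n i) := by
  intro y
  refine finiteOfDegLE_of_finite_cover (K := Y.residueField y) (f.fiberToSpecResidueField y)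
    (fun i => pullback (f.fiberι y) (j i)) (fun i => pullback.fst _ _) ?_ n ?_
  · intro z
    obtain ⟨i, x, hx⟩ := hcov (f.fiberι y z)
    obtain ⟨w, hw1, hw2⟩ := Scheme.Pullback.exists_preimage_pullback z x hx.symm
    exact ⟨i, w, hw1⟩
  · intro i
    have h1 : IsPullback (pullback.snd (f.fiberι y) (j i))
        (pullback.fst (f.fiberι y) (j i) ≫ f.fiberToSpecResidueField y) (j i ≫ f)
        (Y.fromSpecResidueField y) :=
      (IsPullback.of_hasPullback (f.fiberι y) (j i)).flip.paste_vert
        (IsPullback.of_hasPullback f (Y.fromSpecResidueField y))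
    exact (fibreDegLE_iff_forall_field_points (j i ≫ f) (n i)).mp (h i) (Y.residueField y)
      (Y.fromSpecResidueField y) _ _ _ h1

end Groth.Agent.Lib.Helper38
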