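import Groth.Agent.Lib.Helper38.BddFibComp

/-!
# Finite morphisms of affine schemes have bounded fibre degree
-/

set_option autoImplicit false
universe u

open CategoryTheory CategoryTheory.Limits AlgebraicGeometry TensorProduct

namespace Groth.Agent.Lib.Helper38

lemma ringFinDegLE_of_isPushout_of_surjective {A B K : Type u} [CommRing A] [CommRing B] [Field K]
    [Algebra A B] {D : CommRingCat.{u}} {ψ : CommRingCat.of A ⟶ CommRingCat.of K}
    {inl : CommRingCat.of B ⟶ D} {inr : CommRingCat.of K ⟶ D}
    (h : IsPushout (CommRingCat.ofHom (algebraMap A B)) ψ inl inr) (k : ℕ)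
    (g : (Fin k → A) →ₗ[A] B) (hg : Function.Surjective g) : RingFinDegLE inr k := by
  unfold RingFinDegLE
  algebraize [ψ.hom, inl.hom, inr.hom, inr.hom.comp ψ.hom]
  have : IsScalarTower A B D := .of_algebraMap_eq' (congr($(h.w).hom)).symm
  have hpo : Algebra.IsPushout A B K D := CommRingCat.isPushout_iff_isPushout.mp h
  have hpo' : Algebra.IsPushout A K B D := Algebra.IsPushout.symm hpo
  let e : K ⊗[A] B ≃ₐ[K] D := Algebra.IsPushout.equiv A K B D
  have hAnt : Nontrivial A := RingHom.domain_nontrivial (algebraMap A K)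
  let G : K ⊗[A] (Fin k → A) →ₗ[K] D := e.toLinearEquiv.toLinearMap ∘ₗ (LinearMap.baseChange K g)
  have hG : Function.Surjective G := by
    refine e.surjective.comp ?_
    rw [LinearMap.baseChange_eq_ltensor]
    exact LinearMap.lTensor_surjective K hg
  refine ⟨Module.Finite.of_surjective G hG, ?_⟩
  refine (LinearMap.finrank_le_finrank_of_surjective hG).trans ?_
  rw [Module.finrank_baseChange, Module.finrank_fin_fun]

/-- A finite ring map gives a morphism of spectra with bounded fibre degree. -/
theorem exists_fibreDegLE_SpecMap_of_finite (A B : Type u) [CommRing A] [CommRing B] [Algebra A B]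
    [Module.Finite A B] :
    ∃ k, BddFib.FibreDegLE (Spec.map (CommRingCat.ofHom (algebraMap A B))) k := by
  obtain ⟨k, g, hg⟩ := Module.Finite.exists_fin' A B
  refine ⟨k, ?_⟩
  rw [fibreDegLE_iff_forall_field_points]
  intro K _ z P fst snd h
  obtain ⟨ψ, rfl⟩ : ∃ ψ, Spec.map ψ = z := ⟨Spec.preimage z, Spec.map_preimage z⟩
  have haffP : IsAffine P := IsAffine.of_isPullback h
  rw [finiteOfDegLE_iff]
  refine ⟨haffP, ?_⟩
  have hpo := isPushout_of_isPullback_SpecMap ψ h
  have hpo' : IsPushout (CommRingCat.ofHom (algebraMap A B)) ψ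
      ((Scheme.ΓSpecIso (CommRingCat.of B)).inv ≫ fst.appTop)
      ((Scheme.ΓSpecIso (CommRingCat.of K)).inv ≫ snd.appTop) := by
    refine hpo.of_iso (Iso.refl _) (Scheme.ΓSpecIso (CommRingCat.of B)) (Iso.refl _) (Iso.refl _)
      ?_ ?_ ?_ ?_
    · rw [Iso.refl_hom, Category.id_comp, Category.assoc]
      have := Scheme.ΓSpecIso_naturality (CommRingCat.ofHom (algebraMap A B))
      rw [this, Iso.inv_hom_id_assoc]
    · simp
    · simp
    · simp
  exact ringFinDegLE_of_isPushout_of_surjective hpo' k g hg

end Groth.Agent.Lib.Helper38
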