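import Groth.Agent.Lib.Helper38.BddFibFinite
import Groth.Agent.Lib.Helper38.BddFibCover
import Groth.Agent.S7436
import Groth.Agent.S7439
import Mathlib.RingTheory.ZariskisMainTheorem

/-!
# Local boundedness of fibre degrees for quasi-finite ring maps (via Zariski's main theorem)
-/

set_option autoImplicit false
universe u

open CategoryTheory CategoryTheory.Limits AlgebraicGeometry TensorProduct

namespace Groth.Agent.Lib.Helper38

theorem exists_fibreDegLE_away {A B : Type u} [CommRing A] [CommRing B] [Algebra A B]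
    [Algebra.FiniteType A B] (𝔭 : Ideal B) [𝔭.IsPrime] [Algebra.WeaklyQuasiFiniteAt A 𝔭] :
    ∃ r : B, r ∉ 𝔭 ∧ ∃ n, BddFib.FibreDegLE
      (Spec.map (CommRingCat.ofHom (algebraMap A (Localization.Away r)))) n := by
  obtain ⟨S', hfg, r', hr, hbij⟩ :=
    Algebra.QuasiFiniteAt.exists_fg_and_exists_notMem_and_awayMap_bijective (R := A) 𝔭
  haveI : Module.Finite A S' := ⟨(Submodule.fg_top _).mpr hfg⟩
  obtain ⟨k, hk⟩ := exists_fibreDegLE_SpecMap_of_finite A S'
  refine ⟨S'.val.toRingHom r', hr, 1 * k, ?_⟩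
  have hfac : algebraMap A (Localization.Away (S'.val.toRingHom r')) =
      ((Localization.awayMap S'.val.toRingHom r').comp
        (algebraMap S' (Localization.Away r'))).comp (algebraMap A S') := by
    ext a
    simp only [RingHom.comp_apply]
    rw [Localization.awayMap, IsLocalization.Away.map, IsLocalization.map_eq]
    rw [IsScalarTower.algebraMap_apply A B (Localization.Away (S'.val.toRingHom r'))]
    rfl
  rw [hfac, CommRingCat.ofHom_comp, CommRingCat.ofHom_comp, Spec.map_comp, Spec.map_comp]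
  have hiso : IsIso (CommRingCat.ofHom (Localization.awayMap S'.val.toRingHom r')) :=
    (ConcreteCategory.isIso_iff_bijective _).mpr hbij
  have hoi : IsOpenImmersion (Spec.map (CommRingCat.ofHom (Localization.awayMap S'.val.toRingHom r')) ≫
      Spec.map (CommRingCat.ofHom (algebraMap S' (Localization.Away r')))) := inferInstance
  exact Groth.Agent.S7436.result _ _ 1 k (Groth.Agent.S7439.result _) hk


/-- Around every point of the source of a locally quasi-finite morphism locally of finite type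
there is an affine open on which the fibre degrees are bounded. -/
theorem exists_affineOpen_fibreDegLE {X Y : Scheme.{u}} (f : X ⟶ Y) [LocallyQuasiFinite f]
    [LocallyOfFiniteType f] (x : X) :
    ∃ (W : X.Opens) (hW : IsAffineOpen W) (n : ℕ),
      x ∈ W ∧ BddFib.FibreDegLE (hW.fromSpec ≫ f) n := by
  obtain ⟨_, ⟨V : Y.Opens, hV, rfl⟩, hxV, -⟩ :=
    Y.isBasis_affineOpens.exists_subset_of_mem_open (Set.mem_univ (f x)) isOpen_univ
  obtain ⟨_, ⟨U : X.Opens, hU, rfl⟩, hxU, hUV⟩ :=
    X.isBasis_affineOpens.exists_subset_of_mem_open hxV (f ⁻¹ᵁ V).2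
  have hUV' : U ≤ f ⁻¹ᵁ V := hUV
  have hft : (f.appLE V U hUV').hom.FiniteType :=
    HasRingHomProperty.appLE @LocallyOfFiniteType f inferInstance ⟨V, hV⟩ ⟨U, hU⟩ hUV'
  have hqf : (f.appLE V U hUV').hom.QuasiFinite :=
    HasRingHomProperty.appLE @LocallyQuasiFinite f inferInstance ⟨V, hV⟩ ⟨U, hU⟩ hUV'
  algebraize [(f.appLE V U hUV').hom]
  obtain ⟨r, hr, n, hn⟩ := exists_fibreDegLE_away (A := Γ(Y, V)) (B := Γ(X, U))
    (hU.primeIdealOf ⟨x, hxU⟩).asIdeal
  have hW : IsAffineOpen (X.basicOpen r) := hU.basicOpen r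
  have hxW : x ∈ X.basicOpen r := by
    have h1 : hU.primeIdealOf ⟨x, hxU⟩ ∈ hU.fromSpec ⁻¹ᵁ X.basicOpen r := by
      rw [hU.fromSpec_preimage_basicOpen]
      exact hr
    have h2 : hU.fromSpec (hU.primeIdealOf ⟨x, hxU⟩) = x := hU.fromSpec_primeIdealOf ⟨x, hxU⟩
    rw [← h2]
    exact h1
  have e' : X.basicOpen r ≤ f ⁻¹ᵁ V := (X.basicOpen_le r).trans hUV'
  refine ⟨X.basicOpen r, hW, (1 * n) * 1, hxW, ?_⟩
  have key : Spec.map (f.appLE V (X.basicOpen r) e') ≫ hV.fromSpec = hW.fromSpec ≫ f :=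
    IsAffineOpen.SpecMap_appLE_fromSpec f hV hW e'
  rw [← key]
  refine Groth.Agent.S7436.result _ _ _ 1 ?_ (Groth.Agent.S7439.result _)
  haveI := hU.isLocalization_basicOpen r
  let ε : Localization.Away r ≃ₐ[Γ(X, U)] Γ(X, X.basicOpen r) :=
    IsLocalization.algEquiv (.powers r) _ _
  have hfac : f.appLE V (X.basicOpen r) e' =
      CommRingCat.ofHom (algebraMap Γ(Y, V) (Localization.Away r)) ≫
        CommRingCat.ofHom ε.toRingEquiv.toRingHom := by
    ext a
    show _ = ε (algebraMap Γ(Y, V) (Localization.Away r) a)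
    rw [IsScalarTower.algebraMap_apply Γ(Y, V) Γ(X, U) (Localization.Away r), ε.commutes]
    show _ = (X.presheaf.map (homOfLE (X.basicOpen_le r)).op).hom ((f.appLE V U hUV').hom a)
    rw [← Scheme.Hom.appLE_map f hUV' (homOfLE (X.basicOpen_le r)).op]
    rfl
  rw [hfac, Spec.map_comp]
  have hiso : IsIso (CommRingCat.ofHom ε.toRingEquiv.toRingHom) :=
    (ConcreteCategory.isIso_iff_bijective _).mpr ε.bijective
  exact Groth.Agent.S7436.result _ _ 1 n (Groth.Agent.S7439.result _) hn

end Groth.Agent.Lib.Helper38
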