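import Groth.Agent.Lib.Helper38.FibreNbhd

/-!
# Closed immersion criterion over an algebraically closed field: auxiliary lemmas

* `maximalIdeal_stalk_eq_bot_of_cotangent`: in a commutative square `fst ≫ f = snd ≫ z` with `fst`
  surjective on the stalk at `p`, the stalk of `T` at `snd p` a field and the cotangent condition at
  `fst p`, the stalk at `p` is a field.
* `opens_eq_top_of_closedPoints_mem`: an open of a quasi-compact T0 space containing all closed
  points is everything.
* `eq_of_mem_closed_of_closedPoints_subsingleton`: a closed subset of a Jacobson space with at most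
  one closed point is a single closed point.
* `isClosedImmersion_snd_of_closedPoint`: the fibre of a finite morphism over a closed point, in the
  situation of the criterion, is a closed immersion into the spectrum of the residue field.
-/

set_option autoImplicit false
universe u

open CategoryTheory CategoryTheory.Limits AlgebraicGeometry TopologicalSpace

namespace Groth.Agent.Lib.Helper38

set_option backward.isDefEq.respectTransparency.types false in
/-- The maximal ideal of the stalk of the spectrum of a field vanishes. -/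
lemma maximalIdeal_stalk_Spec_field_eq_bot {K : Type u} [Field K] (t : PrimeSpectrum K) :
    IsLocalRing.maximalIdeal ((Spec (CommRingCat.of K)).presheaf.stalk t) = ⊥ := by
  rw [← IsLocalRing.isField_iff_maximalIdeal_eq]
  let e1 := (Spec.stalkIso (CommRingCat.of K) t).commRingCatIsoToRingEquiv
  have hu : t.asIdeal.primeCompl ≤ IsUnit.submonoid K := by
    intro a ha
    have ha0 : a ≠ 0 := fun h0 => ha (h0 ▸ t.asIdeal.zero_mem)
    exact isUnit_iff_ne_zero.mpr ha0
  let e2 : K ≃+* Localization.AtPrime t.asIdeal :=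
    (IsLocalization.atUnits K t.asIdeal.primeCompl hu).toRingEquiv
  exact (e1.trans e2.symm).toMulEquiv.isField (Field.toIsField K)

lemma map_maximalIdeal_of_surjective {R S : Type*} [CommRing R] [CommRing S] [IsLocalRing R]
    [IsLocalRing S] (ψ : R →+* S) [hl : IsLocalHom ψ] (hψ : Function.Surjective ψ) :
    Ideal.map ψ (IsLocalRing.maximalIdeal R) = IsLocalRing.maximalIdeal S := by
  apply le_antisymm
  · exact ((IsLocalRing.local_hom_TFAE ψ).out 0 2).mp hl
  · intro a ha
    obtain ⟨c, rfl⟩ := hψ a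
    refine Ideal.mem_map_of_mem _ ?_
    rw [IsLocalRing.mem_maximalIdeal, mem_nonunits_iff] at ha ⊢
    exact fun hc => ha (hc.map ψ)

theorem maximalIdeal_stalk_eq_bot_of_cotangent {X Y T P : Scheme.{u}} (f : X ⟶ Y) (z : T ⟶ Y)
    (fst : P ⟶ X) (snd : P ⟶ T) (comm : fst ≫ f = snd ≫ z) (p : P)
    (hsurj : Function.Surjective (fst.stalkMap p).hom)
    (hfield : IsLocalRing.maximalIdeal (T.presheaf.stalk (snd p)) = ⊥)
    (hfg : (IsLocalRing.maximalIdeal (X.presheaf.stalk (fst p))).FG)
    (hT : Ideal.map (f.stalkMap (fst p)).hom (IsLocalRing.maximalIdeal (Y.presheaf.stalk (f (fst p)))) ⊔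
      IsLocalRing.maximalIdeal (X.presheaf.stalk (fst p)) ^ 2 =
        IsLocalRing.maximalIdeal (X.presheaf.stalk (fst p))) :
    IsLocalRing.maximalIdeal (P.presheaf.stalk p) = ⊥ := by
  set ψ := (fst.stalkMap p).hom with hψ
  have h1 : Ideal.map ψ (IsLocalRing.maximalIdeal (X.presheaf.stalk (fst p))) =
      IsLocalRing.maximalIdeal (P.presheaf.stalk p) := map_maximalIdeal_of_surjective ψ hsurj
  have h2 : Ideal.map ψ (Ideal.map (f.stalkMap (fst p)).hom
      (IsLocalRing.maximalIdeal (Y.presheaf.stalk (f (fst p))))) = ⊥ := by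
    rw [Ideal.map_map, eq_bot_iff, Ideal.map_le_iff_le_comap]
    intro r hr
    rw [Ideal.mem_comap, Ideal.mem_bot]
    have e1 : (fst ≫ f).stalkMap p = f.stalkMap (fst p) ≫ fst.stalkMap p :=
      Scheme.Hom.stalkMap_comp fst f p
    have e2 := Scheme.Hom.stalkMap_congr_hom (fst ≫ f) (snd ≫ z) comm p
    have e3 : (snd ≫ z).stalkMap p = z.stalkMap (snd p) ≫ snd.stalkMap p :=
      Scheme.Hom.stalkMap_comp snd z p
    have e4 : (ψ.comp (f.stalkMap (fst p)).hom) r = ((fst ≫ f).stalkMap p).hom r := by
      rw [e1]; rfl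
    rw [e4, e2, e3]
    generalize_proofs hpf
    have hpf' : Inseparable (f (fst p)) (z (snd p)) := hpf
    obtain ⟨ι, hι⟩ : ∃ ι : Y.presheaf.stalk (f (fst p)) ≅ Y.presheaf.stalk (z (snd p)),
        ι = Y.presheaf.stalkCongr hpf' := ⟨_, rfl⟩
    change (CommRingCat.Hom.hom ((Y.presheaf.stalkCongr hpf').hom ≫ Scheme.Hom.stalkMap z (snd p) ≫
      Scheme.Hom.stalkMap snd p)) r = 0
    rw [← hι]
    show (snd.stalkMap p).hom ((z.stalkMap (snd p)).hom (ι.hom.hom r)) = 0
    have hloc : IsLocalHom ι.hom.hom := isLocalHom_of_iso ι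
    have hr' : ι.hom.hom r ∈ IsLocalRing.maximalIdeal (Y.presheaf.stalk (z (snd p))) := by
      rw [IsLocalRing.mem_maximalIdeal, mem_nonunits_iff] at hr ⊢
      exact fun hu => hr (isUnit_of_map_unit ι.hom.hom r hu)
    have hz : (z.stalkMap (snd p)).hom (ι.hom.hom r) ∈
        IsLocalRing.maximalIdeal (T.presheaf.stalk (snd p)) := by
      rw [IsLocalRing.mem_maximalIdeal, mem_nonunits_iff] at hr' ⊢
      exact fun hu => hr' (isUnit_of_map_unit (z.stalkMap (snd p)).hom _ hu)
    rw [hfield, Ideal.mem_bot] at hz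
    rw [hz, map_zero]
  have h3 := congrArg (Ideal.map ψ) hT
  rw [Ideal.map_sup, h2, Ideal.map_pow, h1, bot_sup_eq] at h3
  have hfg' : (IsLocalRing.maximalIdeal (P.presheaf.stalk p)).FG := by
    rw [← h1]; exact hfg.map ψ
  refine Submodule.eq_bot_of_le_smul_of_le_jacobson_bot (IsLocalRing.maximalIdeal (P.presheaf.stalk p)) _ hfg' ?_ ?_
  · rw [smul_eq_mul, ← sq, h3]
  · rw [IsLocalRing.jacobson_eq_maximalIdeal _ bot_ne_top]

lemma opens_eq_top_of_closedPoints_mem {Y : Type*} [TopologicalSpace Y] [T0Space Y] [CompactSpace Y]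
    (W : Opens Y) (h : ∀ y, IsClosed ({y} : Set Y) → y ∈ W) : W = ⊤ := by
  by_contra hne
  have hne' : ((W : Set Y)ᶜ).Nonempty := by
    rw [Set.nonempty_compl]
    intro hW
    exact hne (Opens.ext (by simpa using hW))
  obtain ⟨y, hy, hyc⟩ := IsClosed.exists_closed_singleton W.2.isClosed_compl hne'
  exact hy (h y hyc)

lemma eq_of_mem_closed_of_closedPoints_subsingleton {X : Type*} [TopologicalSpace X] [JacobsonSpace X]
    (Z : Set X) (hZ : IsClosed Z)
    (h : ∀ x₁ ∈ Z, ∀ x₂ ∈ Z, IsClosed ({x₁} : Set X) → IsClosed ({x₂} : Set X) → x₁ = x₂) :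
    ∀ x ∈ Z, IsClosed ({x} : Set X) ∧ ∀ x' ∈ Z, x' = x := by
  intro x hx
  have hcl := closure_inter_closedPoints hZ
  have hne : (Z ∩ closedPoints X).Nonempty := by
    rw [Set.nonempty_iff_ne_empty]
    intro he
    rw [he, closure_empty] at hcl
    rw [← hcl] at hx
    exact hx
  obtain ⟨x₀, hx₀Z, hx₀c⟩ := hne
  have hx₀c' : IsClosed ({x₀} : Set X) := hx₀c
  have hsing : Z ∩ closedPoints X = {x₀} := by
    ext a
    constructor
    · rintro ⟨haZ, hac⟩
      exact h a haZ x₀ hx₀Z hac hx₀c'
    · rintro rfl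
      exact ⟨hx₀Z, hx₀c⟩
  rw [hsing, hx₀c'.closure_eq] at hcl
  rw [← hcl] at hx ⊢
  obtain rfl : x = x₀ := hx
  exact ⟨hx₀c', fun x' hx' => hx'⟩

set_option backward.isDefEq.respectTransparency.types false in
theorem isClosedImmersion_snd_of_closedPoint (k : Type u) [Field k] [IsAlgClosed k]
    {X Y : Scheme.{u}} (f : X ⟶ Y) (q : Y ⟶ Spec (CommRingCat.of k)) [LocallyOfFiniteType q]
    [LocallyOfFiniteType (f ≫ q)] [IsFinite f] (y : Y) (hy : IsClosed ({y} : Set Y))
    (hfib : ∀ x : X, f x = y → IsClosed ({x} : Set X) ∧ ∀ x' : X, f x' = y → x' = x)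
    (hT : ∀ x : X, IsClosed ({x} : Set X) →
      Ideal.map (f.stalkMap x).hom (IsLocalRing.maximalIdeal (Y.presheaf.stalk (f.base x))) ⊔
        IsLocalRing.maximalIdeal (X.presheaf.stalk x) ^ 2 = IsLocalRing.maximalIdeal (X.presheaf.stalk x)) :
    IsClosedImmersion (pullback.snd f (Y.fromSpecResidueField y)) := by
  have hP : ∀ p : ↑(pullback f (Y.fromSpecResidueField y)),
      f (pullback.fst f (Y.fromSpecResidueField y) p) = y := by
    intro p
    rw [← Scheme.Hom.comp_apply, pullback.condition, Scheme.Hom.comp_apply,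
      Scheme.fromSpecResidueField_apply]
  have hsub : Subsingleton ↑(pullback f (Y.fromSpecResidueField y)) := by
    refine ⟨fun p₁ p₂ => (pullback.fst f (Y.fromSpecResidueField y)).isEmbedding.injective ?_⟩
    exact ((hfib _ (hP p₂)).2 _ (hP p₁))
  rcases isEmpty_or_nonempty ↑(pullback f (Y.fromSpecResidueField y)) with hemp | ⟨⟨p⟩⟩
  · infer_instance
  -- the base field
  let e : Y.residueField y ≅ CommRingCat.of k := residueFieldIsoBase q y hy
  have hac : IsAlgClosed (Y.residueField y) :=
    IsAlgClosed.of_ringEquiv k (Y.residueField y) e.commRingCatIsoToRingEquiv.symm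
  -- the stalk at `p` is a field
  have hlocN : IsLocallyNoetherian X := LocallyOfFiniteType.isLocallyNoetherian (f ≫ q)
  have hA : IsLocalRing.maximalIdeal ((pullback f (Y.fromSpecResidueField y)).presheaf.stalk p) = ⊥ := by
    refine maximalIdeal_stalk_eq_bot_of_cotangent f (Y.fromSpecResidueField y) (pullback.fst f (Y.fromSpecResidueField y)) (pullback.snd f (Y.fromSpecResidueField y))
      pullback.condition p ((pullback.fst f (Y.fromSpecResidueField y)).stalkMap_surjective p) ?_ ?_ ?_
    · exact maximalIdeal_stalk_Spec_field_eq_bot (K := Y.residueField y) _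
    · exact (isNoetherianRing_iff_ideal_fg _).mp inferInstance _
    · exact hT _ (hfib _ (hP p)).1
  have hred : IsReduced (pullback f (Y.fromSpecResidueField y)) := by
    have : ∀ p' : ↑(pullback f (Y.fromSpecResidueField y)), _root_.IsReduced ((pullback f (Y.fromSpecResidueField y)).presheaf.stalk p') := by
      intro p'
      obtain rfl : p' = p := Subsingleton.elim _ _
      refine ⟨fun a ha => ?_⟩
      have hnu : a ∈ IsLocalRing.maximalIdeal ((pullback f (Y.fromSpecResidueField y)).presheaf.stalk p') := by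
        rw [IsLocalRing.mem_maximalIdeal, mem_nonunits_iff]
        intro hu
        exact ha.not_isUnit hu
      rwa [hA, Ideal.mem_bot] at hnu
    exact isReduced_of_isReduced_stalk _
  have hirr : IrreducibleSpace ↑(pullback f (Y.fromSpecResidueField y)) := ⟨⟨p⟩⟩
  have hint : IsIntegral (pullback f (Y.fromSpecResidueField y)) := isIntegral_of_irreducibleSpace_of_isReduced _
  have hfin := (pullback.snd f (Y.fromSpecResidueField y)).finite_appTop
  let ρ : Y.residueField y →+* Γ(pullback f (Y.fromSpecResidueField y), ⊤) :=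
    ((Scheme.ΓSpecIso (Y.residueField y)).inv ≫ (pullback.snd f (Y.fromSpecResidueField y)).appTop).hom
  have hρ : ρ.IsIntegral := by
    have : ρ.Finite := by
      refine RingHom.Finite.comp hfin ?_
      exact RingHom.Finite.of_surjective _
        (ConcreteCategory.bijective_of_isIso (Scheme.ΓSpecIso (Y.residueField y)).inv).2
    exact this.to_isIntegral
  have hbij := IsAlgClosed.ringHom_bijective_of_isIntegral ρ hρ
  refine IsClosedImmersion.of_surjective_of_isAffine _ ?_
  intro a
  obtain ⟨c, hc⟩ := hbij.2 a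
  exact ⟨(Scheme.ΓSpecIso (Y.residueField y)).inv.hom c, hc⟩

end Groth.Agent.Lib.Helper38
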