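import Groth.Agent.Lib.Helper38.PicPnD
import Groth.Agent.Lib.Ample.Helper50_MulSec
import Groth.Agent.Lib.Proj.TwistMul

/-!
# Picard group of projective space over a UFD, part E (helper38)

ns `Groth.Agent.Lib.Helper38.PicPn`.
* `nonempty_iso_unit_of_isGenerator` : a module with a global free generator is trivial.
* `tmul_compat`, `exists_global_gen` : the local generators `e_j ⊗ T_j^a/T_j^b` of `M ⊗ O(a - b)` glue.
* `exists_iso_twist` : **every invertible module on `P^n_R`, `R` a UFD, is isomorphic to some `O(d)`**.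
-/
set_option linter.style.haveILetI false
universe u
open CategoryTheory CategoryTheory.Limits AlgebraicGeometry TopologicalSpace Opposite
  HomogeneousLocalization
namespace Groth.Agent.Lib.Helper38.PicPn
open Groth.Agent.Lib.Ample Groth.Agent.Lib.QCoh Groth.Agent.Lib.Proj Groth.Agent.Lib.Proj.ToProj
  Groth.Agent.Lib.Proj.ToPn Groth.Agent.Lib.Proj.PullSec Groth.Agent.Lib.Proj.QuotCompare
  Groth.Agent.Lib.Proj.PnUP Groth.Agent.Lib.Proj.PnUnique
  Groth.Agent.Lib.Helper38.SepPts Groth.Agent.Lib.Helper48.UfdPic Scheme.Modules Twist CohB1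

theorem nonempty_iso_unit_of_isGenerator {X : Scheme.{u}} (L : X.Modules) (ε : Γ(L, ⊤))
    (hε : IsGenerator L ⊤ ε) : Nonempty (L ≅ Coh.structureModule X) := by
  haveI : IsIso (homOfSec L ε) := by
    refine Groth.Agent.Lib.Helper48.TensorDesc.isIso_of_isGenerator _ (fun y => ⟨⊤, trivial,
      (show Γ(Coh.structureModule X, ⊤) from (1 : Γ(X, ⊤))), isGenerator_one ⊤, ?_⟩)
    have h1 := app_apply (homOfSec L ε) ⊤ (1 : Γ(X, ⊤))
    rw [secOf_homOfSec, one_smul] at h1
    have h2 : ((homOfSec L ε).app ⊤)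
        (show Γ(Coh.structureModule X, ⊤) from (1 : Γ(X, ⊤))) = ε :=
      h1.trans (resSec_self L _)
    rw [h2]
    exact hε
  exact ⟨(asIso (homOfSec L ε)).symm⟩

variable (R : Type u) [CommRing R] (n : ℕ)
lemma isUnit_resFn_zfrac (j : Fin (n + 1)) :
    IsUnit (resFn (inf_le_right : D R n 0 ⊓ D R n j ≤ D R n j) (zfrac n R j 0)) := by
  have := zfrac_mul R n j 0 j
  rw [zfrac_self, resFn_one] at this
  exact IsUnit.of_mul_eq_one _ (by rw [mul_comm]; exact this.symm)

lemma resSec_tmulSect {X : Scheme.{u}} (F L : X.Modules) {V W : X.Opens} (h : W ≤ V)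
    (x : Γ(F, V)) (l : Γ(L, V)) :
    resSec (tensorMod F L) h (tmulSect F L x l) = tmulSect F L (resSec F h x) (resSec L h l) :=
  tmulSect_res (homOfLE h) x l

theorem tmul_compat {M : (Proj (CohB1.polyGrading n R)).Modules} (e0 : Γ(M, D R n 0))
    (j : Fin (n + 1)) (ej : Γ(M, D R n j)) (a b aj bj : ℕ) (h : bj + a = aj + b)
    (hR : resFn (inf_le_right : D R n 0 ⊓ D R n j ≤ D R n j) (zfrac n R j 0) ^ aj •
          resSec M (inf_le_left : D R n 0 ⊓ D R n j ≤ D R n 0) e0 =
        resFn (inf_le_right : D R n 0 ⊓ D R n j ≤ D R n j) (zfrac n R j 0) ^ bj •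
          resSec M (inf_le_right : D R n 0 ⊓ D R n j ≤ D R n j) ej) :
    resSec (tensorMod M (twist (CohB1.polyGrading n R) ((a : ℤ) - b)))
        (inf_le_left : D R n 0 ⊓ D R n j ≤ D R n 0)
        (tmulSect M (twist (CohB1.polyGrading n R) ((a : ℤ) - b)) e0 (gsec R n 0 a b)) =
      resSec (tensorMod M (twist (CohB1.polyGrading n R) ((a : ℤ) - b)))
        (inf_le_right : D R n 0 ⊓ D R n j ≤ D R n j)
        (tmulSect M (twist (CohB1.polyGrading n R) ((a : ℤ) - b)) ej (gsec R n j a b)) := by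
  have hu := (isUnit_resFn_zfrac R n j).pow aj
  apply (hu.smul_left_cancel).1
  rw [resSec_tmulSect, resSec_tmulSect, ← tmulSect_smul_left, hR, tmulSect_smul_left,
    ← tmulSect_smul_right, gsec_rel R n j a b aj bj h, tmulSect_smul_right]

variable [IsDomain R]

theorem exists_global_gen {M : (Proj (CohB1.polyGrading n R)).Modules}
    (e : ∀ j : Fin (n + 1), Γ(M, D R n j)) (he : ∀ j, IsGenerator M (D R n j) (e j)) (a b : ℕ)
    (aj bj : Fin (n + 1) → ℕ) (hab : ∀ j, bj j + a = aj j + b)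
    (hR : ∀ j, resFn (inf_le_right : D R n 0 ⊓ D R n j ≤ D R n j) (zfrac n R j 0) ^ aj j •
          resSec M (inf_le_left : D R n 0 ⊓ D R n j ≤ D R n 0) (e 0) =
        resFn (inf_le_right : D R n 0 ⊓ D R n j ≤ D R n j) (zfrac n R j 0) ^ bj j •
          resSec M (inf_le_right : D R n 0 ⊓ D R n j ≤ D R n j) (e j)) :
    ∃ ε : Γ(tensorMod M (twist (CohB1.polyGrading n R) ((a : ℤ) - b)), ⊤),
      IsGenerator (tensorMod M (twist (CohB1.polyGrading n R) ((a : ℤ) - b))) ⊤ ε := by
  haveI := isIntegral_proj R n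
  set N := tensorMod M (twist (CohB1.polyGrading n R) ((a : ℤ) - b)) with hN
  let ε : ∀ j : Fin (n + 1), Γ(N, D R n j) := fun j =>
    tmulSect M (twist (CohB1.polyGrading n R) ((a : ℤ) - b)) (e j) (gsec R n j a b)
  have hε : ∀ j, IsGenerator N (D R n j) (ε j) := fun j =>
    IsGenerator.tmul (he j) (isGenerator_gsec R n j a b)
  have hc0 : ∀ j, resSec N (inf_le_left : D R n 0 ⊓ D R n j ≤ D R n 0) (ε 0) =
      resSec N (inf_le_right : D R n 0 ⊓ D R n j ≤ D R n j) (ε j) := fun j =>
    tmul_compat R n (e 0) j (e j) a b (aj j) (bj j) (hab j) (hR j)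
  have hcompat : ∀ j k, resSec N (inf_le_left : D R n j ⊓ D R n k ≤ D R n j) (ε j) =
      resSec N (inf_le_right : D R n j ⊓ D R n k ≤ D R n k) (ε k) := by
    intro j k
    have hX : ∀ i : Fin (n + 1), (MvPolynomial.X i : MvPolynomial (Fin (n + 1)) R) ≠ 0 :=
      fun i => MvPolynomial.X_ne_zero i
    have hgV0 : genPt R n ∈ D R n 0 ⊓ (D R n j ⊓ D R n k) :=
      ⟨genPt_mem_basicOpen R n _ (hX 0), genPt_mem_basicOpen R n _ (hX j),
        genPt_mem_basicOpen R n _ (hX k)⟩
    have hV0V : D R n 0 ⊓ (D R n j ⊓ D R n k) ≤ D R n j ⊓ D R n k := inf_le_right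
    have hV0j : D R n 0 ⊓ (D R n j ⊓ D R n k) ≤ D R n 0 ⊓ D R n j :=
      le_inf inf_le_left (inf_le_right.trans inf_le_left)
    have hV0k : D R n 0 ⊓ (D R n j ⊓ D R n k) ≤ D R n 0 ⊓ D R n k :=
      le_inf inf_le_left (inf_le_right.trans inf_le_right)
    obtain ⟨c, hc, hce⟩ := exists_unit_smul
      ((hε j).mono (inf_le_left : D R n j ⊓ D R n k ≤ D R n j))
      ((hε k).mono (inf_le_right : D R n j ⊓ D R n k ≤ D R n k))
    have h1 := congrArg (resSec N hV0j) (hc0 j)
    have h2 := congrArg (resSec N hV0k) (hc0 k)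
    have h3 := congrArg (resSec N hV0V) hce
    simp only [resSec_smul, resSec_resSec] at h1 h2 h3
    have hc1 : resFn hV0V c = resFn hV0V 1 := by
      apply ((hε j) (D R n 0 ⊓ (D R n j ⊓ D R n k)) (hV0V.trans inf_le_left)).1
      show resFn hV0V c • resSec N _ (ε j) = resFn hV0V 1 • resSec N _ (ε j)
      rw [← h3, ← h2, h1, resFn_one, one_smul]
    have hinjV := map_injective_of_isIntegral (Proj (CohB1.polyGrading n R)) (homOfLE hV0V)
      (H := ⟨⟨_, hgV0⟩⟩)
    have hc' : c = 1 := hinjV hc1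
    rw [hce, hc', one_smul]
  exact exists_isGenerator_of_cover N (fun j => D R n j) ⊤ (fun _ => le_top)
    (by rw [iSup_basicOpen_X n R]) ε hε hcompat


variable [UniqueFactorizationMonoid R]

/-- **every invertible module on `P^n_R`, `R` a UFD, is a twist `O(d)`** -/
theorem exists_iso_twist {M : (Proj (CohB1.polyGrading n R)).Modules}
    (hM : PicF.IsInvertible M) :
    ∃ d : ℤ, Nonempty (M ≅ twist (CohB1.polyGrading n R) d) := by
  obtain ⟨e0, he0⟩ := exists_gen R n hM 0
  have key : ∀ j : Fin (n + 1), j ≠ 0 →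
      ∃ (e' : Γ(M, D R n j)) (_ : IsGenerator M (D R n j) e') (a b : ℕ),
        resFn (inf_le_right : D R n 0 ⊓ D R n j ≤ D R n j) (zfrac n R j 0) ^ a •
          resSec M (inf_le_left : D R n 0 ⊓ D R n j ≤ D R n 0) e0 =
        resFn (inf_le_right : D R n 0 ⊓ D R n j ≤ D R n j) (zfrac n R j 0) ^ b •
          resSec M (inf_le_right : D R n 0 ⊓ D R n j ≤ D R n j) e' := by
    intro j hj
    obtain ⟨ej, hej⟩ := exists_gen R n hM j
    exact exists_normalized R n e0 he0 j hj ej hej
  choose! e' he' aj bj hrel using key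
  obtain ⟨a, b, hab⟩ : ∃ a b : ℕ, ∀ j, j ≠ 0 → bj j + a = aj j + b := by
    by_cases h : ∃ j1 : Fin (n + 1), j1 ≠ 0
    · obtain ⟨j1, hj1⟩ := h
      refine ⟨aj j1, bj j1, fun j hj => ?_⟩
      have := deg_eq R n e0 j j1 hj hj1 (e' j) (he' j hj) (e' j1) (he' j1 hj1) (aj j) (bj j)
        (aj j1) (bj j1) (hrel j hj) (hrel j1 hj1)
      omega
    · exact ⟨0, 0, fun j hj => absurd ⟨j, hj⟩ h⟩
  let E : ∀ j : Fin (n + 1), Γ(M, D R n j) := Function.update e' 0 e0
  let A : Fin (n + 1) → ℕ := Function.update aj 0 a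
  let B : Fin (n + 1) → ℕ := Function.update bj 0 b
  have hE : ∀ j, IsGenerator M (D R n j) (E j) := by
    intro j
    rcases eq_or_ne j 0 with rfl | hj
    · show IsGenerator M _ (Function.update e' 0 e0 0)
      rw [Function.update_self]
      exact he0
    · show IsGenerator M _ (Function.update e' 0 e0 j)
      rw [Function.update_of_ne hj]
      exact he' j hj
  have hAB : ∀ j, B j + a = A j + b := by
    intro j
    rcases eq_or_ne j 0 with rfl | hj
    · show Function.update bj 0 b 0 + a = Function.update aj 0 a 0 + b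
      rw [Function.update_self, Function.update_self, add_comm]
    · show Function.update bj 0 b j + a = Function.update aj 0 a j + b
      rw [Function.update_of_ne hj, Function.update_of_ne hj]
      exact hab j hj
  have hE0 : E 0 = e0 := Function.update_self ..
  have hR : ∀ j, resFn (inf_le_right : D R n 0 ⊓ D R n j ≤ D R n j) (zfrac n R j 0) ^ A j •
          resSec M (inf_le_left : D R n 0 ⊓ D R n j ≤ D R n 0) (E 0) =
        resFn (inf_le_right : D R n 0 ⊓ D R n j ≤ D R n j) (zfrac n R j 0) ^ B j •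
          resSec M (inf_le_right : D R n 0 ⊓ D R n j ≤ D R n j) (E j) := by
    intro j
    rcases eq_or_ne j 0 with rfl | hj
    · rw [zfrac_self, resFn_one, one_pow, one_pow, one_smul]
    · have hEj : E j = e' j := Function.update_of_ne hj ..
      have hAj : A j = aj j := Function.update_of_ne hj ..
      have hBj : B j = bj j := Function.update_of_ne hj ..
      rw [hE0, hEj, hAj, hBj]
      exact hrel j hj
  obtain ⟨ε, hε⟩ := exists_global_gen R n E hE a b A B hAB hR
  obtain ⟨φ⟩ := nonempty_iso_unit_of_isGenerator _ ε hε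
  have hUF := hasUnitFrac_of_cover (hcov n R) ((a : ℤ) - b)
  let ψ : tensorMod (twist (CohB1.polyGrading n R) ((a : ℤ) - b))
      (twist (CohB1.polyGrading n R) (-((a : ℤ) - b))) ≅
      Coh.structureModule (Proj (CohB1.polyGrading n R)) :=
    twistMulIso ((a : ℤ) - b) (-((a : ℤ) - b)) 0 (by ring) hUF ≪≫
      twistZeroIso (CohB1.polyGrading n R)
  exact ⟨-((a : ℤ) - b), ⟨(tensorModRightUnitor M).symm ≪≫
    tensorModCongr (Iso.refl M) ψ.symm ≪≫
    (tensorModAssoc M _ _).symm ≪≫ tensorModCongr φ (Iso.refl _) ≪≫ tensorModLeftUnitor _⟩⟩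

end Groth.Agent.Lib.Helper38.PicPn
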