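import Groth.Agent.Lib.Helper38.EtaleSourceFT

/-!
# Properties that can be checked after precomposing with an étale surjection

General reduction to algebra, plus: locally of finite type, formally unramified, locally
quasi-finite.
-/

set_option autoImplicit false
universe u

open AlgebraicGeometry CategoryTheory Limits TensorProduct

namespace Groth.Agent.Lib.Helper38.EtaleSource

section Algebra

/-- Formally unramified descends along étale faithfully flat maps on the source. -/
theorem formallyUnramified_of_etale_of_faithfullyFlat (R A B : Type u) [CommRing R] [CommRing A]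
    [CommRing B] [Algebra R A] [Algebra A B] [Algebra R B] [IsScalarTower R A B]
    [Algebra.Etale A B] [Module.FaithfullyFlat A B] [Algebra.FormallyUnramified R B] :
    Algebra.FormallyUnramified R A := by
  have e := KaehlerDifferential.tensorKaehlerEquivOfFormallyEtale R A B
  have : Subsingleton (B ⊗[A] Ω[A⁄R]) := e.toEquiv.subsingleton
  exact ⟨(Module.FaithfullyFlat.subsingleton_tensorProduct_iff_right A B).mp this⟩

end Algebra

variable {P : MorphismProperty Scheme.{u}}
  {Q : ∀ {R S : Type u} [CommRing R] [CommRing S], (R →+* S) → Prop}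

/-- Affine case of the reduction. -/
lemma of_comp_etale_surjective_of_isAffine [HasRingHomProperty P Q]
    (HQ : ∀ {R A B : CommRingCat.{u}} (φ : R ⟶ A) (ψ : A ⟶ B), ψ.hom.Etale →
      Function.Surjective (PrimeSpectrum.comap ψ.hom) → Q (φ ≫ ψ).hom → Q φ.hom)
    {T V U : Scheme.{u}} [IsAffine T] [IsAffine V] [IsAffine U] (h : T ⟶ V) (g : V ⟶ U)
    [Etale h] [Surjective h] (H : P (h ≫ g)) : P g := by
  rw [HasRingHomProperty.iff_of_isAffine (P := P)] at H ⊢
  rw [Scheme.Hom.comp_appTop] at H
  refine HQ g.appTop h.appTop ?_ ?_ H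
  · exact (HasRingHomProperty.iff_of_isAffine (P := @Etale)).mp inferInstance
  · intro q
    obtain ⟨y, hy⟩ := V.toSpecΓ.surjective q
    obtain ⟨x, hx⟩ := h.surjective y
    refine ⟨T.toSpecΓ.base x, ?_⟩
    have := congrArg (fun φ => φ.base x) (Scheme.toSpecΓ_naturality h)
    simp only [Scheme.Hom.comp_base, TopCat.comp_app] at this
    rw [hx, hy] at this
    rw [this]
    rfl

/-- General reduction: a source-and-target local property `P` (given by `Q`) which contains étale
morphisms, is stable under composition, and such that `Q` descends along étale faithfully flat ring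
maps on the source, can be checked after precomposing with an étale surjection. -/
theorem of_comp_etale_surjective [HasRingHomProperty P Q] [P.IsStableUnderComposition]
    (hEP : @Etale ≤ P)
    (HQ : ∀ {R A B : CommRingCat.{u}} (φ : R ⟶ A) (ψ : A ⟶ B), ψ.hom.Etale →
      Function.Surjective (PrimeSpectrum.comap ψ.hom) → Q (φ ≫ ψ).hom → Q φ.hom)
    {X' X Y : Scheme.{u}} (f : X' ⟶ X) (g : X ⟶ Y) [Etale f] [Surjective f] (H : P (f ≫ g)) :
    P g := by
  have hOI : ∀ {A B : Scheme.{u}} (i : A ⟶ B), IsOpenImmersion i → P i := fun i hi =>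
    hEP _ _ i (by have : IsOpenImmersion i := hi; exact (inferInstance : Etale i))
  have : P.RespectsRight @IsOpenImmersion := ⟨fun i hi f hf => P.comp_mem _ _ hf (hOI i hi)⟩
  have : P.HasOfPostcompProperty @IsOpenImmersion :=
    hasOfPostcompProperty_isOpenImmersion_of_morphismRestrict P
      (fun f U hf => IsZariskiLocalAtTarget.restrict hf U)
  rw [IsZariskiLocalAtSource.iff_exists_resLE (P := P)]
  intro x
  obtain ⟨U, hU, hxU, -⟩ := exists_isAffineOpen_mem_and_subset (x := g.base x) (U := ⊤) trivial
  obtain ⟨V, hV, hxV, hVU⟩ := exists_isAffineOpen_mem_and_subset (x := x) (U := g ⁻¹ᵁ U) hxU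
  refine ⟨U, V, hxV, hVU, ?_⟩
  have hfo : IsOpenMap f.base := f.isOpenMap
  obtain ⟨W : X'.Opens, hW, hWV⟩ := hfo.exists_opens_image_eq_of_prespectralSpace f.continuous
    (fun y _ => f.surjective y) V.2 hV.isCompact
  have hWV' : f.base '' (W : Set X') = (V : Set X) := hWV
  have : CompactSpace W.toScheme := isCompact_iff_compactSpace.mp hW
  obtain ⟨T, p, hpsurj, hpet, hT⟩ := W.toScheme.exists_hom_isAffine_of_isZariskiLocalAtSource @Etale
  have hpet' : Etale p := hpet
  have hrange : Set.range (p ≫ W.ι ≫ f).base ⊆ Set.range V.ι.base := by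
    rw [Scheme.Opens.range_ι]
    rintro _ ⟨t, rfl⟩
    rw [← hWV']
    exact ⟨(p.base t).1, (p.base t).2, rfl⟩
  let h' : T ⟶ V.toScheme := IsOpenImmersion.lift V.ι (p ≫ W.ι ≫ f) hrange
  have hh' : h' ≫ V.ι = p ≫ W.ι ≫ f := IsOpenImmersion.lift_fac _ _ _
  have h1 : Etale (h' ≫ V.ι) := by rw [hh']; infer_instance
  have hh'et : Etale h' := MorphismProperty.of_postcomp (W := @Etale) (W' := @IsOpenImmersion)
    h' V.ι inferInstance h1
  have hh'surj : Surjective h' := by
    refine ⟨fun v => ?_⟩
    have hv : (V.ι.base v : X) ∈ (V : Set X) := v.2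
    rw [← hWV'] at hv
    obtain ⟨w, hw, hwv⟩ := hv
    obtain ⟨t, ht⟩ := hpsurj.surj ⟨w, hw⟩
    refine ⟨t, ?_⟩
    apply V.ι.injective
    rw [← Scheme.Hom.comp_apply, hh']
    simp only [Scheme.Hom.comp_base, TopCat.comp_app]
    rw [ht]
    exact hwv
  have : IsAffine V.toScheme := hV
  have : IsAffine U.toScheme := hU
  apply of_comp_etale_surjective_of_isAffine HQ h' (g.resLE U V hVU)
  apply MorphismProperty.of_postcomp (W := P) (W' := @IsOpenImmersion) _ U.ι inferInstance
  rw [Category.assoc, Scheme.Hom.resLE_comp_ι, ← Category.assoc, hh', Category.assoc,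
    Category.assoc]
  exact P.comp_mem _ _ (hEP _ _ p hpet') (P.comp_mem _ _ (hOI W.ι inferInstance) H)

/-- Locally of finite type can be checked after precomposing with an étale surjection. -/
theorem locallyOfFiniteType_of_comp_etale_surjective {X' X Y : Scheme.{u}} (f : X' ⟶ X)
    (g : X ⟶ Y) [Etale f] [Surjective f] [LocallyOfFiniteType (f ≫ g)] :
    LocallyOfFiniteType g := by
  refine of_comp_etale_surjective (P := @LocallyOfFiniteType) (Q := RingHom.FiniteType)
    (fun _ _ f hf => by have : Etale f := hf; exact (inferInstance : LocallyOfFiniteType f))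
    ?_ f g inferInstance
  intro R A B φ ψ hψ hsurj h
  rw [CommRingCat.hom_comp] at h
  algebraize [φ.hom, ψ.hom, ψ.hom.comp φ.hom]
  exact EtaleSourceFT.finiteType_of_etale_of_comap_surjective R A B hsurj

/-- Formally unramified can be checked after precomposing with an étale surjection. -/
theorem formallyUnramified_of_comp_etale_surjective {X' X Y : Scheme.{u}} (f : X' ⟶ X)
    (g : X ⟶ Y) [Etale f] [Surjective f] [FormallyUnramified (f ≫ g)] :
    FormallyUnramified g := by
  refine of_comp_etale_surjective (P := @FormallyUnramified) (Q := RingHom.FormallyUnramified)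
    (fun _ _ f hf => by have : Etale f := hf; exact (inferInstance : FormallyUnramified f))
    ?_ f g inferInstance
  intro R A B φ ψ hψ hsurj h
  rw [CommRingCat.hom_comp] at h
  algebraize [φ.hom, ψ.hom, ψ.hom.comp φ.hom]
  have : Module.FaithfullyFlat A B := Module.FaithfullyFlat.of_comap_surjective hsurj
  exact formallyUnramified_of_etale_of_faithfullyFlat R A B

lemma isDiscrete_of_isOpenMap_of_preimage {X Y : Type*} [TopologicalSpace X] [TopologicalSpace Y]
    {f : X → Y} (hf : IsOpenMap f) (hsurj : Function.Surjective f) {t : Set Y}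
    (h : IsDiscrete (f ⁻¹' t)) : IsDiscrete t := by
  refine .of_nhdsWithin fun y hy => ?_
  obtain ⟨x, rfl⟩ := hsurj y
  have hx : x ∈ f ⁻¹' t := hy
  have h1 : {x} ∈ nhdsWithin x (f ⁻¹' t) := by
    rw [h.nhdsWithin x hx]
    exact Filter.mem_pure.mpr rfl
  obtain ⟨O, hO, hxO, hOs⟩ := mem_nhdsWithin.mp h1
  rw [Filter.le_pure_iff]
  refine mem_nhdsWithin.mpr ⟨f '' O, hf O hO, ⟨x, hxO, rfl⟩, ?_⟩
  rintro _ ⟨⟨o, ho, rfl⟩, ht⟩
  have : o ∈ ({x} : Set X) := hOs ⟨ho, ht⟩
  rw [Set.mem_singleton_iff] at this
  rw [this]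
  exact rfl

/-- Locally quasi-finite (together with locally of finite type) can be checked after precomposing
with an étale surjection. -/
theorem locallyQuasiFinite_of_comp_etale_surjective {X' X Y : Scheme.{u}} (f : X' ⟶ X)
    (g : X ⟶ Y) [Etale f] [Surjective f] [LocallyQuasiFinite (f ≫ g)]
    [LocallyOfFiniteType (f ≫ g)] : LocallyQuasiFinite g := by
  have : LocallyOfFiniteType g := locallyOfFiniteType_of_comp_etale_surjective f g
  rw [locallyQuasiFinite_iff_isDiscrete_preimage_singleton]
  intro y
  have h := (f ≫ g).isDiscrete_preimage_singleton y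
  exact isDiscrete_of_isOpenMap_of_preimage f.isOpenMap f.surjective h

end Groth.Agent.Lib.Helper38.EtaleSource
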