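import Mathlib

/-!
# Finite type descends along étale surjections on the source

`R → A → B` with `A → B` étale and surjective on spectra, `B` of finite type over `R`:
then `A` is of finite type over `R`.
-/

set_option autoImplicit false
universe u

open TensorProduct

namespace Groth.Agent.Lib.Helper38.EtaleSourceFT

section abstract

variable {A₀ A₁ A B₀ : Type u} [CommRing A₀] [CommRing A₁] [CommRing A] [CommRing B₀]
  [Algebra A₀ A₁] [Algebra A₁ A] [Algebra A₀ A] [IsScalarTower A₀ A₁ A] [Algebra A₀ B₀]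

/-- If `A₁ ⊗[A₀] B₀` is faithfully flat over `A₁` and `A₁ ⊗[A₀] B₀ → A ⊗[A₀] B₀` is surjective then
`A₁ → A` is surjective. -/
lemma surjective_algebraMap_of_surjective_map [Module.FaithfullyFlat A₁ (A₁ ⊗[A₀] B₀)]
    (hψ : Function.Surjective (Algebra.TensorProduct.map (IsScalarTower.toAlgHom A₀ A₁ A)
      (AlgHom.id A₀ B₀))) :
    Function.Surjective (algebraMap A₁ A) := by
  apply Module.FaithfullyFlat.surjective_of_tensorProduct (S := A₁ ⊗[A₀] B₀)
  let Φ : (A₁ ⊗[A₀] B₀) ⊗[A₁] A ≃ₐ[A₁] A ⊗[A₀] B₀ :=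
    (Algebra.TensorProduct.comm A₁ (A₁ ⊗[A₀] B₀) A).trans
      (Algebra.TensorProduct.cancelBaseChange A₀ A₁ A₁ A B₀)
  have h1 : ∀ x : A₁ ⊗[A₀] B₀, Φ (x ⊗ₜ[A₁] (1 : A)) =
      Algebra.TensorProduct.map (IsScalarTower.toAlgHom A₀ A₁ A) (AlgHom.id A₀ B₀) x := by
    intro x
    induction x with
    | zero => simp
    | tmul a b => simp [Φ, Algebra.smul_def]
    | add x y hx hy => rw [TensorProduct.add_tmul, map_add, hx, hy, map_add]
  intro c
  obtain ⟨x, hx⟩ := hψ (Φ c)
  refine ⟨x, Φ.injective ?_⟩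
  rw [← hx, ← h1]
  rfl

open AlgebraicGeometry CategoryTheory Limits in
/-- Spectrum of a tensor product surjects onto the fibre product of spectra (ring form). -/
lemma exists_prime_tensorProduct (R S T : Type u) [CommRing R] [CommRing S] [CommRing T]
    [Algebra R S] [Algebra R T] (q : PrimeSpectrum S) (p : PrimeSpectrum T)
    (h : PrimeSpectrum.comap (algebraMap R S) q = PrimeSpectrum.comap (algebraMap R T) p) :
    ∃ z : PrimeSpectrum (S ⊗[R] T), PrimeSpectrum.comap (algebraMap S (S ⊗[R] T)) z = q := by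
  obtain ⟨z, hz1, -⟩ := Scheme.Pullback.exists_preimage_pullback
    (f := Spec.map (CommRingCat.ofHom (algebraMap R S)))
    (g := Spec.map (CommRingCat.ofHom (algebraMap R T))) q p h
  refine ⟨(pullbackSpecIso R S T).hom.base z, ?_⟩
  have := congrArg (fun φ => φ.base z) (pullbackSpecIso_hom_fst' R S T)
  exact this.trans hz1

/-- Faithful flatness of the base change when the image of `Spec A₁ → Spec A₀` lies in the image
of `Spec B₀ → Spec A₀`. -/
lemma faithfullyFlat_tensor [Module.Flat A₀ B₀]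
    (h : ∀ q₁ : PrimeSpectrum A₁, PrimeSpectrum.comap (algebraMap A₀ A₁) q₁ ∈
      Set.range (PrimeSpectrum.comap (algebraMap A₀ B₀))) :
    Module.FaithfullyFlat A₁ (A₁ ⊗[A₀] B₀) := by
  apply Module.FaithfullyFlat.of_comap_surjective
  intro q₁
  obtain ⟨p₀, hp₀⟩ := h q₁
  exact exists_prime_tensorProduct A₀ A₁ B₀ q₁ p₀ hp₀.symm

end abstract

/-- **Finite type descends along étale surjections on the source.** -/
theorem finiteType_of_etale_of_comap_surjective (R A B : Type u) [CommRing R] [CommRing A]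
    [CommRing B] [Algebra R A] [Algebra A B] [Algebra R B] [IsScalarTower R A B]
    [Algebra.Etale A B] (hsurj : Function.Surjective (PrimeSpectrum.comap (algebraMap A B)))
    [Algebra.FiniteType R B] : Algebra.FiniteType R A := by
  classical
  obtain ⟨A₀, B₀, _, _, hA₀, hB₀, ⟨e⟩⟩ := Algebra.Etale.exists_subalgebra_fg R A B
  obtain ⟨s, hs⟩ := (Algebra.FiniteType.out : (⊤ : Subalgebra R B).FG)
  have hrep : ∀ b : B, ∃ S : Finset (A × B₀), e b = ∑ i ∈ S, i.1 ⊗ₜ[A₀] i.2 :=
    fun b => TensorProduct.exists_finset (e b)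
  choose S hS using hrep
  let t₁ : Finset A := s.biUnion (fun b => (S b).image Prod.fst)
  -- the image of `Spec B₀` in `Spec A₀` is open
  let U : Set (PrimeSpectrum A₀) := Set.range (PrimeSpectrum.comap (algebraMap A₀ B₀))
  have hU : IsOpen U :=
    (PrimeSpectrum.isOpenMap_comap_of_hasGoingDown_of_finitePresentation).isOpen_range
  let I : Ideal A₀ := PrimeSpectrum.vanishingIdeal Uᶜ
  have hI : PrimeSpectrum.zeroLocus (I : Set A₀) = Uᶜ := by
    rw [PrimeSpectrum.zeroLocus_vanishingIdeal_eq_closure, hU.isClosed_compl.closure_eq]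
  have hcomp : (e.symm : A ⊗[A₀] B₀ →+* B).comp
      (((Algebra.TensorProduct.includeRight : B₀ →ₐ[A₀] A ⊗[A₀] B₀) : B₀ →+* _).comp
      (algebraMap A₀ B₀)) = (algebraMap A B).comp (algebraMap A₀ A) := by
    ext a₀
    have h2 : (Algebra.TensorProduct.includeRight : B₀ →ₐ[A₀] A ⊗[A₀] B₀) (algebraMap A₀ B₀ a₀) =
        algebraMap A (A ⊗[A₀] B₀) (algebraMap A₀ A a₀) := by
      rw [Algebra.TensorProduct.includeRight_apply, Algebra.TensorProduct.algebraMap_apply]
      rw [Algebra.algebraMap_eq_smul_one, ← TensorProduct.smul_tmul, Algebra.smul_def, mul_one]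
      rfl
    simp only [RingHom.coe_comp, RingHom.coe_coe, Function.comp_apply]
    rw [h2]
    exact e.symm.commutes _
  have htop : Ideal.map (algebraMap A₀ A) I = ⊤ := by
    by_contra hne
    obtain ⟨M, hM, hle⟩ := Ideal.exists_le_maximal _ hne
    obtain ⟨P, hP⟩ := hsurj ⟨M, hM.isPrime⟩
    have hmem : PrimeSpectrum.comap (algebraMap A₀ A) ⟨M, hM.isPrime⟩ ∈ U := by
      refine ⟨PrimeSpectrum.comap
        ((Algebra.TensorProduct.includeRight : B₀ →ₐ[A₀] A ⊗[A₀] B₀) : B₀ →+* _)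
        (PrimeSpectrum.comap (e.symm : A ⊗[A₀] B₀ →+* B) P), ?_⟩
      rw [← hP, ← PrimeSpectrum.comap_comp_apply, ← PrimeSpectrum.comap_comp_apply,
        ← PrimeSpectrum.comap_comp_apply, hcomp]
    have hmem' : PrimeSpectrum.comap (algebraMap A₀ A) ⟨M, hM.isPrime⟩ ∈
        PrimeSpectrum.zeroLocus (I : Set A₀) := by
      intro x hx
      exact hle (Ideal.mem_map_of_mem _ hx)
    rw [hI] at hmem'
    exact hmem' hmem
  have hone : (1 : A) ∈ Submodule.span A ((algebraMap A₀ A) '' (I : Set A₀)) := by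
    change (1 : A) ∈ Ideal.map (algebraMap A₀ A) I
    rw [htop]
    trivial
  obtain ⟨t, htI, c, hc⟩ := (Submodule.mem_span_image_iff_exists_fun A).mp hone
  let t₂ : Finset A := Finset.univ.image c
  let A₁ : Subalgebra R A := A₀ ⊔ Algebra.adjoin R ((t₁ ∪ t₂ : Finset A) : Set A)
  have hA₁ : A₁.FG := hA₀.sup (Subalgebra.fg_adjoin_finset _)
  have hle : A₀ ≤ A₁ := le_sup_left
  have ht₁ : ∀ a ∈ t₁, a ∈ A₁ := fun a ha =>
    (le_sup_right : Algebra.adjoin R ((t₁ ∪ t₂ : Finset A) : Set A) ≤ A₁)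
      (Algebra.subset_adjoin (by simp [ha]))
  have ht₂ : ∀ a ∈ t₂, a ∈ A₁ := fun a ha =>
    (le_sup_right : Algebra.adjoin R ((t₁ ∪ t₂ : Finset A) : Set A) ≤ A₁)
      (Algebra.subset_adjoin (by simp [ha]))
  letI : Algebra A₀ A₁ := (Subalgebra.inclusion hle).toRingHom.toAlgebra
  haveI : IsScalarTower A₀ A₁ A := IsScalarTower.of_algebraMap_eq (fun x => rfl)
  -- faithful flatness
  haveI : Module.FaithfullyFlat A₁ (A₁ ⊗[A₀] B₀) := by
    apply faithfullyFlat_tensor
    intro q₁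
    by_contra hq
    have hq' : PrimeSpectrum.comap (algebraMap A₀ A₁) q₁ ∈ PrimeSpectrum.zeroLocus (I : Set A₀) := by
      rw [hI]; exact hq
    have h1 : (1 : A₁) = ∑ i : t, (⟨c i, ht₂ _ (Finset.mem_image_of_mem c (Finset.mem_univ i))⟩ : A₁) *
        algebraMap A₀ A₁ i.1 := by
      apply Subtype.val_injective
      have h1' : ((1 : A₁) : A) = 1 := rfl
      rw [h1', ← hc]
      simp only [AddSubmonoidClass.coe_finset_sum, MulMemClass.coe_mul, smul_eq_mul]
      rfl
    have : (1 : A₁) ∈ q₁.asIdeal := by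
      rw [h1]
      refine Ideal.sum_mem _ fun i _ => Ideal.mul_mem_left _ _ ?_
      exact hq' (htI i.2)
    exact q₁.isPrime.ne_top ((Ideal.eq_top_iff_one _).mpr this)
  -- surjectivity of the comparison map
  have hψ : Function.Surjective (Algebra.TensorProduct.map (IsScalarTower.toAlgHom A₀ A₁ A)
      (AlgHom.id A₀ B₀)) := by
    let ψ : A₁ ⊗[A₀] B₀ →+* A ⊗[A₀] B₀ :=
      (Algebra.TensorProduct.map (IsScalarTower.toAlgHom A₀ A₁ A) (AlgHom.id A₀ B₀) :
        A₁ ⊗[A₀] B₀ →+* A ⊗[A₀] B₀)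
    have hpure : ∀ (a : A) (ha : a ∈ A₁) (b₀ : B₀), a ⊗ₜ[A₀] b₀ ∈ ψ.range :=
      fun a ha b₀ => ⟨(⟨a, ha⟩ : A₁) ⊗ₜ b₀, by simp [ψ]⟩
    have key : ∀ b ∈ Algebra.adjoin R (s : Set B), e b ∈ ψ.range := by
      intro b hb
      induction hb using Algebra.adjoin_induction with
      | mem b hb =>
        rw [hS b]
        refine Subring.sum_mem _ fun i hi => hpure _ (ht₁ _ ?_) _
        exact Finset.mem_biUnion.mpr ⟨b, hb, Finset.mem_image_of_mem _ hi⟩
      | algebraMap r =>
        rw [IsScalarTower.algebraMap_apply R A B, e.commutes, Algebra.TensorProduct.algebraMap_apply]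
        exact hpure _ (A₁.algebraMap_mem r) 1
      | add x y _ _ hx hy => rw [map_add]; exact Subring.add_mem _ hx hy
      | mul x y _ _ hx hy => rw [map_mul]; exact Subring.mul_mem _ hx hy
    intro y
    have := key (e.symm y) (by rw [hs]; trivial)
    rw [AlgEquiv.apply_symm_apply] at this
    obtain ⟨x, hx⟩ := this
    exact ⟨x, hx⟩
  have hfin := surjective_algebraMap_of_surjective_map (A₀ := A₀) (A₁ := A₁) (A := A) (B₀ := B₀) hψ
  have htop' : A₁ = ⊤ := by
    rw [eq_top_iff]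
    intro a _
    obtain ⟨a₁, rfl⟩ := hfin a
    exact a₁.2
  exact ⟨htop' ▸ hA₁⟩

end Groth.Agent.Lib.Helper38.EtaleSourceFT
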