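import Mathlib

/-!
Flat jointly surjective families of algebras detect bijectivity (helper38).
-/

set_option autoImplicit false
open TensorProduct
universe u

namespace Groth.Agent.Lib.Helper38.FFAlg

/-- A jointly surjective family of flat algebras detects nonzero elements of modules. -/
theorem exists_one_tmul_ne_zero {A : Type u} [CommRing A] {M : Type u} [AddCommGroup M] [Module A M]
    {m : M} (hm : m ≠ 0) :
    ∃ (𝔪 : Ideal A) (h𝔪 : 𝔪.IsMaximal),
      ∀ (A' : Type u) [CommRing A'] [Algebra A A'] [Module.Flat A A'] (𝔮 : Ideal A'),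
        𝔮.IsPrime → 𝔮.comap (algebraMap A A') = 𝔪 → (1 : A') ⊗ₜ[A] m ≠ 0 := by
  let I : Ideal A := LinearMap.ker (LinearMap.toSpanSingleton A M m)
  have hI : I ≠ ⊤ := by
    intro h
    have : (1 : A) ∈ I := h ▸ Submodule.mem_top
    simp [I] at this
    exact hm this
  obtain ⟨𝔪, h𝔪, hI𝔪⟩ := Ideal.exists_le_maximal I hI
  refine ⟨𝔪, h𝔪, ?_⟩
  intro A' _ _ _ 𝔮 h𝔮 hcomap h0
  -- the injective map `A ⧸ I → M`
  let ι : (A ⧸ I) →ₗ[A] M := Submodule.liftQ I (LinearMap.toSpanSingleton A M m) le_rfl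
  have hι : Function.Injective ι := by
    rw [← LinearMap.ker_eq_bot]
    exact Submodule.ker_liftQ_eq_bot _ _ _ le_rfl
  have hι' : Function.Injective (ι.lTensor A') := Module.Flat.lTensor_preserves_injective_linearMap ι hι
  have h1 : (ι.lTensor A') ((1 : A') ⊗ₜ[A] (Submodule.Quotient.mk 1 : A ⧸ I)) = 0 := by
    rw [LinearMap.lTensor_tmul]
    show (1 : A') ⊗ₜ[A] (Submodule.liftQ I (LinearMap.toSpanSingleton A M m) le_rfl
      (Submodule.Quotient.mk 1)) = 0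
    rw [Submodule.liftQ_apply]
    simpa using h0
  have h2 : (1 : A') ⊗ₜ[A] (Submodule.Quotient.mk 1 : A ⧸ I) = 0 := hι' (by rw [h1, map_zero])
  -- map to `A' ⧸ 𝔮`
  have hle : I ≤ RingHom.ker (algebraMap A (A' ⧸ 𝔮)) := by
    intro r hr
    rw [RingHom.mem_ker, IsScalarTower.algebraMap_apply A A' (A' ⧸ 𝔮), Ideal.Quotient.algebraMap_eq,
      Ideal.Quotient.eq_zero_iff_mem]
    have : r ∈ 𝔮.comap (algebraMap A A') := hcomap ▸ hI𝔪 hr
    exact this
  let φ : A' ⊗[A] (A ⧸ I) →ₐ[A] A' ⧸ 𝔮 :=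
    Algebra.TensorProduct.lift (IsScalarTower.toAlgHom A A' (A' ⧸ 𝔮))
      (Ideal.Quotient.liftₐ I (Algebra.ofId A (A' ⧸ 𝔮)) (fun r hr => hle hr))
      (fun _ _ => Commute.all _ _)
  have h3 : φ ((1 : A') ⊗ₜ[A] (Submodule.Quotient.mk 1 : A ⧸ I)) = 1 := by
    simp [φ]
  rw [h2, map_zero] at h3
  have : (1 : A' ⧸ 𝔮) ≠ 0 := by
    have := Ideal.Quotient.nontrivial_iff.mpr h𝔮.ne_top
    exact one_ne_zero
  exact this h3.symm

/-- A ring map which becomes bijective after base change along each member of a jointly surjective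
family of flat algebras is bijective. -/
theorem bijective_algebraMap_of_forall_flat (A B : Type u) [CommRing A] [CommRing B] [Algebra A B]
    (H : ∀ 𝔪 : Ideal A, 𝔪.IsMaximal → ∃ (A' : Type u) (_ : CommRing A') (_ : Algebra A A')
      (_ : Module.Flat A A') (𝔮 : Ideal A'), 𝔮.IsPrime ∧ 𝔮.comap (algebraMap A A') = 𝔪 ∧
        Function.Bijective (algebraMap A' (A' ⊗[A] B))) :
    Function.Bijective (algebraMap A B) := by
  constructor
  · rw [injective_iff_map_eq_zero]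
    intro a ha
    by_contra hne
    obtain ⟨𝔪, h𝔪, hZ⟩ := exists_one_tmul_ne_zero (A := A) (M := A) hne
    obtain ⟨A', _, _, _, 𝔮, h𝔮, hc, hbij⟩ := H 𝔪 h𝔪
    have h1 : algebraMap A A' a = 0 := by
      apply hbij.1
      rw [map_zero]
      calc algebraMap A' (A' ⊗[A] B) (algebraMap A A' a)
          = (algebraMap A A' a) ⊗ₜ[A] (1 : B) := by
            rw [Algebra.TensorProduct.algebraMap_apply, Algebra.algebraMap_self, RingHom.id_apply]
        _ = (a • (1 : A')) ⊗ₜ[A] (1 : B) := by rw [Algebra.algebraMap_eq_smul_one]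
        _ = (1 : A') ⊗ₜ[A] (a • (1 : B)) := TensorProduct.smul_tmul _ _ _
        _ = (1 : A') ⊗ₜ[A] (algebraMap A B a) := by rw [← Algebra.algebraMap_eq_smul_one]
        _ = 0 := by rw [ha, TensorProduct.tmul_zero]
    apply hZ A' 𝔮 h𝔮 hc
    have : (1 : A') ⊗ₜ[A] a = (algebraMap A A' a) ⊗ₜ[A] (1 : A) := by
      calc (1 : A') ⊗ₜ[A] a = (1 : A') ⊗ₜ[A] (a • (1 : A)) := by rw [smul_eq_mul, mul_one]
        _ = (a • (1 : A')) ⊗ₜ[A] (1 : A) := (TensorProduct.smul_tmul _ _ _).symm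
        _ = (algebraMap A A' a) ⊗ₜ[A] (1 : A) := by rw [← Algebra.algebraMap_eq_smul_one]
    rw [this, h1, TensorProduct.zero_tmul]
  · intro b
    by_contra hb
    let N : Submodule A B := LinearMap.range (Algebra.linearMap A B)
    have hne : (N.mkQ b) ≠ 0 := by
      intro h
      rw [Submodule.mkQ_apply, Submodule.Quotient.mk_eq_zero] at h
      obtain ⟨a, ha⟩ := h
      exact hb ⟨a, ha⟩
    obtain ⟨𝔪, h𝔪, hZ⟩ := exists_one_tmul_ne_zero (A := A) (M := B ⧸ N) hne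
    obtain ⟨A', _, _, _, 𝔮, h𝔮, hc, hbij⟩ := H 𝔪 h𝔪
    apply hZ A' 𝔮 h𝔮 hc
    obtain ⟨c, hc'⟩ := hbij.2 ((1 : A') ⊗ₜ[A] b)
    rw [Algebra.TensorProduct.algebraMap_apply] at hc'
    have h1 : (N.mkQ.lTensor A') ((1 : A') ⊗ₜ[A] b) = (1 : A') ⊗ₜ[A] (N.mkQ b) := rfl
    rw [← h1, ← hc']
    simp only [Algebra.algebraMap_self, RingHom.id_apply, LinearMap.lTensor_tmul]
    have h2 : N.mkQ (1 : B) = 0 := by
      rw [Submodule.mkQ_apply, Submodule.Quotient.mk_eq_zero]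
      exact ⟨1, by simp⟩
    rw [h2, TensorProduct.tmul_zero]

end Groth.Agent.Lib.Helper38.FFAlg
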