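import Mathlib
import Groth.Prelude.Def_ClSub2

/-!
Closed subsets proper over a base (helper38): properness passes down along surjective closed
immersions, and the reduced induced structure on a preimage maps onto the base change of the
reduced induced structure.
-/

set_option autoImplicit false
open CategoryTheory CategoryTheory.Limits AlgebraicGeometry Topology TopologicalSpace
universe u

namespace Groth.Agent.Lib.Helper38.ProperOver

/-- If `k` is a surjective closed immersion and `k ≫ h` is separated then `h` is separated. -/
theorem isSeparated_of_comp_surjective_closedImmersion {A W Y : Scheme.{u}} (k : A ⟶ W) (h : W ⟶ Y)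
    [IsClosedImmersion k] [Surjective k] [IsSeparated (k ≫ h)] : IsSeparated h := by
  constructor
  refine IsClosedImmersion.of_isPreimmersion _ ?_
  have hkk : IsClosedImmersion
      (pullback.map (k ≫ h) (k ≫ h) h h k k (𝟙 Y) (by simp) (by simp)) :=
    MorphismProperty.pullbackMap (P := @IsClosedImmersion) (f' := h) (g' := h)
      (inferInstanceAs (IsClosedImmersion k)) (inferInstanceAs (IsClosedImmersion k)) rfl rfl
  have e := pullback.comp_diagonal k h
  have hr : Set.range (pullback.diagonal h) = Set.range (k ≫ pullback.diagonal h) := by
    rw [Scheme.Hom.comp_base, TopCat.coe_comp, Set.range_comp, Set.range_eq_univ.mpr k.surjective,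
      Set.image_univ]
  rw [hr, e]
  exact (pullback.diagonal (k ≫ h) ≫
    pullback.map (k ≫ h) (k ≫ h) h h k k (𝟙 Y) (by simp) (by simp)).isClosedEmbedding.isClosed_range

/-- If `k` is a surjective closed immersion, `k ≫ h` is proper and `h` is locally of finite type,
then `h` is proper. -/
theorem isProper_of_comp_surjective_closedImmersion {A W Y : Scheme.{u}} (k : A ⟶ W) (h : W ⟶ Y)
    [IsClosedImmersion k] [Surjective k] [IsProper (k ≫ h)] [LocallyOfFiniteType h] : IsProper h := by
  have := isSeparated_of_comp_surjective_closedImmersion k h
  have := UniversallyClosed.of_comp_surjective k h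
  constructor

/-- The range of the reduced induced closed subscheme on a closed set is that set. -/
theorem range_subschemeι_vanishingIdeal {X : Scheme.{u}} (Z : Closeds X) :
    Set.range (Scheme.IdealSheafData.vanishingIdeal Z).subschemeι = (Z : Set X) := by
  rw [Scheme.IdealSheafData.range_subschemeι, Scheme.IdealSheafData.coe_support_vanishingIdeal]

/-- A closed immersion whose range is the closed set `Z` receives a surjective closed immersion from
the reduced induced closed subscheme on `Z`. -/
theorem exists_lift_of_range_eq {W X : Scheme.{u}} (j : W ⟶ X) [IsClosedImmersion j] (Z : Closeds X)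
    (hj : Set.range j = (Z : Set X)) :
    ∃ k : (Scheme.IdealSheafData.vanishingIdeal Z).subscheme ⟶ W,
      k ≫ j = (Scheme.IdealSheafData.vanishingIdeal Z).subschemeι ∧ IsClosedImmersion k ∧
        Surjective k := by
  have H : j.ker ≤ (Scheme.IdealSheafData.vanishingIdeal Z).subschemeι.ker := by
    rw [Scheme.IdealSheafData.ker_subschemeι,
      ← Scheme.IdealSheafData.le_support_iff_le_vanishingIdeal]
    intro x hx
    exact j.range_subset_ker_support (hj ▸ hx)
  let k := IsClosedImmersion.lift j _ H
  have hk : k ≫ j = (Scheme.IdealSheafData.vanishingIdeal Z).subschemeι :=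
    IsClosedImmersion.lift_fac _ _ _
  have h1 : IsClosedImmersion (k ≫ j) := by rw [hk]; infer_instance
  refine ⟨k, hk, IsClosedImmersion.of_comp k j, ⟨fun w => ?_⟩⟩
  have hw : j w ∈ Set.range (Scheme.IdealSheafData.vanishingIdeal Z).subschemeι := by
    rw [range_subschemeι_vanishingIdeal, ← hj]
    exact ⟨w, rfl⟩
  obtain ⟨a, ha⟩ := hw
  refine ⟨a, j.isClosedEmbedding.injective ?_⟩
  rw [← ha, ← hk]
  rfl

end Groth.Agent.Lib.Helper38.ProperOver
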