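import Mathlib
import Groth.Agent.S0079
import Groth.Agent.S0080

/-!
Flat base change of the affinization `X ⟶ Spec Γ(X, ⊤)` and fpqc descent of quasi-affine schemes
(helper38).
-/

set_option autoImplicit false
open CategoryTheory CategoryTheory.Limits AlgebraicGeometry Topology TopologicalSpace
universe u

namespace Groth.Agent.Lib.Helper38.QAffDescent

/-- Flat base change of the affinization: for a pullback square `Y = X ×_S T` with `S`, `T` affine,
`T ⟶ S` flat and `X` quasi-compact and quasi-separated, the square formed by the affinization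
morphisms is a pullback square, and `Spec Γ(Y) ⟶ Spec Γ(X)` is a base change of `T ⟶ S`. -/
theorem isPullback_toSpecΓ_of_flat {X Y S T : Scheme.{u}} {f : T ⟶ S} {g : Y ⟶ X} {iX : X ⟶ S}
    {iY : Y ⟶ T} (H : IsPullback g iY iX f) [IsAffine S] [IsAffine T] [Flat f] [CompactSpace X]
    [QuasiSeparatedSpace X] :
    IsPullback g Y.toSpecΓ X.toSpecΓ (Spec.map g.appTop) ∧
      IsPullback (Spec.map g.appTop) (Spec.map iY.appTop) (Spec.map iX.appTop)
        (Spec.map f.appTop) := by
  have hiso := isIso_pushoutSection_of_isQuasiSeparated_of_flat_right H (US := ⊤) (UT := ⊤)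
    (UX := ⊤) (UY := ⊤) le_top le_top (by simp) (isAffineOpen_top _) (isAffineOpen_top _)
    isCompact_univ isQuasiSeparated_univ
  rw [isIso_pushoutSection_iff] at hiso
  have e : ∀ {X Y : Scheme.{u}} (f : X ⟶ Y) (h : (⊤ : X.Opens) ≤ f ⁻¹ᵁ ⊤),
      f.appLE ⊤ ⊤ h = f.appTop := fun f h => f.appLE_eq_app (U := ⊤)
  simp only [e] at hiso
  have hSpec := isPullback_SpecMap_of_isPushout _ _ _ _ hiso
  have hbot : IsPullback f T.toSpecΓ S.toSpecΓ (Spec.map f.appTop) :=
    IsPullback.of_vert_isIso ⟨(Scheme.toSpecΓ_naturality f)⟩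
  have houter := H.paste_vert hbot
  rw [Scheme.toSpecΓ_naturality, Scheme.toSpecΓ_naturality] at houter
  exact ⟨IsPullback.of_bot houter (Scheme.toSpecΓ_naturality _) hSpec, hSpec⟩

/-- fpqc descent of quasi-affineness over an affine base: if `T ⟶ S` is a flat surjective morphism
of affine schemes and the base change `W = T ×_S Y` of `Y ⟶ S` is a quasi-affine scheme, then `Y` is
a quasi-affine scheme. -/
theorem isQuasiAffine_of_isPullback {W T Y S : Scheme.{u}} {a : W ⟶ T} {b : W ⟶ Y} {q : T ⟶ S}
    {g : Y ⟶ S} (H : IsPullback a b q g) [IsAffine S] [IsAffine T] [Flat q] [Surjective q]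
    [W.IsQuasiAffine] : Y.IsQuasiAffine := by
  have i79 := Groth.Agent.S0079.result.{u}
  have i80 := Groth.Agent.S0080.result.{u}
  have hq : (@Surjective ⊓ @Flat ⊓ @QuasiCompact : MorphismProperty Scheme.{u}) q :=
    ⟨⟨inferInstance, inferInstance⟩, inferInstance⟩
  have haqc : QuasiCompact a := (quasiCompact_iff_compactSpace a).mpr inferInstance
  have haqs : QuasiSeparated a := (quasiSeparated_iff_quasiSeparatedSpace a).mpr inferInstance
  have hqc : QuasiCompact g :=
    MorphismProperty.of_isPullback_of_descendsAlong (P := @QuasiCompact)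
      (Q := @Surjective ⊓ @Flat ⊓ @QuasiCompact) H hq haqc
  have hqs : QuasiSeparated g :=
    MorphismProperty.of_isPullback_of_descendsAlong (P := @QuasiSeparated)
      (Q := @Surjective ⊓ @Flat ⊓ @QuasiCompact) H hq haqs
  have : CompactSpace Y := (quasiCompact_iff_compactSpace g).mp hqc
  have : QuasiSeparatedSpace Y := (quasiSeparated_iff_quasiSeparatedSpace g).mp hqs
  obtain ⟨htop, hSpec⟩ := isPullback_toSpecΓ_of_flat H.flip
  have hd : (@Surjective ⊓ @Flat ⊓ @QuasiCompact : MorphismProperty Scheme.{u})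
      (Spec.map q.appTop) :=
    ((@Surjective ⊓ @Flat ⊓ @QuasiCompact : MorphismProperty Scheme.{u}).arrow_mk_iso_iff
      (arrowIsoSpecΓOfIsAffine q)).mp hq
  have ha : (@Surjective ⊓ @Flat ⊓ @QuasiCompact : MorphismProperty Scheme.{u})
      (Spec.map b.appTop) :=
    MorphismProperty.of_isPullback hSpec.flip hd
  have hopen : IsOpenImmersion Y.toSpecΓ :=
    MorphismProperty.of_isPullback_of_descendsAlong (P := @IsOpenImmersion)
      (Q := @Surjective ⊓ @Flat ⊓ @QuasiCompact) htop.flip ha
      (inferInstanceAs (IsOpenImmersion W.toSpecΓ))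
  exact { }

end Groth.Agent.Lib.Helper38.QAffDescent
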