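import Mathlib
import Groth.Agent.Lib.Helper38.ImmDescent
import Groth.Agent.Lib.Helper38.ProperOver
import Groth.Agent.Lib.Helper38.FFAlg
import Groth.Agent.Lib.Helper38.QAffDescent

/-!
Descent of topological properties of a quasi-compact morphism along a flat surjective (not
necessarily quasi-compact) base change (helper38).
-/

set_option autoImplicit false
open CategoryTheory CategoryTheory.Limits AlgebraicGeometry Topology TopologicalSpace TensorProduct
universe u

namespace Groth.Agent.Lib.Helper38.FFDescent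

open Groth.Agent.Lib.Helper38.ImmDescent Groth.Agent.Lib.Helper38.ProperOver

theorem condition_apply {X Y Z : Scheme.{u}} (f : X ⟶ Z) (g : Y ⟶ Z) (x : ↥(pullback f g)) :
    f (pullback.fst f g x) = g (pullback.snd f g x) := by
  rw [← Scheme.Hom.comp_apply, ← Scheme.Hom.comp_apply, pullback.condition]

/-- Surjectivity descends along a surjective base change. -/
theorem surjective_of_pullback_snd {X Y Y' : Scheme.{u}} (f : X ⟶ Y) (g : Y' ⟶ Y)
    (hg : Function.Surjective g) (h : Function.Surjective (pullback.snd f g)) :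
    Function.Surjective f := by
  intro y
  obtain ⟨y', rfl⟩ := hg y
  obtain ⟨x', rfl⟩ := h y'
  exact ⟨pullback.fst f g x', condition_apply f g x'⟩

/-- Injectivity descends along a surjective base change. -/
theorem injective_of_pullback_snd {X Y Y' : Scheme.{u}} (f : X ⟶ Y) (g : Y' ⟶ Y)
    (hg : Function.Surjective g) (h : Function.Injective (pullback.snd f g)) :
    Function.Injective f := by
  intro x₁ x₂ hx
  obtain ⟨y', hy'⟩ := hg (f x₁)
  obtain ⟨z₁, hz₁, hz₁'⟩ := Scheme.Pullback.exists_preimage_pullback (f := f) (g := g) x₁ y' hy'.symm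
  obtain ⟨z₂, hz₂, hz₂'⟩ := Scheme.Pullback.exists_preimage_pullback (f := f) (g := g) x₂ y'
    (hx ▸ hy'.symm)
  have : z₁ = z₂ := h (hz₁'.trans hz₂'.symm)
  rw [← hz₁, ← hz₂, this]

/-- For `f` quasi-compact and `g` flat and surjective, if the base change of `f` along `g` is a
closed map then so is `f` (no quasi-compactness assumption on `g`). -/
theorem isClosedMap_of_pullback_snd {X Y Y' : Scheme.{u}} (f : X ⟶ Y) (g : Y' ⟶ Y) [Flat g]
    [Surjective g] [QuasiCompact f] (h : IsClosedMap (pullback.snd f g)) : IsClosedMap f := by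
  intro Z hZ
  let i := (Scheme.IdealSheafData.vanishingIdeal ⟨Z, hZ⟩).subschemeι
  have hi : Set.range i = Z := range_subschemeι_vanishingIdeal ⟨Z, hZ⟩
  have hr : Set.range (i ≫ f) = f '' Z := by
    rw [Scheme.Hom.comp_base, TopCat.coe_comp, Set.range_comp, hi]
  have hpre : g ⁻¹' (f '' Z) = pullback.snd f g '' (pullback.fst f g ⁻¹' Z) := by
    ext y'
    constructor
    · rintro ⟨z, hz, hzy⟩
      obtain ⟨x', hx', hx''⟩ := Scheme.Pullback.exists_preimage_pullback (f := f) (g := g) z y' hzy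
      exact ⟨x', by simpa [hx'] using hz, hx''⟩
    · rintro ⟨x', hx', rfl⟩
      exact ⟨_, hx', condition_apply f g x'⟩
  have hcl : IsClosed (g ⁻¹' (f '' Z)) := by
    rw [hpre]
    exact h _ (hZ.preimage (pullback.fst f g).continuous)
  have key := preimage_closure_range_subset g (i ≫ f)
  rw [hr, hcl.closure_eq] at key
  rw [← closure_subset_iff_isClosed]
  intro y hy
  obtain ⟨y', rfl⟩ := g.surjective y
  exact key hy

/-- For `f` quasi-compact and `g` flat and surjective, if the base change of `f` along `g` is a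
homeomorphism then so is `f`. -/
theorem isHomeomorph_of_pullback_snd {X Y Y' : Scheme.{u}} (f : X ⟶ Y) (g : Y' ⟶ Y) [Flat g]
    [Surjective g] [QuasiCompact f] (h : IsHomeomorph (pullback.snd f g)) : IsHomeomorph f := by
  rw [isHomeomorph_iff_continuous_isClosedMap_bijective]
  exact ⟨f.continuous, isClosedMap_of_pullback_snd f g h.isClosedMap,
    injective_of_pullback_snd f g g.surjective h.injective,
    surjective_of_pullback_snd f g g.surjective h.surjective⟩

/-- In a pushout square of commutative rings whose second leg is an isomorphism, the base-changed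
structure map is bijective. -/
lemma bijective_includeLeft_of_isPushout {A B A' C : CommRingCat.{u}} {φ : A ⟶ B} {ψ : A ⟶ A'}
    {inl : B ⟶ C} {inr : A' ⟶ C} (h : IsPushout φ ψ inl inr) [IsIso inr] :
    letI := φ.hom.toAlgebra
    letI := ψ.hom.toAlgebra
    Function.Bijective (algebraMap A' (A' ⊗[A] B)) := by
  algebraize [φ.hom, ψ.hom, inl.hom, inr.hom, inl.hom.comp φ.hom]
  have : IsScalarTower A A' C := .of_algebraMap_eq' <| congr($(h.1.1).hom)
  have hpo : Algebra.IsPushout A B A' C := CommRingCat.isPushout_iff_isPushout.mp h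
  have hpo' : Algebra.IsPushout A A' B C := Algebra.IsPushout.symm hpo
  let e : A' ⊗[A] B ≃ₐ[A'] C := Algebra.IsPushout.equiv A A' B C
  have hbij : Function.Bijective (algebraMap A' C) := ConcreteCategory.bijective_of_isIso inr
  have : (algebraMap A' (A' ⊗[A] B) : A' → A' ⊗[A] B) = e.symm ∘ (algebraMap A' C) := by
    ext x
    simp
  rw [this]
  exact e.symm.bijective.comp hbij

/-- A morphism of affine schemes which becomes an isomorphism after base change along each member
of a jointly surjective family of flat morphisms from affine schemes is an isomorphism. -/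
theorem isIso_of_forall_flat_affine {X Y : Scheme.{u}} (f : X ⟶ Y) [IsAffine X] [IsAffine Y]
    (H : ∀ y : Y, ∃ (T P : Scheme.{u}) (t : T ⟶ Y) (a : P ⟶ X) (b : P ⟶ T), IsAffine T ∧ Flat t ∧
      y ∈ Set.range t ∧ IsPullback a b f t ∧ IsIso b) : IsIso f := by
  suffices hb : Function.Bijective f.appTop.hom by
    have h1 : IsIso f.appTop := (ConcreteCategory.isIso_iff_bijective _).mpr hb
    exact (MorphismProperty.arrow_mk_iso_iff (MorphismProperty.isomorphisms _)
      (arrowIsoSpecΓOfIsAffine f)).mpr (inferInstanceAs (IsIso (Spec.map (f.appTop))))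
  algebraize [f.appTop.hom]
  refine Groth.Agent.Lib.Helper38.FFAlg.bijective_algebraMap_of_forall_flat Γ(Y, ⊤) Γ(X, ⊤) ?_
  intro 𝔪 h𝔪
  let p : Spec Γ(Y, ⊤) := ⟨𝔪, h𝔪.isPrime⟩
  obtain ⟨T, P, t, a, b, hT, ht, ⟨z, hz⟩, hsq, hiso⟩ := H (Y.isoSpec.inv p)
  have hpush := isPushout_appTop_of_isPullback hsq
  have hisoTop : IsIso b.appTop := Scheme.Hom.instIsIsoCommRingCatApp b ⊤
  have hbij := bijective_includeLeft_of_isPushout hpush
  have hflat : t.appTop.hom.Flat := (HasRingHomProperty.iff_of_isAffine (P := @Flat)).mp ht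
  refine ⟨Γ(T, ⊤), inferInstance, t.appTop.hom.toAlgebra, ?_, (T.isoSpec.hom z).asIdeal,
    (T.isoSpec.hom z).isPrime, ?_, hbij⟩
  · exact hflat
  · have h1 : (T.toSpecΓ ≫ Spec.map t.appTop) z = p := by
      rw [← Scheme.toSpecΓ_naturality, Scheme.Hom.comp_apply, hz]
      show (Y.isoSpec.inv ≫ Y.isoSpec.hom) p = p
      rw [Iso.inv_hom_id]
      rfl
    have h2 := congrArg PrimeSpectrum.asIdeal h1
    exact h2

lemma isIso_resLE {A B : Scheme.{u}} (φ : A ⟶ B) [IsIso φ] (V : B.Opens) (W : A.Opens)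
    (e : W = φ ⁻¹ᵁ V) : IsIso (φ.resLE V W e.le) := by
  subst e
  rw [Scheme.Hom.resLE_eq_morphismRestrict]
  infer_instance

/-- For `f` quasi-compact and `g` flat and surjective (not necessarily quasi-compact), if the base
change of `f` along `g` is an isomorphism then so is `f`. -/
theorem isIso_of_pullback_snd {X Y Y' : Scheme.{u}} (f : X ⟶ Y) (g : Y' ⟶ Y) [Flat g]
    [Surjective g] [QuasiCompact f] [IsIso (pullback.snd f g)] : IsIso f := by
  have hhomeo : IsHomeomorph f :=
    isHomeomorph_of_pullback_snd f g (pullback.snd f g).homeomorph.isHomeomorph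
  have haff : IsAffineHom f :=
    isAffineHom_of_isInducing f hhomeo.isInducing hhomeo.isClosedEmbedding.isClosed_range
  refine (IsZariskiLocalAtTarget.iff_of_iSup_eq_top (P := MorphismProperty.isomorphisms Scheme.{u})
    (fun U : Y.affineOpens => U.1) (iSup_affineOpens_eq_top Y)).mpr fun U => ?_
  show IsIso (f ∣_ U.1)
  haveI : IsAffine U.1.toScheme := U.2
  haveI : IsAffine (f ⁻¹ᵁ U.1).toScheme := U.2.preimage f
  apply isIso_of_forall_flat_affine
  intro y
  obtain ⟨y', hy'⟩ := g.surjective (U.1.ι y)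
  have hy'U : y' ∈ g ⁻¹ᵁ U.1 := by
    show g y' ∈ U.1
    rw [hy']
    exact y.2
  obtain ⟨T, hT, hy'T, hTU⟩ := exists_isAffineOpen_mem_and_subset hy'U
  have hTU' : T ≤ g ⁻¹ᵁ U.1 := hTU
  let UY : (pullback f g).Opens := pullback.fst f g ⁻¹ᵁ (f ⁻¹ᵁ U.1) ⊓ pullback.snd f g ⁻¹ᵁ T
  have hsq := Scheme.Hom.isPullback_resLE (IsPullback.of_hasPullback f g) (US := U.1) (UT := T)
    (UX := f ⁻¹ᵁ U.1) hTU' le_rfl (UY := UY) rfl
  rw [Scheme.Hom.resLE_eq_morphismRestrict] at hsq
  have hUY : UY = pullback.snd f g ⁻¹ᵁ T := by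
    have h1 : pullback.fst f g ⁻¹ᵁ (f ⁻¹ᵁ U.1) = pullback.snd f g ⁻¹ᵁ (g ⁻¹ᵁ U.1) := by
      rw [← Scheme.Hom.comp_preimage, ← Scheme.Hom.comp_preimage, pullback.condition]
    show pullback.fst f g ⁻¹ᵁ (f ⁻¹ᵁ U.1) ⊓ pullback.snd f g ⁻¹ᵁ T = _
    rw [h1]
    exact inf_eq_right.mpr ((pullback.snd f g).preimage_mono hTU')
  obtain ⟨z, hz⟩ : ∃ z : T.toScheme, T.ι z = y' := ⟨⟨y', hy'T⟩, rfl⟩
  refine ⟨T.toScheme, UY.toScheme, g.resLE U.1 T hTU', _, _, hT, inferInstance, ⟨z, ?_⟩, hsq,
    isIso_resLE _ _ _ hUY⟩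
  apply U.1.ι.isOpenEmbedding.injective
  rw [← Scheme.Hom.comp_apply, Scheme.Hom.resLE_comp_ι, Scheme.Hom.comp_apply, hz, hy']

theorem exists_preimage_of_isPullback {P X Y Z : Scheme.{u}} {a : P ⟶ X} {b : P ⟶ Y} {f : X ⟶ Z}
    {g : Y ⟶ Z} (h : IsPullback a b f g) (x : X) (y : Y) (hxy : f x = g y) :
    ∃ p : P, a p = x ∧ b p = y := by
  obtain ⟨q, hq1, hq2⟩ := Scheme.Pullback.exists_preimage_pullback (f := f) (g := g) x y hxy
  refine ⟨h.isoPullback.inv q, ?_, ?_⟩
  · rw [← Scheme.Hom.comp_apply, h.isoPullback_inv_fst, hq1]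
  · rw [← Scheme.Hom.comp_apply, h.isoPullback_inv_snd, hq2]

theorem w_apply {P X Y Z : Scheme.{u}} {a : P ⟶ X} {b : P ⟶ Y} {f : X ⟶ Z}
    {g : Y ⟶ Z} (h : IsPullback a b f g) (p : P) : f (a p) = g (b p) := by
  rw [← Scheme.Hom.comp_apply, ← Scheme.Hom.comp_apply, h.w]

/-- Family version: a quasi-compact morphism which becomes a homeomorphism after base change along
each member of a jointly surjective family of flat morphisms is a homeomorphism. -/
theorem isHomeomorph_of_forall_flat {X Y : Scheme.{u}} (f : X ⟶ Y) [QuasiCompact f]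
    (H : ∀ y : Y, ∃ (T P : Scheme.{u}) (t : T ⟶ Y) (a : P ⟶ X) (b : P ⟶ T), Flat t ∧
      y ∈ Set.range t ∧ IsPullback a b f t ∧ IsHomeomorph b) : IsHomeomorph f := by
  rw [isHomeomorph_iff_continuous_isClosedMap_bijective]
  refine ⟨f.continuous, ?_, ?_, ?_⟩
  · intro Z hZ
    let i := (Scheme.IdealSheafData.vanishingIdeal ⟨Z, hZ⟩).subschemeι
    have hi : Set.range i = Z := range_subschemeι_vanishingIdeal ⟨Z, hZ⟩
    have hr : Set.range (i ≫ f) = f '' Z := by
      rw [Scheme.Hom.comp_base, TopCat.coe_comp, Set.range_comp, hi]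
    rw [← closure_subset_iff_isClosed]
    intro y hy
    obtain ⟨T, P, t, a, b, ht, ⟨z, rfl⟩, hsq, hb⟩ := H y
    have hpre : t ⁻¹' (f '' Z) = b '' (a ⁻¹' Z) := by
      ext y'
      constructor
      · rintro ⟨x, hx, hxy⟩
        obtain ⟨p, hp1, hp2⟩ := exists_preimage_of_isPullback hsq x y' hxy
        exact ⟨p, by simpa [hp1] using hx, hp2⟩
      · rintro ⟨p, hp, rfl⟩
        exact ⟨_, hp, w_apply hsq p⟩
    have hcl : IsClosed (t ⁻¹' (f '' Z)) := by
      rw [hpre]
      exact hb.isClosedMap _ (hZ.preimage a.continuous)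
    have key := preimage_closure_range_subset t (i ≫ f)
    rw [hr, hcl.closure_eq] at key
    exact key hy
  · intro x₁ x₂ hx
    obtain ⟨T, P, t, a, b, ht, ⟨z, hz⟩, hsq, hb⟩ := H (f x₁)
    obtain ⟨p₁, hp₁, hp₁'⟩ := exists_preimage_of_isPullback hsq x₁ z hz.symm
    obtain ⟨p₂, hp₂, hp₂'⟩ := exists_preimage_of_isPullback hsq x₂ z (hx ▸ hz.symm)
    have : p₁ = p₂ := hb.injective (hp₁'.trans hp₂'.symm)
    rw [← hp₁, ← hp₂, this]
  · intro y
    obtain ⟨T, P, t, a, b, ht, ⟨z, rfl⟩, hsq, hb⟩ := H y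
    obtain ⟨p, rfl⟩ := hb.surjective z
    exact ⟨a p, w_apply hsq p⟩

/-- Family version over an affine base: a quasi-compact morphism to an affine scheme which becomes
an isomorphism after base change along each member of a jointly surjective family of flat
morphisms from affine schemes is an isomorphism. -/
theorem isIso_of_forall_flat {X Y : Scheme.{u}} (f : X ⟶ Y) [QuasiCompact f] [IsAffine Y]
    (H : ∀ y : Y, ∃ (T P : Scheme.{u}) (t : T ⟶ Y) (a : P ⟶ X) (b : P ⟶ T), IsAffine T ∧ Flat t ∧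
      y ∈ Set.range t ∧ IsPullback a b f t ∧ IsIso b) : IsIso f := by
  have hhomeo : IsHomeomorph f := by
    apply isHomeomorph_of_forall_flat
    intro y
    obtain ⟨T, P, t, a, b, hT, ht, hy, hsq, hb⟩ := H y
    exact ⟨T, P, t, a, b, ht, hy, hsq, b.homeomorph.isHomeomorph⟩
  have haff : IsAffineHom f :=
    isAffineHom_of_isInducing f hhomeo.isInducing hhomeo.isClosedEmbedding.isClosed_range
  have : IsAffine X := isAffine_of_isAffineHom f
  exact isIso_of_forall_flat_affine f H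

open Groth.Agent.Lib.Helper38.QAffDescent in
/-- For `f` quasi-compact and quasi-separated and `g` flat and surjective (not necessarily
quasi-compact), if the base change of `f` along `g` is affine then so is `f`. -/
theorem isAffineHom_of_pullback_snd {X Y Y' : Scheme.{u}} (f : X ⟶ Y) (g : Y' ⟶ Y) [Flat g]
    [Surjective g] [QuasiCompact f] [QuasiSeparated f] [IsAffineHom (pullback.snd f g)] :
    IsAffineHom f := by
  constructor
  intro U hU
  haveI : IsAffine U.toScheme := hU
  haveI hc : CompactSpace ↥(f ⁻¹ᵁ U).toScheme :=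
    isCompact_iff_compactSpace.mp (QuasiCompact.isCompact_preimage (f := f) _ U.isOpen hU.isCompact)
  haveI hqs : QuasiSeparatedSpace ↥(f ⁻¹ᵁ U).toScheme :=
    (quasiSeparated_iff_quasiSeparatedSpace (f ∣_ U)).mp inferInstance
  haveI hqc' : QuasiCompact (f ⁻¹ᵁ U).toScheme.toSpecΓ :=
    (quasiCompact_iff_compactSpace _).mpr hc
  suffices h : IsIso (f ⁻¹ᵁ U).toScheme.toSpecΓ from ⟨h⟩
  apply isIso_of_forall_flat
  intro w
  -- the image of `w` in `U`
  let c : Spec Γ((f ⁻¹ᵁ U).toScheme, ⊤) ⟶ U.toScheme :=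
    Spec.map (f ∣_ U).appTop ≫ U.toScheme.isoSpec.inv
  obtain ⟨y', hy'⟩ := g.surjective (U.ι (c w))
  have hy'U : y' ∈ g ⁻¹ᵁ U := by
    show g y' ∈ U
    rw [hy']
    exact (c w).2
  obtain ⟨T, hT, hy'T, hTU⟩ := exists_isAffineOpen_mem_and_subset hy'U
  have hTU' : T ≤ g ⁻¹ᵁ U := hTU
  haveI : IsAffine T.toScheme := hT
  let UY : (pullback f g).Opens := pullback.fst f g ⁻¹ᵁ (f ⁻¹ᵁ U) ⊓ pullback.snd f g ⁻¹ᵁ T
  have hsq := Scheme.Hom.isPullback_resLE (IsPullback.of_hasPullback f g) (US := U) (UT := T)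
    (UX := f ⁻¹ᵁ U) hTU' le_rfl (UY := UY) rfl
  rw [Scheme.Hom.resLE_eq_morphismRestrict] at hsq
  have hUY : UY = pullback.snd f g ⁻¹ᵁ T := by
    have h1 : pullback.fst f g ⁻¹ᵁ (f ⁻¹ᵁ U) = pullback.snd f g ⁻¹ᵁ (g ⁻¹ᵁ U) := by
      rw [← Scheme.Hom.comp_preimage, ← Scheme.Hom.comp_preimage, pullback.condition]
    show pullback.fst f g ⁻¹ᵁ (f ⁻¹ᵁ U) ⊓ pullback.snd f g ⁻¹ᵁ T = _
    rw [h1]
    exact inf_eq_right.mpr ((pullback.snd f g).preimage_mono hTU')
  haveI hPaff : IsAffine UY.toScheme := by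
    have : IsAffineOpen UY := hUY ▸ hT.preimage (pullback.snd f g)
    exact this
  obtain ⟨sq1, sq2⟩ := isPullback_toSpecΓ_of_flat hsq
  have hflat0 : Flat (Spec.map (g.resLE U T hTU').appTop) :=
    (MorphismProperty.arrow_mk_iso_iff (@Flat : MorphismProperty Scheme.{u}) (arrowIsoSpecΓOfIsAffine (g.resLE U T hTU'))).mp
      inferInstance
  have hflat : Flat (Spec.map ((pullback.fst f g).resLE (f ⁻¹ᵁ U) UY (by simp [UY])).appTop) :=
    MorphismProperty.of_isPullback sq2.flip hflat0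
  obtain ⟨z, hz⟩ : ∃ z : T.toScheme, T.ι z = y' := ⟨⟨y', hy'T⟩, rfl⟩
  have hzu : (g.resLE U T hTU') z = c w := by
    apply U.ι.isOpenEmbedding.injective
    rw [← Scheme.Hom.comp_apply, Scheme.Hom.resLE_comp_ι, Scheme.Hom.comp_apply, hz, hy']
  have hpt : Spec.map (f ∣_ U).appTop w = Spec.map (g.resLE U T hTU').appTop (T.toScheme.toSpecΓ z) := by
    rw [← Scheme.Hom.comp_apply, ← Scheme.toSpecΓ_naturality, Scheme.Hom.comp_apply, hzu]
    show _ = (c ≫ U.toScheme.isoSpec.hom) w
    simp only [c, Category.assoc, Iso.inv_hom_id, Category.comp_id]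
  obtain ⟨p, hp1, -⟩ := exists_preimage_of_isPullback sq2 w (T.toScheme.toSpecΓ z) hpt
  exact ⟨_, _, _, _, _, inferInstance, hflat, ⟨p, hp1⟩, sq1, inferInstance⟩

end Groth.Agent.Lib.Helper38.FFDescent
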