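import Mathlib.AlgebraicGeometry.Fiber
import Mathlib.AlgebraicGeometry.Morphisms.Flat
import Mathlib.AlgebraicGeometry.Morphisms.UniversallyOpen
import Mathlib.AlgebraicGeometry.ResidueField

/-!
# Points of a fibre product over a point of the base: product of fibres

For `f : X ⟶ Y`, `g : Y' ⟶ Y` and a point `ξ'` of `X ×_Y Y'` over `y`, the point `ξ'` lifts to the
product of the fibres `X_y ×_{κ(y)} Y'_y`, whose projection to `Y'_y` is flat. Consequence: a
maximal point of `X ×_Y Y'` lying over a maximal point of `Y` maps to a maximal point of `Y'`.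
Also: maximal points versus irreducible components.
-/

set_option autoImplicit false
universe u

open CategoryTheory CategoryTheory.Limits AlgebraicGeometry

namespace Groth.Agent.Lib.Helper38.FibreProdLift

section Top

variable {S : Type*} [TopologicalSpace S]

/-- The generic point of an irreducible component has no proper generalization. -/
theorem eq_of_specializes_generic [T0Space S] {Z : Set S} (hZ : Z ∈ irreducibleComponents S)
    {ξ : S} (hξ : IsGenericPoint ξ Z) {η : S} (h : η ⤳ ξ) : η = ξ := by
  have h1 : Z ⊆ closure {η} := by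
    rw [← hξ.def]
    exact closure_minimal (Set.singleton_subset_iff.mpr h.mem_closure) isClosed_closure
  have h2 : closure {η} ⊆ Z := hZ.2 isIrreducible_singleton.closure h1
  have h3 : IsGenericPoint η Z := h2.antisymm h1
  exact h3.eq hξ

/-- The closure of a point without proper generalization is an irreducible component. -/
theorem closure_mem_irreducibleComponents [QuasiSober S] [T0Space S] {ξ : S}
    (hmax : ∀ η : S, η ⤳ ξ → η = ξ) : closure {ξ} ∈ irreducibleComponents S := by
  have hZ' : irreducibleComponent ξ ∈ irreducibleComponents S :=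
    irreducibleComponent_mem_irreducibleComponents ξ
  have hZcl : IsClosed (irreducibleComponent ξ) := isClosed_irreducibleComponent
  have hη : IsGenericPoint hZ'.1.genericPoint (irreducibleComponent ξ) :=
    hZ'.1.isGenericPoint_genericPoint hZcl
  have hspec : hZ'.1.genericPoint ⤳ ξ := hη.specializes mem_irreducibleComponent
  have heq := hmax _ hspec
  rw [heq] at hη
  rw [hη.def]
  exact hZ'

end Top

variable {X Y Y' : Scheme.{u}} (f : X ⟶ Y) (g : Y' ⟶ Y)

/-- The product of the fibres over `y`. -/
noncomputable abbrev W (y : Y) : Scheme.{u} :=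
  pullback (f.fiberToSpecResidueField y) (g.fiberToSpecResidueField y)

/-- The morphism from the product of the fibres to the fibre product. -/
noncomputable def u (y : Y) : W f g y ⟶ pullback f g :=
  pullback.lift (pullback.fst _ _ ≫ f.fiberι y) (pullback.snd _ _ ≫ g.fiberι y) (by
    rw [Category.assoc, Category.assoc, f.fiber_fac, g.fiber_fac, pullback.condition_assoc])

@[reassoc]
theorem u_fst (y : Y) : u f g y ≫ pullback.fst f g = pullback.fst _ _ ≫ f.fiberι y := by
  unfold u; rw [pullback.lift_fst]

@[reassoc]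
theorem u_snd (y : Y) : u f g y ≫ pullback.snd f g = pullback.snd _ _ ≫ g.fiberι y := by
  unfold u; rw [pullback.lift_snd]

/-- Every point of the fibre product lifts to the product of the fibres. -/
theorem exists_u_eq (ξ' : ↥(pullback f g)) :
    ∃ w : ↥(W f g ((pullback.fst f g ≫ f) ξ')), u f g _ w = ξ' := by
  obtain ⟨z, hz⟩ : ∃ z : Spec ((pullback f g).residueField ξ') ⟶ pullback f g,
    z = (pullback f g).fromSpecResidueField ξ' := ⟨_, rfl⟩
  obtain ⟨z₀, hz₀⟩ : ∃ z₀ : Spec ((pullback f g).residueField ξ') ⟶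
      Spec (Y.residueField ((pullback.fst f g ≫ f) ξ')),
      z₀ = Spec.map ((pullback.fst f g ≫ f).residueFieldMap ξ') := ⟨_, rfl⟩
  have hzz : z ≫ pullback.fst f g ≫ f =
      z₀ ≫ Y.fromSpecResidueField ((pullback.fst f g ≫ f) ξ') := by
    rw [hz, hz₀, Scheme.Hom.SpecMap_residueFieldMap_fromSpecResidueField]
  let a : Spec ((pullback f g).residueField ξ') ⟶ f.fiber ((pullback.fst f g ≫ f) ξ') :=
    pullback.lift (z ≫ pullback.fst f g) z₀ (by rw [Category.assoc, hzz])
  let b : Spec ((pullback f g).residueField ξ') ⟶ g.fiber ((pullback.fst f g ≫ f) ξ') :=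
    pullback.lift (z ≫ pullback.snd f g) z₀ (by
      rw [Category.assoc, ← pullback.condition, hzz])
  have ha : a ≫ f.fiberToSpecResidueField _ = z₀ := pullback.lift_snd _ _ _
  have hb : b ≫ g.fiberToSpecResidueField _ = z₀ := pullback.lift_snd _ _ _
  have ha1 : a ≫ f.fiberι _ = z ≫ pullback.fst f g := pullback.lift_fst _ _ _
  have hb1 : b ≫ g.fiberι _ = z ≫ pullback.snd f g := pullback.lift_fst _ _ _
  let c : Spec ((pullback f g).residueField ξ') ⟶ W f g ((pullback.fst f g ≫ f) ξ') :=
    pullback.lift a b (by rw [ha, hb])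
  have hc1 : c ≫ pullback.fst _ _ = a := pullback.lift_fst _ _ _
  have hc2 : c ≫ pullback.snd _ _ = b := pullback.lift_snd _ _ _
  have hcu : c ≫ u f g _ = z := by
    apply pullback.hom_ext
    · rw [Category.assoc, u_fst, reassoc_of% hc1, ha1]
    · rw [Category.assoc, u_snd, reassoc_of% hc2, hb1]
  refine ⟨c (IsLocalRing.closedPoint _), ?_⟩
  rw [← Scheme.Hom.comp_apply, hcu, hz, Scheme.fromSpecResidueField_apply]

theorem exists_u_eq' (ξ' : ↥(pullback f g)) (y : Y) (hy : y = (pullback.fst f g ≫ f) ξ') :
    ∃ w : ↥(W f g y), u f g y w = ξ' := by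
  subst hy
  exact exists_u_eq f g ξ'

/-- A maximal point of `X ×_Y Y'` lying over a maximal point of `Y` maps to a maximal point of
`Y'`. -/
theorem eq_of_specializes_snd (ξ' : ↥(pullback f g))
    (hmax : ∀ ζ : ↥(pullback f g), ζ ⤳ ξ' → ζ = ξ')
    (hymax : ∀ η : Y, η ⤳ (pullback.fst f g ≫ f) ξ' → η = (pullback.fst f g ≫ f) ξ')
    (η' : Y') (hη' : η' ⤳ pullback.snd f g ξ') : η' = pullback.snd f g ξ' := by
  have hgy' : g (pullback.snd f g ξ') = (pullback.fst f g ≫ f) ξ' := by
    rw [← Scheme.Hom.comp_apply, ← pullback.condition]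
  have hgη' : g η' = (pullback.fst f g ≫ f) ξ' := by
    apply hymax
    rw [← hgy']
    exact hη'.map g.continuous
  obtain ⟨y, hy⟩ : ∃ y : Y, y = (pullback.fst f g ≫ f) ξ' := ⟨_, rfl⟩
  obtain ⟨w, hw⟩ := exists_u_eq' f g ξ' y hy
  rw [← hy] at hgη'
  have hsub : Subsingleton (Spec (Y.residueField y)) :=
    inferInstanceAs (Subsingleton (PrimeSpectrum (Y.residueField y)))
  have hflat : Flat (pullback.snd (f.fiberToSpecResidueField y) (g.fiberToSpecResidueField y)) :=
    inferInstance
  have hgen := Flat.generalizingMap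
    (pullback.snd (f.fiberToSpecResidueField y) (g.fiberToSpecResidueField y))
  have hmem : η' ∈ Set.range (g.fiberι y) := by
    rw [g.range_fiberι y]; exact hgη'
  obtain ⟨η'', hη''⟩ := hmem
  have hw2 : g.fiberι y (pullback.snd (f.fiberToSpecResidueField y)
      (g.fiberToSpecResidueField y) w) = pullback.snd f g ξ' := by
    rw [← Scheme.Hom.comp_apply, ← u_snd, Scheme.Hom.comp_apply]
    rw [hw]
  have hspec : η'' ⤳ pullback.snd (f.fiberToSpecResidueField y)
      (g.fiberToSpecResidueField y) w := by
    rw [← (g.fiberι y).isEmbedding.isInducing.specializes_iff, hη'', hw2]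
    exact hη'
  obtain ⟨ω, hω, hωη⟩ := hgen hspec
  have h1 : u f g y ω ⤳ ξ' := by
    have := hω.map (u f g y).continuous
    rw [hw] at this
    exact this
  have h2 := hmax _ h1
  rw [← hη'', ← hωη, ← Scheme.Hom.comp_apply, ← u_snd, Scheme.Hom.comp_apply, h2]

end Groth.Agent.Lib.Helper38.FibreProdLift
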