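import Mathlib.AlgebraicGeometry.ResidueField
import Mathlib.AlgebraicGeometry.Morphisms.Immersion

/-!
# Points of the spectrum of a field
-/

set_option autoImplicit false
universe u

open CategoryTheory CategoryTheory.Limits AlgebraicGeometry

namespace Groth.Agent.Lib.Helper38.FieldPt

/-- If `X ≅ Spec k` for a field `k`, the canonical morphism `Spec κ(x) ⟶ X` is an isomorphism. -/
theorem isIso_fromSpecResidueField {X : Scheme.{u}} (k : Type u) [Field k]
    (e : X ≅ Spec (CommRingCat.of k)) (x : X) : IsIso (X.fromSpecResidueField x) := by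
  have hsub : Subsingleton X := by
    have : Subsingleton (Spec (CommRingCat.of k)) :=
      inferInstanceAs (Subsingleton (PrimeSpectrum k))
    exact (e.hom.homeomorph).injective.subsingleton
  have hx : e.inv (IsLocalRing.closedPoint k) = x := Subsingleton.elim _ _
  subst hx
  have h1 := Scheme.descResidueField_stalkClosedPointTo_fromSpecResidueField k X e.inv
  set ψ := Scheme.descResidueField (Scheme.stalkClosedPointTo e.inv) with hψ
  obtain ⟨φ, hφ⟩ : ∃ φ : CommRingCat.of k ⟶ X.residueField (e.inv (IsLocalRing.closedPoint k)),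
      Spec.map φ = X.fromSpecResidueField _ ≫ e.hom := ⟨Spec.preimage _, Spec.map_preimage _⟩
  have h2 : φ ≫ ψ = 𝟙 _ := by
    apply Spec.map_injective
    rw [Spec.map_comp, hφ, ← Category.assoc, h1, e.inv_hom_id, Spec.map_id]
  have hbij : Function.Bijective ψ.hom := by
    refine ⟨ψ.hom.injective, fun a => ⟨φ.hom a, ?_⟩⟩
    have := congrArg (fun f => f.hom a) h2
    simpa using this
  have hψiso : IsIso ψ := by
    have : ψ = (RingEquiv.ofBijective ψ.hom hbij).toCommRingCatIso.hom := by
      ext a; rfl
    rw [this]
    infer_instance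
  have : X.fromSpecResidueField (e.inv (IsLocalRing.closedPoint k)) =
      inv (Spec.map ψ) ≫ e.inv := by
    rw [IsIso.eq_inv_comp, h1]
  rw [this]
  infer_instance

end Groth.Agent.Lib.Helper38.FieldPt
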