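import Mathlib

set_option autoImplicit false
universe u
open TopologicalSpace Set

namespace Groth.Agent.Lib.Helper38.FinA

/-- a proper closed subset of an irreducible space of finite dimension `d` has dimension `< d` -/
theorem dim_lt_of_closed_ne {Z : Type u} [TopologicalSpace Z] [IrreducibleSpace Z] (Y : Set Z)
    (hY : IsClosed Y) (hne : Y ≠ Set.univ) (d : ℕ) (hd : topologicalKrullDim Z = (d : WithBot ℕ∞)) :
    topologicalKrullDim ↥Y < (d : WithBot ℕ∞) := by
  have hcm : IsClosedMap (Subtype.val : ↥Y → Z) := hY.isClosedEmbedding_subtypeVal.isClosedMap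
  let F : IrreducibleCloseds ↥Y → IrreducibleCloseds Z := fun T =>
    ⟨Subtype.val '' (T : Set ↥Y), T.isIrreducible.image _ continuous_subtype_val.continuousOn,
      hcm _ T.isClosed⟩
  have hF : StrictMono F := by
    intro T T' hlt
    have hsub : (T : Set ↥Y) ⊂ (T' : Set ↥Y) := hlt
    show (Subtype.val '' (T : Set ↥Y)) ⊂ (Subtype.val '' (T' : Set ↥Y))
    refine ⟨Set.image_mono hsub.subset, fun hcon => hsub.2 ?_⟩
    intro y hy
    obtain ⟨y', hy', hyy'⟩ := hcon ⟨y, hy, rfl⟩
    rwa [← Subtype.val_injective hyy']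
  have key : ∀ p : LTSeries (IrreducibleCloseds ↥Y), p.length + 1 ≤ d := by
    intro p
    let top : IrreducibleCloseds Z := ⟨Set.univ, IrreducibleSpace.isIrreducible_univ Z, isClosed_univ⟩
    have hlt : (p.map F hF).last < top := by
      refine lt_of_le_of_ne (show ((p.map F hF).last : Set Z) ⊆ Set.univ from Set.subset_univ _) ?_
      intro heq
      apply hne
      have h1 : ((p.map F hF).last : Set Z) = Set.univ := congrArg (fun T : IrreducibleCloseds Z => (T : Set Z)) heq
      have h2 : ((p.map F hF).last : Set Z) ⊆ Y := by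
        rw [LTSeries.last_map]
        rintro _ ⟨y, -, rfl⟩
        exact y.2
      rw [h1] at h2
      exact Set.eq_univ_of_univ_subset h2
    have h3 := Order.LTSeries.length_le_krullDim ((p.map F hF).snoc top hlt)
    rw [RelSeries.snoc_length] at h3
    have h4 : (((p.map F hF).length + 1 : ℕ) : WithBot ℕ∞) ≤ (d : WithBot ℕ∞) := by
      rw [← hd]; exact h3
    have h5 : (p.map F hF).length + 1 ≤ d := by exact_mod_cast h4
    simpa using h5
  unfold topologicalKrullDim Order.krullDim
  rcases Nat.eq_zero_or_pos d with rfl | hdpos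
  · have : (⨆ p : LTSeries (IrreducibleCloseds ↥Y), (p.length : WithBot ℕ∞)) ≤ ⊥ :=
      iSup_le fun p => absurd (key p) (by omega)
    exact lt_of_le_of_lt this (WithBot.bot_lt_coe _)
  · have : (⨆ p : LTSeries (IrreducibleCloseds ↥Y), (p.length : WithBot ℕ∞)) ≤ ((d - 1 : ℕ) : WithBot ℕ∞) :=
      iSup_le fun p => by
        have := key p
        exact_mod_cast (by omega : p.length ≤ d - 1)
    refine lt_of_le_of_lt this ?_
    exact_mod_cast (by omega : d - 1 < d)

end Groth.Agent.Lib.Helper38.FinA
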