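import Groth.Agent.Lib.Helper38.FinA
import Groth.Agent.Lib.Helper38.CutB
import Groth.Agent.Lib.Helper38.ConstE
import Groth.Agent.S4717
import Groth.Agent.S10829
import Groth.Agent.S9705

set_option autoImplicit false
set_option linter.style.haveILetI false
universe u
open CategoryTheory CategoryTheory.Limits AlgebraicGeometry TopologicalSpace Opposite
  HomogeneousLocalization MvPolynomial

namespace Groth.Agent.Lib.Helper38.FinB

open Groth.Agent.Lib.Ample Groth.Agent.Lib.QCoh Groth.Agent.Lib.Proj Groth.Agent.Lib.Proj.ToProj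
  Groth.Agent.Lib.Proj.ToPn Groth.Agent.Lib.Proj.PullSec Groth.Agent.Lib.Proj.QuotCompare
  Groth.Agent.Lib.Proj.PnUP Groth.Agent.Lib.Proj.PnUnique
  Groth.Agent.Lib.Helper38.SepPts Groth.Agent.Lib.Helper38.PicPn Scheme.Modules Twist CohB1

variable (k : Type u) [Field k] [Infinite k]

/-- **Noether normalization for closed subschemes of `P^n_k`** (`k` infinite): a finite surjective
morphism to `P^d_k`, `d = dim X`, given by `d + 1` linear forms. -/
theorem exists_finite_surjective (X : Scheme.{u}) (n : ℕ)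
    (ι : X ⟶ Proj (CohB1.polyGrading n k)) [IsClosedImmersion ι] (d : ℕ)
    (hd : topologicalKrullDim X = (d : WithBot ℕ∞)) :
    ∃ π : X ⟶ Proj (CohB1.polyGrading d k),
      π ≫ CohB1.ProjSpace.toSpec d k = ι ≫ CohB1.ProjSpace.toSpec n k ∧
      IsFinite π ∧ Surjective π := by
  obtain ⟨h, hh⟩ := CutB.exists_forms_scheme k n X ι (d + 1)
    (by rw [hd]; exact_mod_cast Nat.lt_succ_self d)
  have hO1 := isInvertible_O1 n k
  have hgen : ∀ j, CohB1.genLocus ((Scheme.Modules.pullback ι).obj (twist (CohB1.polyGrading n k) 1))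
      (pullHom ι (sectHom (h j))) =
      ι ⁻¹ᵁ Proj.basicOpen (CohB1.polyGrading n k) ((h j : (CohB1.polyGrading n k) 1) :
        MvPolynomial (Fin (n + 1)) k) := fun j => by
    have h2 := genLocus_pullHom ι hO1 (sectHom (h j))
    have h3 := GenUP.genLocus_sectHom_one (CohB1.polyGrading n k) (PnUP.hcov n k) (h j)
    exact h2.trans (congrArg (fun W => ι ⁻¹ᵁ W) h3)
  have hcov : ∀ x : X, ∃ j, x ∈ CohB1.genLocus
      ((Scheme.Modules.pullback ι).obj (twist (CohB1.polyGrading n k) 1))
      (pullHom ι (sectHom (h j))) := by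
    intro x
    obtain ⟨j, hj⟩ := hh x
    exact ⟨j, by rw [hgen j]; exact hj⟩
  obtain ⟨π, hπq, τ, hτ⟩ := exists_toPn_iso d (ι ≫ CohB1.ProjSpace.toSpec n k)
    (fun j => pullHom ι (sectHom (h j))) hcov
  refine ⟨π, hπq, ?_⟩
  -- properness
  haveI : IsProper (CohB1.ProjSpace.toSpec n k) := Groth.Agent.S9705.isProper_toSpec n k
  haveI : IsProper (CohB1.ProjSpace.toSpec d k) := Groth.Agent.S9705.isProper_toSpec d k
  haveI : IsSeparated (CohB1.ProjSpace.toSpec d k) := IsProper.toIsSeparated
  haveI hprop : IsProper π := by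
    haveI : IsProper ι := inferInstance
    haveI h1 : IsProper (ι ≫ CohB1.ProjSpace.toSpec n k) :=
      MorphismProperty.comp_mem _ ι (CohB1.ProjSpace.toSpec n k) inferInstance
        (Groth.Agent.S9705.isProper_toSpec n k)
    have h2 : IsProper (π ≫ CohB1.ProjSpace.toSpec d k) := by
      rw [hπq]; exact h1
    have h3 : IsSeparated (CohB1.ProjSpace.toSpec d k) := IsProper.toIsSeparated
    exact @IsProper.of_comp _ _ _ π (CohB1.ProjSpace.toSpec d k) h2 h3
  -- affineness
  haveI haff : IsAffineHom π := by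
    apply isAffineHom_of_forall_exists_isAffineOpen
    intro y
    have h1 : y ∈ (⊤ : (Proj (CohB1.polyGrading d k)).Opens) := trivial
    rw [← iSup_basicOpen_X d k] at h1
    obtain ⟨j, hj⟩ := Opens.mem_iSup.1 h1
    refine ⟨Proj.basicOpen (CohB1.polyGrading d k) (MvPolynomial.X j : MvPolynomial (Fin (d + 1)) k),
      hj, Proj.isAffineOpen_basicOpen _ _ (X_mem d k j) one_pos, ?_⟩
    have e1 := genLocus_eq_preimage d (fun j => pullHom ι (sectHom (h j))) π τ hτ j
    have e2 : π ⁻¹ᵁ Proj.basicOpen (CohB1.polyGrading d k)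
        (MvPolynomial.X j : MvPolynomial (Fin (d + 1)) k) =
        ι ⁻¹ᵁ Proj.basicOpen (CohB1.polyGrading n k) ((h j : (CohB1.polyGrading n k) 1) :
          MvPolynomial (Fin (n + 1)) k) := e1.symm.trans (hgen j)
    rw [e2]
    exact (Proj.isAffineOpen_basicOpen _ _ (h j).2 one_pos).preimage ι
  haveI hfin : IsFinite π := IsFinite.iff_isProper_and_isAffineHom.2 ⟨hprop, haff⟩
  refine ⟨hfin, ?_⟩
  -- surjectivity, by dimension
  haveI : IsLocallyNoetherian (Proj (CohB1.polyGrading n k)) := by
    haveI : IsNoetherian (Proj (CohB1.polyGrading n k)) :=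
      Groth.Agent.S2357.result (CohB1.polyGrading n k)
    infer_instance
  haveI : IsLocallyNoetherian (Proj (CohB1.polyGrading d k)) := by
    haveI : IsNoetherian (Proj (CohB1.polyGrading d k)) :=
      Groth.Agent.S2357.result (CohB1.polyGrading d k)
    infer_instance
  haveI : IsLocallyNoetherian X := LocallyOfFiniteType.isLocallyNoetherian ι
  have hdim := (Groth.Agent.S4717.result π).1
  haveI : IsIntegral (Proj (CohB1.polyGrading d k)) := isIntegral_proj k d
  constructor
  by_contra hns
  have hne : Set.range π.base ≠ Set.univ := fun h => hns (Set.range_eq_univ.1 h)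
  have hlt := FinA.dim_lt_of_closed_ne (Set.range π.base) π.isClosedMap.isClosed_range hne d
    (Groth.Agent.S10829.result k d)
  rw [← hdim, hd] at hlt
  exact lt_irrefl _ hlt

end Groth.Agent.Lib.Helper38.FinB
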