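import Mathlib

set_option autoImplicit false
universe u

open CategoryTheory CategoryTheory.Limits AlgebraicGeometry Opposite

namespace Groth.Agent.Lib.Helper38.FpqcGlue

/-- Representable functors are separated for fpqc covering sieves. -/
theorem hom_ext_of_mem_fpqc {Y Z : Scheme.{u}} (R : Sieve Y) (hR : R ∈ Scheme.fpqcTopology Y)
    (a a' : Y ⟶ Z) (h : ∀ ⦃T : Scheme.{u}⦄ (t : T ⟶ Y), R t → t ≫ a = t ≫ a') : a = a' := by
  have hsh := GrothendieckTopology.Subcanonical.isSheaf_of_isRepresentable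
    (J := Scheme.fpqcTopology) (yoneda.obj Z)
  exact ((hsh R hR).isSeparatedFor).ext (t₁ := a) (t₂ := a') (fun T t ht => h t ht)

/-- Gluing morphisms along an fpqc covering sieve. -/
theorem existsUnique_glue {Y Z : Scheme.{u}} (R : Sieve Y) (hR : R ∈ Scheme.fpqcTopology Y)
    (x : ∀ ⦃T : Scheme.{u}⦄ (t : T ⟶ Y), R t → (T ⟶ Z))
    (hx : ∀ ⦃T T' : Scheme.{u}⦄ (g : T' ⟶ T) (t : T ⟶ Y) (ht : R t),
      x (g ≫ t) (R.downward_closed ht g) = g ≫ x t ht) :
    ∃! a : Y ⟶ Z, ∀ ⦃T : Scheme.{u}⦄ (t : T ⟶ Y) (ht : R t), t ≫ a = x t ht := by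
  have hsh := GrothendieckTopology.Subcanonical.isSheaf_of_isRepresentable
    (J := Scheme.fpqcTopology) (yoneda.obj Z)
  let xf : Presieve.FamilyOfElements (yoneda.obj Z) (R : Presieve Y) := fun T t ht => x t ht
  have hxf : xf.Compatible := by
    rw [Presieve.compatible_iff_sieveCompatible]
    intro T T' t g ht
    exact hx g t ht
  obtain ⟨a, ha, hau⟩ := hsh R hR xf hxf
  refine ⟨a, fun T t ht => ha t ht, fun a' ha' => hau a' (fun T t ht => ha' t ht)⟩

/-- The pullback of the sieve generated by an fpqc covering family is an fpqc covering sieve. -/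
theorem pullback_ofArrows_mem {S : Scheme.{u}} {ι : Type u} {X : ι → Scheme.{u}}
    (f : ∀ i, X i ⟶ S) (hf : Presieve.ofArrows X f ∈ Scheme.fpqcPrecoverage S)
    {U : Scheme.{u}} (q : U ⟶ S) :
    Sieve.pullback q (Sieve.ofArrows X f) ∈ Scheme.fpqcTopology U :=
  Scheme.fpqcTopology.pullback_stable q (Precoverage.generate_mem_toGrothendieck hf)

theorem mem_pullback_ofArrows_iff {S : Scheme.{u}} {ι : Type u} {X : ι → Scheme.{u}}
    (f : ∀ i, X i ⟶ S) {U T : Scheme.{u}} (q : U ⟶ S) (t : T ⟶ U) :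
    Sieve.pullback q (Sieve.ofArrows X f) t ↔ ∃ (i : ι) (y : T ⟶ X i), t ≫ q = y ≫ f i :=
  Sieve.mem_ofArrows_iff _ _ _

end Groth.Agent.Lib.Helper38.FpqcGlue
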