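import Groth.Agent.Lib.Helper40.PullbackPts
import Mathlib

/-!
# Closedness of locally closed images of homomorphisms of group schemes over a field
-/

set_option autoImplicit false
universe u

open CategoryTheory MonoidalCategory CartesianMonoidalCategory MonObj GrpObj AlgebraicGeometry

namespace Groth.Agent.Lib.Helper38.GrpClosure

variable (K : Type u) [Field K]

/-- Projections `G ⊗ P ⟶ G` over a field are open maps. -/
lemma isOpenMap_fst (G P : Over (Spec (CommRingCat.of K))) : IsOpenMap (fst G P).left.base := by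
  have : Subsingleton (Spec (CommRingCat.of K)) :=
    inferInstanceAs (Subsingleton (PrimeSpectrum K))
  have huo : UniversallyOpen P.hom := inferInstance
  have hfst : (fst G P).left = Limits.pullback.fst G.hom P.hom := rfl
  rw [hfst]
  exact (Limits.pullback.fst G.hom P.hom).isOpenMap

variable {K} {H G : Over (Spec (CommRingCat.of K))} [GrpObj H] [GrpObj G] (ψ : H ⟶ G) [IsMonHom ψ]

/-- `W · cl(W) ⊆ cl(W)` for `W` the image of a homomorphism, on `P`-points. -/
lemma mul_mem_closure {P : Over (Spec (CommRingCat.of K))} (τ : P.left) (a : P ⟶ H) (z : P ⟶ G)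
    (hz : z.left.base τ ∈ closure (Set.range ψ.left.base)) :
    ((a ≫ ψ) * z).left.base τ ∈ closure (Set.range ψ.left.base) := by
  rw [mem_closure_iff]
  intro N hN hxN
  let ρ : G ⊗ P ⟶ G := (snd G P ≫ a ≫ ψ) * fst G P
  have hM : IsOpen ((fst G P).left.base '' (ρ.left.base ⁻¹' N)) :=
    isOpenMap_fst K G P _ (hN.preimage ρ.left.base.hom.continuous)
  have hzM : z.left.base τ ∈ (fst G P).left.base '' (ρ.left.base ⁻¹' N) := by
    refine ⟨(lift z (𝟙 P)).left.base τ, ?_, ?_⟩
    · have e : lift z (𝟙 P) ≫ ρ = (a ≫ ψ) * z := by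
        show lift z (𝟙 P) ≫ ((snd G P ≫ a ≫ ψ) * fst G P) = _
        rw [MonObj.comp_mul, lift_fst, ← Category.assoc, lift_snd, Category.id_comp]
      have e' := congrArg (fun f => f.left.base τ) e
      simp only [Over.comp_left, Scheme.Hom.comp_base, TopCat.comp_app] at e'
      show ρ.left.base ((lift z (𝟙 P)).left.base τ) ∈ N
      rw [e']
      exact hxN
    · have e : lift z (𝟙 P) ≫ fst G P = z := lift_fst _ _
      have e' := congrArg (fun f => f.left.base τ) e
      simp only [Over.comp_left, Scheme.Hom.comp_base, TopCat.comp_app] at e'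
      exact e'
  obtain ⟨p, ⟨ξ, hξN, hξ⟩, ⟨y', hy'⟩⟩ := mem_closure_iff.mp hz _ hM hzM
  obtain ⟨z1, hz1, -⟩ := Groth.Agent.Lib.Helper40.PullbackPts.exists_preimage_of_isPullback_over
    (IsPullback.of_hasPullback (fst G P) ψ) ξ y' (hξ.trans hy'.symm)
  let p1 := Limits.pullback.fst (fst G P) ψ
  let q1 := Limits.pullback.snd (fst G P) ψ
  have e1 : p1 ≫ fst G P = q1 ≫ ψ := Limits.pullback.condition
  have e2 : p1 ≫ ρ = ((p1 ≫ snd G P ≫ a) * q1) ≫ ψ := by
    show p1 ≫ ((snd G P ≫ a ≫ ψ) * fst G P) = _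
    rw [MonObj.comp_mul, e1, MonObj.mul_comp]
    simp only [Category.assoc]
  have e3 := congrArg (fun f => f.left.base z1) e2
  simp only [Over.comp_left, Scheme.Hom.comp_base, TopCat.comp_app] at e3
  refine ⟨ρ.left.base ξ, hξN, ?_⟩
  rw [← hz1]
  exact ⟨_, e3.symm⟩


/-- A locally closed image of a homomorphism of group schemes over a field is closed. -/
theorem isClosed_range_of_isLocallyClosed_range
    (hlc : IsLocallyClosed (Set.range ψ.left.base)) : IsClosed (Set.range ψ.left.base) := by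
  apply isClosed_of_closure_subset
  intro r hr
  have hO : IsOpen (coborder (Set.range ψ.left.base)) := hlc.isOpen_coborder
  have hWO : closure (Set.range ψ.left.base) ∩ coborder (Set.range ψ.left.base) =
      Set.range ψ.left.base := closure_inter_coborder
  let K' : Over (Spec (CommRingCat.of K)) := Over.mk (G.left.fromSpecResidueField r ≫ G.hom)
  let gK : K' ⟶ G := Over.homMk (G.left.fromSpecResidueField r) rfl
  have hpt : ∀ t : K'.left, gK.left.base t = r := by
    intro t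
    exact Scheme.fromSpecResidueField_apply r t
  have hne : Nonempty K'.left := by
    show Nonempty (Spec (G.left.residueField r))
    infer_instance
  obtain ⟨pt⟩ := hne
  -- `(m, t) ↦ m⁻¹ r(t)`
  let ρ : G ⊗ K' ⟶ G := (fst G K')⁻¹ * (snd G K' ≫ gK)
  have hM : IsOpen ((fst G K').left.base '' (ρ.left.base ⁻¹' coborder (Set.range ψ.left.base))) :=
    isOpenMap_fst K G K' _ (hO.preimage ρ.left.base.hom.continuous)
  have hrM : r ∈ (fst G K').left.base '' (ρ.left.base ⁻¹' coborder (Set.range ψ.left.base)) := by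
    refine ⟨(lift gK (𝟙 K')).left.base pt, ?_, ?_⟩
    · have e : lift gK (𝟙 K') ≫ ρ = (toUnit K' ≫ η[H]) ≫ ψ := by
        show lift gK (𝟙 K') ≫ ((fst G K')⁻¹ * (snd G K' ≫ gK)) = _
        rw [MonObj.comp_mul, GrpObj.comp_inv, lift_fst, ← Category.assoc, lift_snd,
          Category.id_comp, inv_mul_cancel, CategoryTheory.Hom.one_def, Category.assoc,
          IsMonHom.one_hom]
      have e' := congrArg (fun f => f.left.base pt) e
      simp only [Over.comp_left, Scheme.Hom.comp_base, TopCat.comp_app] at e'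
      show ρ.left.base ((lift gK (𝟙 K')).left.base pt) ∈ coborder (Set.range ψ.left.base)
      rw [e']
      exact subset_coborder ⟨_, rfl⟩
    · have e : lift gK (𝟙 K') ≫ fst G K' = gK := lift_fst _ _
      have e' := congrArg (fun f => f.left.base pt) e
      simp only [Over.comp_left, Scheme.Hom.comp_base, TopCat.comp_app] at e'
      rw [e']
      exact hpt _
  obtain ⟨p, ⟨ξ, hξO, hξ⟩, ⟨y', hy'⟩⟩ := mem_closure_iff.mp hr _ hM hrM
  obtain ⟨z1, hz1, -⟩ := Groth.Agent.Lib.Helper40.PullbackPts.exists_preimage_of_isPullback_over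
    (IsPullback.of_hasPullback (fst G K') ψ) ξ y' (hξ.trans hy'.symm)
  let p1 := Limits.pullback.fst (fst G K') ψ
  let q1 := Limits.pullback.snd (fst G K') ψ
  have e1 : p1 ≫ fst G K' = q1 ≫ ψ := Limits.pullback.condition
  -- `o = m⁻¹ r₁ = ψ(q1⁻¹) r₁`
  have e2 : p1 ≫ ρ = ((q1)⁻¹ ≫ ψ) * (p1 ≫ snd G K' ≫ gK) := by
    show p1 ≫ ((fst G K')⁻¹ * (snd G K' ≫ gK)) = _
    rw [MonObj.comp_mul, GrpObj.comp_inv, e1, GrpObj.inv_comp]
  have hr1 : (p1 ≫ snd G K' ≫ gK).left.base z1 = r := by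
    simp only [Over.comp_left, Scheme.Hom.comp_base, TopCat.comp_app]
    exact hpt _
  have hcl : (p1 ≫ ρ).left.base z1 ∈ closure (Set.range ψ.left.base) := by
    rw [e2]
    exact mul_mem_closure ψ z1 (q1)⁻¹ (p1 ≫ snd G K' ≫ gK) (by rw [hr1]; exact hr)
  have hcob : (p1 ≫ ρ).left.base z1 ∈ coborder (Set.range ψ.left.base) := by
    simp only [Over.comp_left, Scheme.Hom.comp_base, TopCat.comp_app]
    rw [hz1]
    exact hξO
  have hW : (p1 ≫ ρ).left.base z1 ∈ Set.range ψ.left.base := by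
    rw [← hWO]
    exact ⟨hcl, hcob⟩
  obtain ⟨y₃, hy₃⟩ := hW
  have gen : ∀ {Q : Over (Spec (CommRingCat.of K))} (q : Q ⟶ Limits.pullback (fst G K') ψ),
      q ≫ p1 ≫ ρ = (q ≫ q1 ≫ ψ)⁻¹ * (q ≫ p1 ≫ snd G K' ≫ gK) := by
    intro Q q
    rw [e2, MonObj.comp_mul, GrpObj.inv_comp, GrpObj.comp_inv]
  obtain ⟨z2, hz2, -⟩ := Groth.Agent.Lib.Helper40.PullbackPts.exists_preimage_of_isPullback_over
    (IsPullback.of_hasPullback (p1 ≫ ρ) ψ) z1 y₃ hy₃.symm
  let p2 := Limits.pullback.fst (p1 ≫ ρ) ψ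
  let q2 := Limits.pullback.snd (p1 ≫ ρ) ψ
  have e3 : p2 ≫ p1 ≫ ρ = q2 ≫ ψ := Limits.pullback.condition
  have e4 : p2 ≫ p1 ≫ snd G K' ≫ gK = ((p2 ≫ q1) * q2) ≫ ψ := by
    have e5 : p2 ≫ p1 ≫ ρ = (p2 ≫ q1 ≫ ψ)⁻¹ * (p2 ≫ p1 ≫ snd G K' ≫ gK) := gen p2
    rw [MonObj.mul_comp, ← e3, e5, Category.assoc]
    group
  have e6 := congrArg (fun f => f.left.base z2) e4
  simp only [Over.comp_left, Scheme.Hom.comp_base, TopCat.comp_app] at e6
  refine ⟨_, e6.symm.trans ?_⟩
  rw [hz2]
  simp only [Over.comp_left, Scheme.Hom.comp_base, TopCat.comp_app] at hr1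
  exact hr1

end Groth.Agent.Lib.Helper38.GrpClosure
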