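import Groth.Prelude.Def_Grpd
import Mathlib.AlgebraicGeometry.PullbackCarrier
import Mathlib.AlgebraicGeometry.Morphisms.QuasiFinite

set_option autoImplicit false
universe u

open CategoryTheory CategoryTheory.Limits AlgebraicGeometry

namespace Groth.Agent.Lib.Helper38.GrpdLib

variable {S : Scheme.{u}} (G : Grpd.GroupoidScheme S)

theorem c_s : G.c ≫ G.s = pullback.snd G.s G.t ≫ G.s := by
  have h := G.comp_s (pullback.fst G.s G.t) (pullback.snd G.s G.t) pullback.condition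
  have hid : pullback.lift (pullback.fst G.s G.t) (pullback.snd G.s G.t) pullback.condition =
      𝟙 _ := by
    apply pullback.hom_ext <;> simp
  rw [hid, Category.id_comp] at h
  exact h

theorem c_t : G.c ≫ G.t = pullback.fst G.s G.t ≫ G.t := by
  have h := G.comp_t (pullback.fst G.s G.t) (pullback.snd G.s G.t) pullback.condition
  have hid : pullback.lift (pullback.fst G.s G.t) (pullback.snd G.s G.t) pullback.condition =
      𝟙 _ := by
    apply pullback.hom_ext <;> simp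
  rw [hid, Category.id_comp] at h
  exact h

/-- Composition on points: for `a b : R` with `s a = t b` there is `r` with `s r = s b`, `t r = t a`. -/
theorem exists_comp_point (a b : G.R) (h : G.s a = G.t b) :
    ∃ r : G.R, G.s r = G.s b ∧ G.t r = G.t a := by
  obtain ⟨p, hp1, hp2⟩ := Scheme.Pullback.exists_preimage_pullback (f := G.s) (g := G.t) a b h
  refine ⟨G.c p, ?_, ?_⟩
  · rw [← Scheme.Hom.comp_apply, c_s, Scheme.Hom.comp_apply, hp2]
  · rw [← Scheme.Hom.comp_apply, c_t, Scheme.Hom.comp_apply, hp1]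

theorem s_i_apply (a : G.R) : G.s (G.i a) = G.t a := by
  rw [← Scheme.Hom.comp_apply, G.i_s]

theorem t_i_apply (a : G.R) : G.t (G.i a) = G.s a := by
  rw [← Scheme.Hom.comp_apply, G.i_t]

theorem s_e_apply (x : G.U) : G.s (G.e x) = x := by
  rw [← Scheme.Hom.comp_apply, G.e_s]
  rfl

theorem t_e_apply (x : G.U) : G.t (G.e x) = x := by
  rw [← Scheme.Hom.comp_apply, G.e_t]
  rfl

section TPoints

variable {G} {T : Scheme.{u}}

/-- Composition of `T`-valued arrows. -/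
noncomputable def mul (α β : T ⟶ G.R) (h : α ≫ G.s = β ≫ G.t) : T ⟶ G.R :=
  pullback.lift α β h ≫ G.c

theorem mul_s (α β : T ⟶ G.R) (h : α ≫ G.s = β ≫ G.t) : mul α β h ≫ G.s = β ≫ G.s :=
  G.comp_s α β h

theorem mul_t (α β : T ⟶ G.R) (h : α ≫ G.s = β ≫ G.t) : mul α β h ≫ G.t = α ≫ G.t :=
  G.comp_t α β h

theorem mul_congr {α α' β β' : T ⟶ G.R} (hα : α = α') (hβ : β = β') (h : α ≫ G.s = β ≫ G.t) :
    mul α β h = mul α' β' (by rw [← hα, ← hβ]; exact h) := by
  subst hα hβ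
  rfl

theorem mul_assoc (α β γ : T ⟶ G.R) (h₁ : α ≫ G.s = β ≫ G.t) (h₂ : β ≫ G.s = γ ≫ G.t) :
    mul (mul α β h₁) γ ((mul_s α β h₁).trans h₂) =
      mul α (mul β γ h₂) (h₁.trans (mul_t β γ h₂).symm) :=
  G.assoc α β γ h₁ h₂

theorem mul_e (α : T ⟶ G.R) (ε : T ⟶ G.R) (hε : ε = α ≫ G.s ≫ G.e) :
    mul α ε (by rw [hε, Category.assoc, Category.assoc, G.e_t, Category.comp_id]) = α := by
  subst hε
  exact G.comp_e α

theorem e_mul (α : T ⟶ G.R) (ε : T ⟶ G.R) (hε : ε = α ≫ G.t ≫ G.e) :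
    mul ε α (by rw [hε, Category.assoc, Category.assoc, G.e_s, Category.comp_id]) = α := by
  subst hε
  exact G.e_comp α

theorem mul_i (α : T ⟶ G.R) :
    mul α (α ≫ G.i) (by rw [Category.assoc, G.i_t]) = α ≫ G.t ≫ G.e :=
  G.comp_i α

theorem i_mul (α : T ⟶ G.R) :
    mul (α ≫ G.i) α (by rw [Category.assoc, G.i_s]) = α ≫ G.s ≫ G.e :=
  G.i_comp α

theorem comp_c (γ : T ⟶ pullback G.s G.t) :
    γ ≫ G.c = mul (γ ≫ pullback.fst G.s G.t) (γ ≫ pullback.snd G.s G.t)
      (by rw [Category.assoc, Category.assoc, pullback.condition]) := by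
  unfold mul
  congr 1
  apply pullback.hom_ext
  · rw [pullback.lift_fst]
  · rw [pullback.lift_snd]

theorem comp_mul {T' : Scheme.{u}} (f : T' ⟶ T) (α β : T ⟶ G.R) (h : α ≫ G.s = β ≫ G.t) :
    f ≫ mul α β h = mul (f ≫ α) (f ≫ β) (by rw [Category.assoc, Category.assoc, h]) := by
  unfold mul
  rw [← Category.assoc]
  congr 1
  apply pullback.hom_ext
  · rw [Category.assoc, pullback.lift_fst, pullback.lift_fst]
  · rw [Category.assoc, pullback.lift_snd, pullback.lift_snd]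

/-- `(a⁻¹ a) b = b`. -/
theorem i_mul_mul (α β : T ⟶ G.R) (h : α ≫ G.s = β ≫ G.t) :
    mul (α ≫ G.i) (mul α β h) (by rw [Category.assoc, G.i_s, mul_t]) = β := by
  have h1 := mul_assoc (α ≫ G.i) α β (by rw [Category.assoc, G.i_s]) h
  rw [← h1]
  have h2 : mul (α ≫ G.i) α (by rw [Category.assoc, G.i_s]) = β ≫ G.t ≫ G.e := by
    rw [i_mul, ← Category.assoc, h, Category.assoc]
  rw [mul_congr h2 rfl]
  exact e_mul β _ rfl

/-- `a (a⁻¹ b) = b` when `t a = t b`. -/
theorem mul_i_mul (α β : T ⟶ G.R) (h : α ≫ G.t = β ≫ G.t) :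
    mul α (mul (α ≫ G.i) β (by rw [Category.assoc, G.i_s, h]))
      (by rw [mul_t, Category.assoc, G.i_t]) = β := by
  have h1 := mul_assoc α (α ≫ G.i) β (by rw [Category.assoc, G.i_t])
    (by rw [Category.assoc, G.i_s, h])
  rw [← h1]
  have h2 : mul α (α ≫ G.i) (by rw [Category.assoc, G.i_t]) = β ≫ G.t ≫ G.e := by
    rw [mul_i, ← Category.assoc, h, Category.assoc]
  rw [mul_congr h2 rfl]
  exact e_mul β _ rfl

/-- `(a b⁻¹) b = a` when `s a = s b`. -/
theorem mul_i_mul' (α β : T ⟶ G.R) (h : α ≫ G.s = β ≫ G.s) :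
    mul (mul α (β ≫ G.i) (by rw [Category.assoc, G.i_t, h])) β
      (by rw [mul_s, Category.assoc, G.i_s]) = α := by
  rw [mul_assoc α (β ≫ G.i) β (by rw [Category.assoc, G.i_t, h]) (by rw [Category.assoc, G.i_s])]
  have h2 : mul (β ≫ G.i) β (by rw [Category.assoc, G.i_s]) = α ≫ G.s ≫ G.e := by
    rw [i_mul, ← Category.assoc, ← h, Category.assoc]
  rw [mul_congr rfl h2]
  exact mul_e α _ rfl

/-- `(a b) b⁻¹ = a`. -/
theorem mul_mul_i (α β : T ⟶ G.R) (h : α ≫ G.s = β ≫ G.t) :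
    mul (mul α β h) (β ≫ G.i) (by rw [mul_s, Category.assoc, G.i_t]) = α := by
  rw [mul_assoc α β (β ≫ G.i) h (by rw [Category.assoc, G.i_t])]
  have h2 : mul β (β ≫ G.i) (by rw [Category.assoc, G.i_t]) = α ≫ G.s ≫ G.e := by
    rw [mul_i, ← Category.assoc, ← h, Category.assoc]
  rw [mul_congr rfl h2]
  exact mul_e α _ rfl

end TPoints

end Groth.Agent.Lib.Helper38.GrpdLib
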