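import Groth.Agent.Lib.Helper38.HTopV
import Mathlib.AlgebraicGeometry.Sites.SheafQuasiCompact
import Mathlib.AlgebraicGeometry.Sites.Fpqc

set_option autoImplicit false
universe w w' v u

open CategoryTheory CategoryTheory.Limits AlgebraicGeometry IsLocalRing HTop

namespace Groth.Agent.Lib.Helper38.HTopV

/-- Re-indexing a standard V covering along an equivalence. -/
theorem IsStandardV.restrictIndex_equiv {T : Scheme.{u}} {E : PreZeroHypercover.{w} T}
    (hE : IsStandardV E) {ι : Type w'} (e : ι ≃ E.I₀) : IsStandardV (E.restrictIndex e) := by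
  refine ⟨hE.isAffine, ?_, fun j => hE.isAffine_obj (e j), ?_⟩
  · have := hE.finite_index
    exact Finite.of_equiv _ e.symm
  · intro V _ _ g
    obtain ⟨W, hWd, hWv, φ, hφ, j, g', hg'⟩ := hE.lift V g
    obtain ⟨j, rfl⟩ := e.surjective j
    exact ⟨W, hWd, hWv, φ, hφ, j, g', hg'⟩

/-- A standard V covering can be re-indexed by a type in any universe. -/
theorem IsStandardV.exists_reindex {T : Scheme.{u}} {E : PreZeroHypercover.{w} T}
    (hE : IsStandardV E) :
    ∃ E' : PreZeroHypercover.{w'} T, IsStandardV E' ∧ E'.presieve₀ = E.presieve₀ ∧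
      Nonempty (E'.Hom E) ∧ Nonempty (E.Hom E') := by
  have := hE.finite_index
  obtain ⟨n, ⟨e⟩⟩ := Finite.exists_equiv_fin E.I₀
  let e' : ULift.{w'} (Fin n) ≃ E.I₀ := Equiv.ulift.trans e.symm
  refine ⟨E.restrictIndex e', IsStandardV.restrictIndex_equiv hE e',
    E.presieve₀_restrictIndex_equiv e',
    ⟨E.restrictIndexHom e'⟩, ⟨?_⟩⟩
  exact
    { s₀ := e'.symm
      h₀ := fun i => eqToHom (by simp)
      w₀ := fun i => by
        show eqToHom _ ≫ E.f (e' (e'.symm i)) = E.f i
        have : ∀ (j : E.I₀) (h : i = j), eqToHom (by rw [h]) ≫ E.f j = E.f i := by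
          rintro j rfl
          simp
        exact this _ (by simp) }

/-- A standard V covering is a V covering. -/
theorem isVCover_of_isStandardV {T : Scheme.{u}} {E : PreZeroHypercover.{w} T}
    (hE : IsStandardV E) : IsVCover E := by
  rw [isVCover_iff_forall_affine]
  intro W _ h
  obtain ⟨E', hE', -, ⟨φ⟩, -⟩ := IsStandardV.exists_reindex.{w, 0} (isStandardV_pullback h E hE)
  refine ⟨E', hE', ?_⟩
  intro j
  let i : E.I₀ := φ.s₀ j
  let k : E'.X j ⟶ pullback h (E.f i) := φ.h₀ j
  have hk : k ≫ pullback.fst h (E.f i) = E'.f j := φ.w₀ j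
  refine ⟨i, k ≫ pullback.snd h (E.f i), ?_⟩
  rw [Category.assoc, ← pullback.condition, ← Category.assoc, hk]

/-- Base change of a V covering (second-variable version). -/
theorem isVCover_pullback₂ {T T' : Scheme.{u}} (g : T' ⟶ T) {E : PreZeroHypercover.{w} T}
    (hE : IsVCover E) : IsVCover (E.pullback₂ g) := by
  rw [isVCover_iff_forall_affine]
  intro W _ h
  obtain ⟨F, hF, href⟩ := IsVCover.exists_refinement hE (h ≫ g)
  refine ⟨F, hF, ?_⟩
  intro j
  obtain ⟨i, k, hk⟩ := href j
  refine ⟨i, pullback.lift k (F.f j ≫ h) ?_, ?_⟩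
  · rw [hk, Category.assoc]
  · show pullback.lift _ _ _ ≫ pullback.snd _ _ = _
    rw [pullback.lift_snd]

/-- A family refined by a V covering is a V covering. -/
theorem isVCover_of_hom {T : Scheme.{u}} {E : PreZeroHypercover.{w} T}
    {E' : PreZeroHypercover.{w'} T} (φ : E.Hom E') (hE : IsVCover E) : IsVCover E' := by
  intro U
  obtain ⟨F, hF, href⟩ := hE U
  exact ⟨F, hF, href.of_hom φ⟩

/-- Composition of V coverings (universe-flexible). -/
theorem isVCover_bind {T : Scheme.{u}} (E : PreZeroHypercover.{w} T) (hE : IsVCover E)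
    (F : ∀ i, PreZeroHypercover.{w'} (E.X i)) (hF : ∀ i, IsVCover (F i)) :
    IsVCover (E.bind F) := by
  rw [isVCover_iff_forall_affine]
  intro W _ h
  obtain ⟨G, hG, href⟩ := IsVCover.exists_refinement hE h
  choose i k hk using href
  have hGaff := hG.isAffine_obj
  have H : ∀ j, ∃ H : PreZeroHypercover.{0} (G.X j), IsStandardV H ∧
      RefinesOver (k j) H (F (i j)) := fun j =>
    IsVCover.exists_refinement (hF (i j)) (k j)
  choose H hH hHref using H
  refine ⟨G.bind H, isStandardV_bind G hG H hH, ?_⟩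
  rintro ⟨j, l⟩
  obtain ⟨m, q, hq⟩ := hHref j l
  refine ⟨⟨i j, m⟩, q, ?_⟩
  show q ≫ (F (i j)).f m ≫ E.f (i j) = ((H j).f l ≫ G.f j) ≫ h
  rw [← Category.assoc, hq, Category.assoc, hk, Category.assoc]

/-- An fpqc covering is a V covering. -/
theorem isVCover_of_fpqc {T : Scheme.{u}} (𝒰 : Scheme.Cover Scheme.fpqcPrecoverage T) :
    IsVCover 𝒰.toPreZeroHypercover := by
  intro U
  have hmem := 𝒰.mem₀
  obtain ⟨h1, h2⟩ := hmem
  rw [Scheme.presieve₀_mem_qcPrecoverage_iff] at h1
  rw [Scheme.presieve₀_mem_precoverage_iff] at h2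
  obtain ⟨-, hflat⟩ := h2
  obtain ⟨n, a, V, hV, hcov⟩ :=
    QuasiCompactCover.exists_isAffineOpen_of_isCompact 𝒰.toPreZeroHypercover
      (U := (U : T.Opens)) U.2.isCompact
  have hUaff : IsAffine ((U : T.Opens) : Scheme.{u}) := U.2
  have hr : ∀ i, Set.range ((V i).ι ≫ 𝒰.f (a i)) ⊆ Set.range (U : T.Opens).ι := by
    intro i
    rintro _ ⟨x, rfl⟩
    rw [Scheme.Opens.range_ι, ← hcov]
    refine Set.mem_iUnion.mpr ⟨i, ?_⟩
    rw [Scheme.Hom.comp_apply]
    exact ⟨_, x.2, rfl⟩
  let F : PreZeroHypercover.{0} ((U : T.Opens) : Scheme.{u}) :=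
    { I₀ := Fin n
      X := fun i => (V i : Scheme.{u})
      f := fun i => IsOpenImmersion.lift (U : T.Opens).ι ((V i).ι ≫ 𝒰.f (a i)) (hr i) }
  refine ⟨F, ?_, ?_⟩
  · refine isStandardV_of_flat F
      (inferInstanceAs (Finite (Fin n))) (fun i => hV i) (fun i => ?_) ?_
    · have := hflat (a i)
      refine MorphismProperty.of_postcomp (W := @Flat) (W' := @IsOpenImmersion) _ (U : T.Opens).ι
        inferInstance ?_
      show Flat (IsOpenImmersion.lift (U : T.Opens).ι ((V i).ι ≫ 𝒰.f (a i)) (hr i) ≫ _)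
      rw [IsOpenImmersion.lift_fac]
      infer_instance
    · intro t
      have ht : (U : T.Opens).ι t ∈ ((U : T.Opens) : Set T) := by
        have := Set.mem_range_self (f := (U : T.Opens).ι) t
        rwa [Scheme.Opens.range_ι] at this
      rw [← hcov] at ht
      obtain ⟨i, x, hx, hxt⟩ := Set.mem_iUnion.mp ht
      refine ⟨i, ⟨x, hx⟩, ?_⟩
      apply (U : T.Opens).ι.isOpenEmbedding.injective
      show (IsOpenImmersion.lift (U : T.Opens).ι ((V i).ι ≫ 𝒰.f (a i)) (hr i) ≫ (U : T.Opens).ι)
        ⟨x, hx⟩ = _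
      rw [IsOpenImmersion.lift_fac, Scheme.Hom.comp_apply]
      exact hxt
  · intro i
    refine ⟨a i, (V i).ι, ?_⟩
    show _ = IsOpenImmersion.lift (U : T.Opens).ι ((V i).ι ≫ 𝒰.f (a i)) (hr i) ≫ _
    rw [IsOpenImmersion.lift_fac]

/-- Universe-flexible version of `IsVCover.exists_refinement`. -/
theorem IsVCover.exists_refinement' {T : Scheme.{u}} {E : PreZeroHypercover.{w} T} (hE : IsVCover E)
    {W : Scheme.{u}} [IsAffine W] (h : W ⟶ T) :
    ∃ F : PreZeroHypercover.{w'} W, IsStandardV F ∧ RefinesOver h F E := by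
  obtain ⟨G, hG, href⟩ := IsVCover.exists_refinement hE h
  obtain ⟨G', hG', -, ⟨φ⟩, -⟩ := IsStandardV.exists_reindex.{0, w'} hG
  refine ⟨G', hG', ?_⟩
  intro j
  obtain ⟨i, k, hk⟩ := href (φ.s₀ j)
  refine ⟨i, φ.h₀ j ≫ k, ?_⟩
  rw [Category.assoc, hk, ← Category.assoc, φ.w₀]

variable {F : Scheme.{u}ᵒᵖ ⥤ Type v}

/-- A Zariski sheaf which is separated for standard V coverings is separated for all V coverings. -/
theorem isSeparatedFor_of_isVCover (hzar : Presieve.IsSheaf Scheme.zariskiTopology F)
    (hstd : ∀ (T : Scheme.{u}) (E : PreZeroHypercover.{u} T), IsStandardV E →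
      Presieve.IsSeparatedFor F E.presieve₀)
    {Y : Scheme.{u}} (E : PreZeroHypercover.{w} Y) (hE : IsVCover E) :
    Presieve.IsSeparatedFor F E.presieve₀ := by
  intro x t₁ t₂ h₁ h₂
  have hsepZ : Presieve.IsSeparatedFor F (Presieve.ofArrows Y.affineCover.X Y.affineCover.f) :=
    (hzar.isSheafFor _ Y.affineCover.mem_grothendieckTopology).isSeparatedFor
  have key : ∀ i, F.map (Y.affineCover.f i).op t₁ = F.map (Y.affineCover.f i).op t₂ := by
    intro i
    obtain ⟨G, hG, href⟩ := IsVCover.exists_refinement'.{w, u} hE (Y.affineCover.f i)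
    have key2 : ∀ j, F.map (G.f j).op (F.map (Y.affineCover.f i).op t₁) =
        F.map (G.f j).op (F.map (Y.affineCover.f i).op t₂) := by
      intro j
      obtain ⟨i', k, hk⟩ := href j
      simp only [← FunctorToTypes.map_comp_apply, ← op_comp]
      rw [← hk]
      simp only [op_comp, FunctorToTypes.map_comp_apply]
      rw [h₁ (E.f i') ⟨i'⟩, h₂ (E.f i') ⟨i'⟩]
    refine (hstd _ G hG).ext ?_
    rintro Z' f' ⟨j⟩
    exact key2 j
  refine hsepZ.ext ?_
  rintro Z f ⟨i⟩
  exact key i

/-- A Zariski sheaf which is a sheaf for standard V coverings is a sheaf for all V coverings. -/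
theorem isSheafFor_of_isVCover (hzar : Presieve.IsSheaf Scheme.zariskiTopology F)
    (hstd : ∀ (T : Scheme.{u}) (E : PreZeroHypercover.{u} T), IsStandardV E →
      Presieve.IsSheafFor F E.presieve₀)
    {T : Scheme.{u}} (E : PreZeroHypercover.{w} T) (hE : IsVCover E) :
    Presieve.IsSheafFor F E.presieve₀ := by
  have hsep : ∀ {Y : Scheme.{u}} (E' : PreZeroHypercover.{w} Y), IsVCover E' →
      Presieve.IsSeparatedFor F E'.presieve₀ := fun E' hE' =>
    isSeparatedFor_of_isVCover hzar (fun T E hE => (hstd T E hE).isSeparatedFor) E' hE'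
  have hsep' : ∀ {Y : Scheme.{u}} (E' : PreZeroHypercover.{u} Y), IsVCover E' →
      Presieve.IsSeparatedFor F E'.presieve₀ := fun E' hE' =>
    isSeparatedFor_of_isVCover hzar (fun T E hE => (hstd T E hE).isSeparatedFor) E' hE'
  have haff : ∀ (T : Scheme.{u}) [IsAffine T] (E : PreZeroHypercover.{w} T), IsVCover E →
      Presieve.IsSheafFor F E.presieve₀ := by
    intro T _ E hE
    obtain ⟨G, hG, href⟩ := IsVCover.exists_refinement'.{w, u} hE (𝟙 T)
    rw [Presieve.isSheafFor_iff_generate]
    apply Presieve.isSheafFor_subsieve_aux (S := .generate G.presieve₀)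
    · rw [← Sieve.generate_le_iff, Sieve.generate_sieve, Sieve.generate_le_iff,
        PreZeroHypercover.presieve₀, Presieve.ofArrows_le_iff]
      intro j
      obtain ⟨i, k, hk⟩ := href j
      rw [Category.comp_id] at hk
      rw [← hk]
      exact ⟨_, k, E.f i, ⟨i⟩, rfl⟩
    · rw [← Presieve.isSheafFor_iff_generate]
      exact hstd T G hG
    · intro Y f hf
      rw [← Sieve.pullbackArrows_comm, ← Presieve.isSeparatedFor_iff_generate,
        ← PreZeroHypercover.presieve₀_pullback₁]
      exact hsep' (G.pullback₂ f) (isVCover_pullback₂ f (isVCover_of_isStandardV hG))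
  refine T.affineOneHypercover.isSheafFor_of_pullback hzar ?_ ?_
  · intro i
    rw [← Sieve.pullbackArrows_comm, ← PreZeroHypercover.presieve₀_pullback₁,
      ← Presieve.isSheafFor_iff_generate]
    exact haff (T.affineCover.X i) (E.pullback₂ (T.affineCover.f i)) (isVCover_pullback₂ _ hE)
  · intro i j k
    rw [← Sieve.pullbackArrows_comm, ← Presieve.isSeparatedFor_iff_generate,
      ← PreZeroHypercover.presieve₀_pullback₁]
    exact hsep _ (isVCover_pullback₂ _ hE)

/-- The one-member family of the coproduct of a standard V covering is a standard V covering. -/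
theorem isStandardV_singleton_sigmaDesc {T : Scheme.{u}} {E : PreZeroHypercover.{u} T}
    (hE : IsStandardV E) : IsStandardV (PreZeroHypercover.singleton.{w} (Sigma.desc E.f)) := by
  have := hE.finite_index
  have := hE.isAffine_obj
  refine ⟨hE.isAffine, inferInstanceAs (Finite PUnit), fun _ => ?_, ?_⟩
  · show IsAffine (∐ E.X)
    infer_instance
  · rw [hasValLift_singleton_iff]
    intro V _ _ g
    obtain ⟨W, hWd, hWv, φ, hφ, j, g', hg'⟩ := hE.lift V g
    refine ⟨W, hWd, hWv, φ, hφ, g' ≫ Sigma.ι E.X j, ?_⟩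
    rw [Category.assoc, Sigma.ι_desc, hg']

/-- For a Zariski sheaf, the sheaf condition for a standard V covering follows from that for the
one-member family of its coproduct. -/
theorem isSheafFor_of_isSheafFor_singleton_sigmaDesc
    (hzar : Presieve.IsSheaf Scheme.zariskiTopology F) {T : Scheme.{u}}
    {E : PreZeroHypercover.{u} T} (hE : IsStandardV E)
    (h : Presieve.IsSheafFor F (Presieve.singleton (Sigma.desc E.f))) :
    Presieve.IsSheafFor F E.presieve₀ := by
  have := hE.finite_index
  have : PreservesLimitsOfShape (Discrete (E.I₀ × E.I₀)) F :=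
    preservesLimitsOfShape_discrete_of_isSheaf_zariskiTopology hzar
  have : PreservesLimitsOfShape (Discrete E.I₀) F :=
    preservesLimitsOfShape_discrete_of_isSheaf_zariskiTopology hzar
  have key := Presieve.isSheafFor_sigmaDesc_iff E.f (coproductIsCoproduct _)
    (FinitaryExtensive.isVanKampen_finiteCoproducts (coproductIsCoproduct _)).isUniversal F
  exact key.mp h

/-- A proper surjective morphism, as a one-member family, is a ph covering. -/
theorem isPhCover_singleton_of_isProper_surjective {X Y : Scheme.{u}} (f : X ⟶ Y) [IsProper f]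
    [Surjective f] : IsPhCover (PreZeroHypercover.singleton.{w} f) := by
  refine ⟨fun _ => inferInstanceAs (LocallyOfFiniteType f), ?_⟩
  intro U
  have hUaff : IsAffine ((U : Y.Opens) : Scheme.{u}) := U.2
  have hc : IsCompact ((f ⁻¹ᵁ (U : Y.Opens) : X.Opens) : Set X) :=
    f.isCompact_preimage U.2.isCompact
  obtain ⟨Us, hUs, hUf, hUc⟩ := X.isBasis_affineOpens.exists_finite_of_isCompact hc
  have : Finite Us := hUf.to_subtype
  obtain ⟨n, ⟨e⟩⟩ := Finite.exists_equiv_fin Us
  have hle : ∀ k : Fin n, ((e.symm k).1 : X.Opens) ≤ f ⁻¹ᵁ (U : Y.Opens) := by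
    intro k
    rw [hUc]
    exact le_sSup (e.symm k).2
  let F : PreZeroHypercover.{0} ((U : Y.Opens) : Scheme.{u}) :=
    { I₀ := Fin n
      X := fun k => (((e.symm k).1 : X.Opens) : Scheme.{u})
      f := fun k => f.resLE (U : Y.Opens) (e.symm k).1 (hle k) }
  refine ⟨F, ⟨hUaff, inferInstanceAs (Finite (Fin n)), fun k => hUs (e.symm k).2, ?_⟩, ?_⟩
  · have hsurj : Surjective (f ∣_ (U : Y.Opens)) :=
      MorphismProperty.of_isPullback (P := @Surjective)
        (isPullback_morphismRestrict f (U : Y.Opens)).flip inferInstance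
    refine ⟨((f ⁻¹ᵁ (U : Y.Opens) : X.Opens) : Scheme.{u}), f ∣_ (U : Y.Opens),
      fun k => X.homOfLE (hle k), inferInstance, hsurj, fun k => inferInstance,
      fun k => rfl, ?_⟩
    rintro ⟨x, hx⟩
    have hx' : x ∈ f ⁻¹ᵁ (U : Y.Opens) := hx
    rw [hUc] at hx'
    obtain ⟨A, hA, hxA⟩ := TopologicalSpace.Opens.mem_sSup.mp hx'
    refine ⟨e ⟨A, hA⟩, ?_⟩
    have hk : ((e.symm (e ⟨A, hA⟩)).1 : X.Opens) = A := by simp
    have hxA' : x ∈ ((e.symm (e ⟨A, hA⟩)).1 : X.Opens) := by rw [hk]; exact hxA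
    exact ⟨⟨x, hxA'⟩, X.homOfLE_apply' (hle _) x hxA'⟩
  · intro k
    refine ⟨PUnit.unit, Scheme.Opens.ι (X := X) (e.symm k).1, ?_⟩
    show _ ≫ f = f.resLE (U : Y.Opens) (e.symm k).1 (hle k) ≫ _
    rw [Scheme.Hom.resLE_comp_ι]

/-- A presheaf which is a sheaf for the one-member family of a monomorphism `f` is bijective on `f`. -/
theorem bijective_map_of_mono_of_isSheafFor {C : Type*} [Category C] {P : Cᵒᵖ ⥤ Type v} {X Y : C}
    (f : X ⟶ Y) [Mono f] (h : Presieve.IsSheafFor P (Presieve.singleton f)) :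
    Function.Bijective (P.map f.op) := by
  rw [Presieve.isSheafFor_singleton] at h
  rw [Function.bijective_iff_existsUnique]
  intro x
  exact h x (fun p₁ p₂ hp => by rw [(cancel_mono f).mp hp])

section Finest

open Sheaf

/-- A jointly surjective family of open immersions generates a Zariski covering sieve. -/
theorem generate_ofArrows_mem_zariskiTopology {U : Scheme.{u}} {ι : Type*} {X : ι → Scheme.{u}}
    (f : ∀ i, X i ⟶ U) (hopen : ∀ i, IsOpenImmersion (f i))
    (hcov : ∀ x : U, ∃ i, x ∈ Set.range (f i)) :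
    Sieve.generate (Presieve.ofArrows X f) ∈ Scheme.zariskiTopology U :=
  Precoverage.generate_mem_toGrothendieck
    ((Scheme.ofArrows_mem_precoverage_iff (P := @IsOpenImmersion)).mpr ⟨hcov, hopen⟩)

/-- If `F` is a Zariski sheaf, Zariski covering sieves are universally `F`-effective. -/
theorem zariskiTopology_le_finestTopologySingle
    (hzar : Presieve.IsSheaf Scheme.zariskiTopology F) :
    Scheme.zariskiTopology ≤ finestTopologySingle F :=
  fun _ _ hS _ f => hzar _ (Scheme.zariskiTopology.pullback_stable f hS)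

/-- Sieves generated by proper surjective morphisms are universally `F`-effective. -/
theorem generate_singleton_mem_finestTopologySingle
    (hps : ∀ (U V : Scheme.{u}) (f : V ⟶ U), IsProper f → Surjective f →
      Presieve.IsSheafFor F (Presieve.singleton f))
    {U V : Scheme.{u}} (f : V ⟶ U) [IsProper f] [Surjective f] :
    Sieve.generate (Presieve.singleton f) ∈ finestTopologySingle F U := by
  intro Y g
  rw [← Sieve.pullbackArrows_comm, ← Presieve.isSheafFor_iff_generate, Presieve.pullback_singleton]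
  exact hps _ _ _ inferInstance inferInstance

/-- Standard ph coverings generate universally `F`-effective sieves. -/
theorem generate_mem_finestTopologySingle_of_isStandardPh
    (hzar : Presieve.IsSheaf Scheme.zariskiTopology F)
    (hps : ∀ (U V : Scheme.{u}) (f : V ⟶ U), IsProper f → Surjective f →
      Presieve.IsSheafFor F (Presieve.singleton f))
    {T : Scheme.{u}} (E : PreZeroHypercover.{w} T) (hE : IsStandardPh E) :
    Sieve.generate E.presieve₀ ∈ finestTopologySingle F T := by
  obtain ⟨U, f, ι, hprop, hsurj, hopen, hcomp, hcov⟩ := hE.exists_proper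
  refine (finestTopologySingle F).transitive
    (generate_singleton_mem_finestTopologySingle hps f) _ ?_
  rintro Y g ⟨Z, a, b, ⟨⟩, rfl⟩
  rw [Sieve.pullback_comp]
  apply (finestTopologySingle F).pullback_stable
  refine (finestTopologySingle F).superset_covering ?_
    (zariskiTopology_le_finestTopologySingle hzar _
      (generate_ofArrows_mem_zariskiTopology ι hopen hcov))
  rw [Sieve.generate_le_iff]
  rintro Z g ⟨j⟩
  show (Sieve.generate E.presieve₀) (ι j ≫ f)
  rw [hcomp j]
  exact Sieve.le_generate _ _ _ (PreZeroHypercover.presieve₀_f E j)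

/-- ph coverings generate universally `F`-effective sieves. -/
theorem generate_mem_finestTopologySingle_of_isPhCover
    (hzar : Presieve.IsSheaf Scheme.zariskiTopology F)
    (hps : ∀ (U V : Scheme.{u}) (f : V ⟶ U), IsProper f → Surjective f →
      Presieve.IsSheafFor F (Presieve.singleton f))
    {T : Scheme.{u}} (E : PreZeroHypercover.{w} T) (hE : IsPhCover E) :
    Sieve.generate E.presieve₀ ∈ finestTopologySingle F T := by
  obtain ⟨-, hloc⟩ := hE
  have hZ : Sieve.generate (Presieve.ofArrows (fun U : T.affineOpens => ((U : T.Opens) : Scheme.{u}))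
      (fun U : T.affineOpens => (U : T.Opens).ι)) ∈ Scheme.zariskiTopology T := by
    refine generate_ofArrows_mem_zariskiTopology _ (fun U => inferInstance) (fun x => ?_)
    obtain ⟨_, ⟨U, hU, rfl⟩, hxU, -⟩ :=
      T.isBasis_affineOpens.exists_subset_of_mem_open (Set.mem_univ x) isOpen_univ
    refine ⟨⟨U, hU⟩, ?_⟩
    rw [Scheme.Opens.range_ι]
    exact hxU
  refine (finestTopologySingle F).transitive
    (zariskiTopology_le_finestTopologySingle hzar _ hZ) _ ?_
  rintro Y g ⟨Z, a, b, ⟨U⟩, rfl⟩
  rw [Sieve.pullback_comp]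
  apply (finestTopologySingle F).pullback_stable
  obtain ⟨G, hG, href⟩ := hloc U
  refine (finestTopologySingle F).superset_covering ?_
    (generate_mem_finestTopologySingle_of_isStandardPh hzar hps G hG)
  rw [Sieve.generate_le_iff]
  rintro Z g ⟨j⟩
  obtain ⟨i, k, hk⟩ := href j
  show (Sieve.generate E.presieve₀) (G.f j ≫ (U : T.Opens).ι)
  rw [← hk]
  exact ⟨_, k, E.f i, ⟨i⟩, rfl⟩

end Finest

end Groth.Agent.Lib.Helper38.HTopV
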