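import Mathlib
import Groth.Prelude.Def_MoreMor
import Groth.Agent.Lib.Helper97.QuasiAffine

/-!
Ind-quasi-affine morphisms (helper38): compact open subschemes mapping into an affine open.
-/

set_option autoImplicit false
open CategoryTheory CategoryTheory.Limits AlgebraicGeometry Topology TopologicalSpace
universe u

namespace Groth.Agent.Lib.Helper38.IndQAff

/-- If `f` is ind-quasi-affine, `j : Q ⟶ X` is an open immersion from a quasi-compact scheme and
`f ∘ j` lands in the affine open `V`, then `Q` is quasi-affine. -/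
theorem isQuasiAffine_of_isOpenImmersion {X S Q : Scheme.{u}} {f : X ⟶ S}
    (hf : MoreMor.IsIndQuasiAffineHom f) (j : Q ⟶ X) [IsOpenImmersion j] [CompactSpace Q]
    (V : S.Opens) (hV : IsAffineOpen V) (hjV : Set.range j ⊆ f ⁻¹ᵁ V) : Q.IsQuasiAffine := by
  let O : (f ⁻¹ᵁ V).toScheme.Opens := (f ⁻¹ᵁ V).ι ⁻¹ᵁ j.opensRange
  have hr : Set.range (O.ι ≫ (f ⁻¹ᵁ V).ι) = Set.range j := by
    rw [Scheme.Hom.comp_base, TopCat.coe_comp, Set.range_comp, Scheme.Opens.range_ι]
    show (f ⁻¹ᵁ V).ι '' ((f ⁻¹ᵁ V).ι ⁻¹' Set.range j) = Set.range j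
    rw [Set.image_preimage_eq_inter_range, Scheme.Opens.range_ι]
    exact Set.inter_eq_left.mpr hjV
  let e : O.toScheme ≅ Q := IsOpenImmersion.isoOfRangeEq (O.ι ≫ (f ⁻¹ᵁ V).ι) j hr
  have hc : CompactSpace O.toScheme := e.hom.homeomorph.symm.compactSpace
  have hO : IsCompact (O : Set (f ⁻¹ᵁ V).toScheme) := isCompact_iff_compactSpace.mpr hc
  have := hf V hV O hO
  exact Groth.Agent.Lib.Helper97.QAff.isQuasiAffine_of_iso e.symm

end Groth.Agent.Lib.Helper38.IndQAff
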