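import Mathlib.RingTheory.TensorProduct.Free
import Mathlib.RingTheory.IsTensorProduct
import Mathlib.Algebra.Category.Ring.Constructions
import Mathlib.LinearAlgebra.Basis.Basic

/-!
# Bases over the ring of invariants of an affine groupoid (pure algebra)
-/

set_option autoImplicit false
set_option linter.style.haveILetI false
universe u

open TensorProduct CategoryTheory CategoryTheory.Limits

namespace Groth.Agent.Lib.Helper38.InvBasis


noncomputable def basisOfIsPushout {A B B' P : Type*} [CommRing A] [CommRing B] [CommRing B']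
    [CommRing P] [Algebra A B] [Algebra A B'] [Algebra B P] [Algebra B' P] [Algebra A P]
    [IsScalarTower A B P] [IsScalarTower A B' P] [Algebra.IsPushout A B B' P]
    {ι : Type*} (b : Module.Basis ι A B') : Module.Basis ι B P :=
  (Algebra.TensorProduct.basis B b).map (Algebra.IsPushout.equiv A B B' P).toLinearEquiv

theorem basisOfIsPushout_apply {A B B' P : Type*} [CommRing A] [CommRing B] [CommRing B']
    [CommRing P] [Algebra A B] [Algebra A B'] [Algebra B P] [Algebra B' P] [Algebra A P]
    [IsScalarTower A B P] [IsScalarTower A B' P] [Algebra.IsPushout A B B' P]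
    {ι : Type*} (b : Module.Basis ι A B') (i : ι) :
    basisOfIsPushout (B := B) (P := P) b i = algebraMap B' P (b i) := by
  simp [basisOfIsPushout, Algebra.IsPushout.equiv_tmul]

theorem coeff_eq_of_isPushout {A B B' P : Type u} [CommRing A] [CommRing B] [CommRing B']
    [CommRing P] (τ : A →+* B) (σ : A →+* B') (p₁ : B →+* P) (p₀ : B' →+* P)
    (h : IsPushout (CommRingCat.ofHom τ) (CommRingCat.ofHom σ) (CommRingCat.ofHom p₁)
      (CommRingCat.ofHom p₀)) {ι : Type*}
    (b : @Module.Basis ι A B' _ _ σ.toAlgebra.toModule) (β β' : ι →₀ B)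
    (heq : β.sum (fun i c => p₁ c * p₀ (b i)) = β'.sum (fun i c => p₁ c * p₀ (b i))) :
    β = β' := by
  letI := τ.toAlgebra
  letI := σ.toAlgebra
  letI := p₁.toAlgebra
  letI := p₀.toAlgebra
  letI := (p₁.comp τ).toAlgebra
  have hw : p₁.comp τ = p₀.comp σ := by
    have := h.w
    ext r
    exact congrArg (fun g => g.hom r) this
  have : IsScalarTower A B P := .of_algebraMap_eq' rfl
  have : IsScalarTower A B' P := .of_algebraMap_eq' hw
  have : Algebra.IsPushout A B B' P := CommRingCat.isPushout_iff_isPushout.mp h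
  let bP : Module.Basis ι B P := basisOfIsPushout (B := B) (P := P) b
  have key : ∀ β : ι →₀ B, bP.repr.symm β = β.sum (fun i c => p₁ c * p₀ (b i)) := by
    intro β
    rw [Module.Basis.repr_symm_apply, Finsupp.linearCombination_apply]
    refine Finsupp.sum_congr (fun i _ => ?_)
    rw [basisOfIsPushout_apply, Algebra.smul_def]
    rfl
  have := (key β).trans (heq.trans (key β').symm)
  exact bP.repr.symm.injective this

/-- expansion in a basis for the algebra structure given by a ring hom -/
theorem sum_repr {A B : Type*} [CommRing A] [CommRing B] (σ : A →+* B) {ι : Type*}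
    (b : @Module.Basis ι A B _ _ σ.toAlgebra.toModule) (y : B) :
    (@Module.Basis.repr ι A B _ _ σ.toAlgebra.toModule b y).sum (fun i c => σ c * b i) = y := by
  letI := σ.toAlgebra
  have := b.linearCombination_repr y
  rw [Finsupp.linearCombination_apply] at this
  conv_rhs => rw [← this]
  refine Finsupp.sum_congr (fun i _ => ?_)
  rw [Algebra.smul_def]
  rfl

theorem invariant_coeffs {A B P : Type u} [CommRing A] [CommRing B] [CommRing P]
    (σ τ : A →+* B) (p₀ p₁ γ : B →+* P)
    (hpush : IsPushout (CommRingCat.ofHom τ) (CommRingCat.ofHom σ) (CommRingCat.ofHom p₁)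
      (CommRingCat.ofHom p₀))
    (hγσ : γ.comp σ = p₁.comp σ) (hγτ : γ.comp τ = p₀.comp τ)
    {ι : Type*} (x : ι → A) (b : @Module.Basis ι A B _ _ σ.toAlgebra.toModule)
    (hb : ∀ i, b i = τ (x i)) (a : A) (i : ι) :
    σ (@Module.Basis.repr ι A B _ _ σ.toAlgebra.toModule b (τ a) i) =
      τ (@Module.Basis.repr ι A B _ _ σ.toAlgebra.toModule b (τ a) i) := by
  letI := σ.toAlgebra
  set co := b.repr (τ a) with hco
  have hw : p₁.comp τ = p₀.comp σ := by
    have := hpush.w
    ext r
    exact congrArg (fun g => g.hom r) this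
  have hsum : co.sum (fun i c => σ c * b i) = τ a := sum_repr σ b (τ a)
  have h1 : (co.mapRange τ (map_zero τ)).sum (fun i c => p₁ c * p₀ (b i)) = p₀ (τ a) := by
    rw [Finsupp.sum_mapRange_index (by intro i; simp)]
    rw [← hsum, map_finsuppSum]
    refine Finsupp.sum_congr (fun i _ => ?_)
    rw [map_mul]
    congr 1
    exact congrArg (fun g => g (co i)) hw
  have h2 : (co.mapRange σ (map_zero σ)).sum (fun i c => p₁ c * p₀ (b i)) = p₀ (τ a) := by
    rw [Finsupp.sum_mapRange_index (by intro i; simp)]
    have hγ : γ (τ a) = p₀ (τ a) := congrArg (fun g => g a) hγτ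
    rw [← hγ, ← hsum, map_finsuppSum]
    refine Finsupp.sum_congr (fun i _ => ?_)
    rw [map_mul, hb i]
    have e1 : γ (σ (co i)) = p₁ (σ (co i)) := congrArg (fun g => g (co i)) hγσ
    have e2 : γ (τ (x i)) = p₀ (τ (x i)) := congrArg (fun g => g (x i)) hγτ
    rw [e1, e2]
  have := coeff_eq_of_isPushout τ σ p₁ p₀ hpush b _ _ (h2.trans h1.symm)
  have := congrArg (fun f => f i) this
  simpa using this


theorem basis_over_invariants {A B : Type u} [CommRing A] [CommRing B] (σ τ : A →+* B)
    (ε : B →+* A) (hετ : ε.comp τ = RingHom.id A) {ι : Type*} (x : ι → A)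
    (b : @Module.Basis ι A B _ _ σ.toAlgebra.toModule) (hb : ∀ i, b i = τ (x i))
    (hinv : ∀ a i, σ (@Module.Basis.repr ι A B _ _ σ.toAlgebra.toModule b (τ a) i) =
      τ (@Module.Basis.repr ι A B _ _ σ.toAlgebra.toModule b (τ a) i)) :
    ∃ b' : Module.Basis ι (RingHom.eqLocus σ τ) A, ∀ i, b' i = x i := by
  letI := σ.toAlgebra
  have hτinj : Function.Injective τ := by
    intro a a' h
    have := congrArg ε h
    have e1 : ε (τ a) = a := congrArg (fun g => g a) hετ
    have e2 : ε (τ a') = a' := congrArg (fun g => g a') hετ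
    rwa [e1, e2] at this
  have hli : LinearIndependent (RingHom.eqLocus σ τ) x := by
    rw [linearIndependent_iff]
    intro l hl
    rw [Finsupp.linearCombination_apply] at hl
    have h1 : (l.mapRange (RingHom.eqLocus σ τ).subtype (map_zero _)).sum
        (fun i c => σ c * b i) = 0 := by
      rw [Finsupp.sum_mapRange_index (by intro i; simp)]
      have h2 := congrArg τ hl
      rw [map_zero, map_finsuppSum] at h2
      rw [← h2]
      refine Finsupp.sum_congr (fun i _ => ?_)
      rw [hb i]
      change σ (l i).1 * τ (x i) = τ ((l i).1 * x i)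
      rw [map_mul, (l i).2]
    have h3 : Finsupp.linearCombination A b
        (l.mapRange (RingHom.eqLocus σ τ).subtype (map_zero _)) = 0 := by
      rw [Finsupp.linearCombination_apply, ← h1]
      refine Finsupp.sum_congr (fun i _ => ?_)
      rw [Algebra.smul_def]
      rfl
    have h4 := (linearIndependent_iff.mp b.linearIndependent) _ h3
    ext i
    have := congrArg (fun f => f i) h4
    simpa using this
  have hsp : ⊤ ≤ Submodule.span (RingHom.eqLocus σ τ) (Set.range x) := by
    intro a _
    set co := b.repr (τ a) with hco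
    have hsum : co.sum (fun i c => σ c * b i) = τ a := sum_repr σ b (τ a)
    have ha : a = co.sum (fun i c => c * x i) := by
      apply hτinj
      rw [← hsum, map_finsuppSum]
      refine Finsupp.sum_congr (fun i _ => ?_)
      rw [map_mul, hb i, hinv a i]
    rw [ha]
    refine Submodule.sum_mem _ (fun i _ => ?_)
    change co i * x i ∈ _
    have : co i * x i = (⟨co i, hinv a i⟩ : RingHom.eqLocus σ τ) • x i := rfl
    rw [this]
    exact Submodule.smul_mem _ _ (Submodule.subset_span ⟨i, rfl⟩)
  exact ⟨Module.Basis.mk hli hsp, fun i => Module.Basis.mk_apply hli hsp i⟩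


theorem bijective_of_bases {A B : Type u} [CommRing A] [CommRing B] (σ τ : A →+* B)
    {ι : Type*} (x : ι → A)
    (b : @Module.Basis ι A B _ _ σ.toAlgebra.toModule) (hb : ∀ i, b i = τ (x i))
    (b' : Module.Basis ι (RingHom.eqLocus σ τ) A) (hb' : ∀ i, b' i = x i)
    (φ : @LinearMap (RingHom.eqLocus σ τ) (RingHom.eqLocus σ τ) _ _ (RingHom.id _)
      (A ⊗[RingHom.eqLocus σ τ] A) B _ _ _
      (σ.comp (RingHom.eqLocus σ τ).subtype).toAlgebra.toModule)
    (hφ : ∀ a a' : A, φ (a ⊗ₜ[RingHom.eqLocus σ τ] a') = τ a * σ a') :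
    Function.Bijective φ := by
  letI algAB : Algebra A B := σ.toAlgebra
  letI algCB : Algebra (RingHom.eqLocus σ τ) B := (σ.comp (RingHom.eqLocus σ τ).subtype).toAlgebra
  let Ψ : (ι →₀ A) → A ⊗[RingHom.eqLocus σ τ] A := fun f =>
    f.sum (fun i c => x i ⊗ₜ[RingHom.eqLocus σ τ] c)
  have hΨadd : ∀ f g, Ψ (f + g) = Ψ f + Ψ g := by
    intro f g
    exact Finsupp.sum_add_index' (fun i => tmul_zero _ _) (fun i c c' => tmul_add _ _ _)
  have hΨ0 : Ψ 0 = 0 := Finsupp.sum_zero_index
  have hΨsurj : Function.Surjective Ψ := by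
    intro z
    induction z using TensorProduct.induction_on with
    | zero => exact ⟨0, hΨ0⟩
    | add z z' hz hz' =>
      obtain ⟨f, rfl⟩ := hz
      obtain ⟨g, rfl⟩ := hz'
      exact ⟨f + g, hΨadd f g⟩
    | tmul a a' =>
      refine ⟨(b'.repr a).mapRange (fun c : RingHom.eqLocus σ τ => c.1 * a') (by simp), ?_⟩
      change ((b'.repr a).mapRange (fun c : RingHom.eqLocus σ τ => c.1 * a') _).sum
        (fun i c => x i ⊗ₜ[RingHom.eqLocus σ τ] c) = _
      rw [Finsupp.sum_mapRange_index (fun i => tmul_zero _ _)]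
      have h1 : (b'.repr a).sum (fun i c => c • x i) = a := by
        have := b'.linearCombination_repr a
        rw [Finsupp.linearCombination_apply] at this
        refine Eq.trans (Finsupp.sum_congr (fun i _ => ?_)) this
        rw [hb' i]
      have h2 : a ⊗ₜ[RingHom.eqLocus σ τ] a' =
          ((b'.repr a).sum (fun i c => c • x i)) ⊗ₜ[RingHom.eqLocus σ τ] a' :=
        congrArg (· ⊗ₜ[RingHom.eqLocus σ τ] a') h1.symm
      rw [h2]
      simp only [Finsupp.sum]
      rw [sum_tmul]
      refine Finset.sum_congr rfl (fun i _ => ?_)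
      change x i ⊗ₜ[RingHom.eqLocus σ τ] ((b'.repr a i).1 * a') = _
      have : (b'.repr a i).1 * a' = (b'.repr a i) • a' := rfl
      rw [this, tmul_smul, smul_tmul']
  have hφΨ : ∀ f, φ (Ψ f) = b.repr.symm f := by
    intro f
    rw [Module.Basis.repr_symm_apply, Finsupp.linearCombination_apply]
    change φ (f.sum (fun i c => x i ⊗ₜ[RingHom.eqLocus σ τ] c)) = _
    rw [map_finsuppSum]
    refine Finsupp.sum_congr (fun i _ => ?_)
    rw [hφ, hb i, Algebra.smul_def, mul_comm]
    rfl
  constructor
  · intro z z' h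
    obtain ⟨f, rfl⟩ := hΨsurj z
    obtain ⟨g, rfl⟩ := hΨsurj z'
    rw [hφΨ, hφΨ] at h
    rw [b.repr.symm.injective h]
  · intro β
    refine ⟨Ψ (b.repr β), ?_⟩
    rw [hφΨ]
    exact b.repr.symm_apply_apply β

end Groth.Agent.Lib.Helper38.InvBasis
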