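import Groth.Agent.Lib.Helper38.IsoNearFibre
import Groth.Agent.S10861

/-!
# Iso near a fibre, finite presentation version (EGA III 4.6.7 (ii))

* `ker_app_fg_of_finitePresentation`, `ker_stalkMap_eq_map_germ`: finite generation of kernels.
* `isPullback_fiberMapOver`: the cartesian square of fibres.
* `exists_isIso_near_fibre_of_finitePresentation`: `X`, `Y` proper and of finite presentation over
  `S`, `X` flat over `S`, `f : X ⟶ Y` over `S` with `f_s` an isomorphism: `f` is an isomorphism over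
  a neighbourhood of `s`.
-/

set_option autoImplicit false
universe u

open CategoryTheory CategoryTheory.Limits AlgebraicGeometry TopologicalSpace

namespace Groth.Agent.Lib.Helper38

lemma ker_app_fg_of_finitePresentation {X Y S : Scheme.{u}} (f : X ⟶ Y) (h : Y ⟶ S)
    [LocallyOfFinitePresentation h] [LocallyOfFinitePresentation (f ≫ h)]
    {W : S.Opens} (hW : IsAffineOpen W) {U : Y.Opens} (hU : IsAffineOpen U) (hUW : U ≤ h ⁻¹ᵁ W)
    (hU' : IsAffineOpen (f ⁻¹ᵁ U)) (hsurj : Function.Surjective (f.app U).hom) :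
    (RingHom.ker (f.app U).hom).FG := by
  have h1 : (h.appLE W U hUW).hom.FinitePresentation :=
    HasRingHomProperty.appLE (P := @LocallyOfFinitePresentation) h inferInstance ⟨W, hW⟩ ⟨U, hU⟩ hUW
  have hle : f ⁻¹ᵁ U ≤ (f ≫ h) ⁻¹ᵁ W := fun x hx => hUW hx
  have h2 : ((f ≫ h).appLE W (f ⁻¹ᵁ U) hle).hom.FinitePresentation :=
    HasRingHomProperty.appLE (P := @LocallyOfFinitePresentation) (f ≫ h) inferInstance ⟨W, hW⟩
      ⟨_, hU'⟩ hle
  have hcomp : (f ≫ h).appLE W (f ⁻¹ᵁ U) hle = h.appLE W U hUW ≫ f.app U := by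
    rw [← Scheme.Hom.appLE_eq_app (f := f), Scheme.Hom.appLE_comp_appLE]
  algebraize [(h.appLE W U hUW).hom, ((f ≫ h).appLE W (f ⁻¹ᵁ U) hle).hom]
  let F : Γ(Y, U) →ₐ[Γ(S, W)] Γ(X, f ⁻¹ᵁ U) :=
    { (f.app U).hom with
      commutes' := fun r => by
        show (f.app U).hom ((h.appLE W U hUW).hom r) = ((f ≫ h).appLE W (f ⁻¹ᵁ U) hle).hom r
        rw [hcomp]
        rfl }
  exact Algebra.FinitePresentation.ker_fG_of_surjective F hsurj

set_option backward.isDefEq.respectTransparency.types false in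
lemma ker_stalkMap_eq_map_germ {X Y : Scheme.{u}} (f : X ⟶ Y) {U : Y.Opens} (hU : IsAffineOpen U)
    (hU' : IsAffineOpen (f ⁻¹ᵁ U)) (hsurj : Function.Surjective (f.app U).hom)
    (x : X) (hx : f x ∈ U) :
    RingHom.ker (f.stalkMap x).hom =
      Ideal.map (Y.presheaf.germ U (f x) hx).hom (RingHom.ker (f.app U).hom) := by
  apply le_antisymm
  · intro β hβ
    letI := Y.presheaf.algebra_section_stalk ⟨f x, hx⟩
    haveI := hU.isLocalization_stalk ⟨f x, hx⟩
    obtain ⟨⟨a, t⟩, hat⟩ := IsLocalization.surj (hU.primeIdealOf ⟨f x, hx⟩).asIdeal.primeCompl β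
    have hat' : β * (Y.presheaf.germ U (f x) hx).hom t = (Y.presheaf.germ U (f x) hx).hom a := hat
    have htu : IsUnit ((Y.presheaf.germ U (f x) hx).hom t) :=
      IsLocalization.map_units (Y.presheaf.stalk (f x)) t
    have h0 : (f.stalkMap x).hom ((Y.presheaf.germ U (f x) hx).hom a) = 0 := by
      rw [← hat', map_mul, RingHom.mem_ker.mp hβ, zero_mul]
    have h1 : (X.presheaf.germ (f ⁻¹ᵁ U) x hx).hom ((f.app U).hom a) = 0 := by
      rw [← h0]
      exact (Scheme.Hom.germ_stalkMap_apply f U x hx a).symm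
    obtain ⟨c, hxc, hc⟩ := exists_mul_eq_zero_of_germ_eq_zero hU' x hx _ h1
    obtain ⟨t', rfl⟩ := hsurj c
    have hyt' : f x ∈ Y.basicOpen t' := by
      have : x ∈ f ⁻¹ᵁ Y.basicOpen t' := by
        rw [Scheme.preimage_basicOpen]
        exact hxc
      exact this
    have ht'u : IsUnit ((Y.presheaf.germ U (f x) hx).hom t') := (Y.mem_basicOpen t' (f x) hx).mp hyt'
    have hmem : t' * a ∈ RingHom.ker (f.app U).hom := by
      rw [RingHom.mem_ker, map_mul]
      exact hc
    have h2 : (Y.presheaf.germ U (f x) hx).hom (t' * a) ∈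
        Ideal.map (Y.presheaf.germ U (f x) hx).hom (RingHom.ker (f.app U).hom) :=
      Ideal.mem_map_of_mem _ hmem
    rw [map_mul] at h2
    have h3 : (Y.presheaf.germ U (f x) hx).hom a ∈
        Ideal.map (Y.presheaf.germ U (f x) hx).hom (RingHom.ker (f.app U).hom) :=
      (Ideal.unit_mul_mem_iff_mem _ ht'u).mp h2
    rw [← hat'] at h3
    exact (Ideal.mul_unit_mem_iff_mem _ htu).mp h3
  · rw [Ideal.map_le_iff_le_comap]
    intro a ha
    rw [Ideal.mem_comap, RingHom.mem_ker]
    have := Scheme.Hom.germ_stalkMap_apply f U x hx a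
    exact this.trans (by rw [RingHom.mem_ker.mp ha, map_zero])


set_option backward.isDefEq.respectTransparency.types false in
lemma surjective_app_of_isClosedImmersion_morphismRestrict {X Y : Scheme.{u}} (f : X ⟶ Y)
    {U : Y.Opens} (hU : IsAffineOpen U) [IsClosedImmersion (f ∣_ U)] :
    Function.Surjective (f.app U).hom := by
  have haff : IsAffine U := hU
  have h0 : Function.Surjective ⇑((f ∣_ U).appTop.hom) :=
    (IsClosedImmersion.isAffine_surjective_of_isAffine (f ∣_ U)).2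
  have e := morphismRestrict_appTop f U
  have e' : ⇑((f ∣_ U).appTop.hom) =
      ⇑(X.presheaf.map (eqToHom (image_morphismRestrict_preimage f U ⊤)).op).hom ∘
        ⇑(f.app (U.ι ''ᵁ ⊤)).hom := by
    rw [e]; rfl
  rw [e'] at h0
  have h1 : Function.Surjective ⇑(f.app (U.ι ''ᵁ ⊤)).hom :=
    Function.Surjective.of_comp_left h0 (ConcreteCategory.bijective_of_isIso _).1
  have key : ∀ (W : Y.Opens) (hW : W = U), Function.Surjective ⇑(f.app W).hom →
      Function.Surjective ⇑(f.app U).hom := by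
    rintro _ rfl hW
    exact hW
  exact key _ (Scheme.Opens.ι_image_top U) h1

theorem isPullback_fiberMapOver {X Y S : Scheme.{u}} (f : X ⟶ Y) (g : X ⟶ S) (h : Y ⟶ S)
    (w : f ≫ h = g) (s : S) :
    IsPullback (g.fiberι s) (CohIII.fiberMapOver f g h w s) f (h.fiberι s) := by
  have hfs1 : CohIII.fiberMapOver f g h w s ≫ h.fiberι s = g.fiberι s ≫ f :=
    pullback.lift_fst _ _ _
  have hfs2 : CohIII.fiberMapOver f g h w s ≫ pullback.snd h (S.fromSpecResidueField s) =
      pullback.snd g (S.fromSpecResidueField s) :=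
    (pullback.lift_snd _ _ _).trans (Category.comp_id _)
  have t : IsPullback (pullback.snd h (S.fromSpecResidueField s)) (h.fiberι s)
      (S.fromSpecResidueField s) h := (IsPullback.of_hasPullback h _).flip
  have s0 : IsPullback (CohIII.fiberMapOver f g h w s ≫ pullback.snd h (S.fromSpecResidueField s))
      (g.fiberι s) (S.fromSpecResidueField s) (f ≫ h) := by
    rw [hfs2, w]
    exact (IsPullback.of_hasPullback g _).flip
  exact (IsPullback.of_right s0 hfs1 t).flip

set_option backward.isDefEq.respectTransparency.types false in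
theorem exists_isIso_near_fibre_of_finitePresentation {X Y S : Scheme.{u}} (f : X ⟶ Y) (h : Y ⟶ S)
    [IsProper h] [LocallyOfFinitePresentation h] [IsProper (f ≫ h)]
    [LocallyOfFinitePresentation (f ≫ h)] [Flat (f ≫ h)] (s : S)
    [IsIso (CohIII.fiberMapOver f (f ≫ h) h rfl s)] :
    ∃ U : S.Opens, s ∈ U ∧ IsIso (f ∣_ (h ⁻¹ᵁ U)) := by
  obtain ⟨U₁, hsU₁, hci₁⟩ := (Groth.Agent.S10861.result f (f ≫ h) h rfl s).2 inferInstance
  obtain ⟨W, hWaff, hsW, -⟩ : ∃ W : S.Opens, W ∈ S.affineOpens ∧ s ∈ W ∧ W ≤ ⊤ :=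
    Opens.isBasis_iff_nbhd.mp S.isBasis_affineOpens (U := ⊤) trivial
  have hWaff' : IsAffineOpen W := hWaff
  let G : Y.Opens := ⨆ V : {V : Y.Opens // IsIso (f ∣_ V)}, V.1
  have hG : IsIso (f ∣_ G) :=
    morphismRestrict_iSup (P := MorphismProperty.isomorphisms Scheme) f _ (fun V => V.2)
  have hsG : ∀ y : Y, h y = s → y ∈ G := by
    intro y hy
    have hyr : y ∈ Set.range (h.fiberι s) := by rw [Scheme.Hom.range_fiberι]; exact hy
    obtain ⟨y', rfl⟩ := hyr
    obtain ⟨x', rfl⟩ :=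
      (CohIII.fiberMapOver f (f ≫ h) h rfl s).homeomorph.surjective y'
    have hy' : h (h.fiberι s ((CohIII.fiberMapOver f (f ≫ h) h rfl s) x')) = s := hy
    have hpt : f ((f ≫ h).fiberι s x') =
        h.fiberι s ((CohIII.fiberMapOver f (f ≫ h) h rfl s) x') := by
      rw [← Scheme.Hom.comp_apply, ← Scheme.Hom.comp_apply, fiberMapOver_fiberι]
    change h.fiberι s ((CohIII.fiberMapOver f (f ≫ h) h rfl s) x') ∈ G
    rw [← hpt]
    have hyV₀ : f ((f ≫ h).fiberι s x') ∈ h ⁻¹ᵁ U₁ ⊓ h ⁻¹ᵁ W := by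
      refine ⟨?_, ?_⟩
      · show h (f ((f ≫ h).fiberι s x')) ∈ U₁
        rw [hpt, hy']
        exact hsU₁
      · show h (f ((f ≫ h).fiberι s x')) ∈ W
        rw [hpt, hy']
        exact hsW
    obtain ⟨U, hUaff, hyU, hUV₀⟩ : ∃ U : Y.Opens, U ∈ Y.affineOpens ∧
        f ((f ≫ h).fiberι s x') ∈ U ∧ U ≤ h ⁻¹ᵁ U₁ ⊓ h ⁻¹ᵁ W :=
      Opens.isBasis_iff_nbhd.mp Y.isBasis_affineOpens hyV₀
    have hUaff' : IsAffineOpen U := hUaff
    have hciU : IsClosedImmersion (f ∣_ U) :=
      morphismRestrict_of_le f (hUV₀.trans inf_le_left) hci₁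
    have haffU : IsAffine U := hUaff'
    have hU' : IsAffineOpen (f ⁻¹ᵁ U) := isAffine_of_isAffineHom (f ∣_ U)
    have hsurjU := surjective_app_of_isClosedImmersion_morphismRestrict f hUaff'
    have hfg' : (RingHom.ker (f.app U).hom).FG :=
      ker_app_fg_of_finitePresentation f h hWaff' hUaff' (hUV₀.trans inf_le_right) hU' hsurjU
    have hflat := Flat.stalkMap (f ≫ h) ((f ≫ h).fiberι s x')
    have hsurj := surjective_stalkMap_of_morphismRestrict f U ((f ≫ h).fiberι s x') hyU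
    have hfg : (RingHom.ker (f.stalkMap ((f ≫ h).fiberι s x')).hom).FG := by
      rw [ker_stalkMap_eq_map_germ f hUaff' hU' hsurjU _ hyU]
      exact hfg'.map _
    have hinj := injective_stalkMap_of_isIso_fiberMapOver f h s x' hflat hsurj hfg
    obtain ⟨V, hyV, -, hV⟩ :=
      exists_isIso_morphismRestrict_of_injective_stalkMap f U hUaff' hfg'
        ((f ≫ h).fiberι s x') hyU hinj
    exact (le_iSup (fun V : {V : Y.Opens // IsIso (f ∣_ V)} => V.1) ⟨V, hV⟩) hyV
  obtain ⟨U, hsU, hUG⟩ := exists_opens_preimage_le_of_fibre_subset h G s hsG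
  exact ⟨U, hsU, morphismRestrict_of_le (P := MorphismProperty.isomorphisms Scheme) f hUG hG⟩

end Groth.Agent.Lib.Helper38
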