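import Groth.Agent.S3563
import Groth.Agent.Lib.Helper42.ProjLoc
import Groth.Agent.Lib.Proj.Helper56_Charts
import Mathlib.AlgebraicGeometry.Limits

/-!
# Coordinate linear embeddings `P^n_k ⟶ P^N_k` and closed immersions from coproducts (helper38)

ns `Groth.Agent.Lib.Helper38.LinEmb`.
* `isClosedImmersion_coprodDesc` : `coprod.desc f g` is a closed immersion if `f`, `g` are closed immersions
  with disjoint ranges.
* `gpi ι : k[X_0..X_N] →+*ᵍ k[X_0..X_n]` for an injective `ι : Fin (n+1) → Fin (N+1)`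
  (`X_{ι i} ↦ X_i`, other variables to `0`); `emb ι : P^n ⟶ P^N`, a closed immersion over the base,
  with `emb ι ⁻¹ᵁ D₊(X_j) = ⊥` for `j ∉ range ι`.
-/

set_option autoImplicit false
set_option linter.style.haveILetI false
universe u
open CategoryTheory CategoryTheory.Limits AlgebraicGeometry TopologicalSpace Opposite MvPolynomial

namespace Groth.Agent.Lib.Helper38.LinEmb

section Coprod

variable {X₁ X₂ P : Scheme.{u}}

theorem isClosedImmersion_coprodDesc (f : X₁ ⟶ P) (g : X₂ ⟶ P) [hf : IsClosedImmersion f]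
    [hg : IsClosedImmersion g] (hdisj : Disjoint (Set.range f) (Set.range g)) :
    IsClosedImmersion (coprod.desc f g) := by
  have hS : SurjectiveOnStalks (coprod.desc f g) := by
    rw [IsZariskiLocalAtSource.iff_of_openCover (P := @SurjectiveOnStalks)
      (coprodOpenCover.{u, 0} X₁ X₂)]
    rintro (i | i)
    · have : (coprodOpenCover.{u, 0} X₁ X₂).f (Sum.inl i) ≫ coprod.desc f g = f := coprod.inl_desc f g
      rw [this]
      exact hf.toSurjectiveOnStalks
    · have : (coprodOpenCover.{u, 0} X₁ X₂).f (Sum.inr i) ≫ coprod.desc f g = g := coprod.inr_desc f g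
      rw [this]
      exact hg.toSurjectiveOnStalks
  have hinj : Function.Injective (Sum.elim (f : X₁ → P) (g : X₂ → P)) := by
    rintro (a | a) (b | b) h
    · exact congrArg Sum.inl (f.isClosedEmbedding.injective h)
    · exact absurd h (Set.disjoint_iff_forall_ne.mp hdisj ⟨a, rfl⟩ ⟨b, rfl⟩)
    · exact absurd h.symm (Set.disjoint_iff_forall_ne.mp hdisj ⟨b, rfl⟩ ⟨a, rfl⟩)
    · exact congrArg Sum.inr (g.isClosedEmbedding.injective h)
  have hE : Topology.IsClosedEmbedding (Sum.elim (f : X₁ → P) (g : X₂ → P)) :=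
    Topology.IsClosedEmbedding.sumElim f.isClosedEmbedding g.isClosedEmbedding hinj
  have hfun : (coprod.desc f g : ↥(X₁ ⨿ X₂) → P) =
      Sum.elim (f : X₁ → P) (g : X₂ → P) ∘ (coprodMk X₁ X₂).symm := by
    funext x
    obtain ⟨x | x, rfl⟩ := (coprodMk X₁ X₂).surjective x
    · rw [Function.comp_apply, Homeomorph.symm_apply_apply, coprodMk_inl, Sum.elim_inl,
        ← Scheme.Hom.comp_apply, coprod.inl_desc]
    · rw [Function.comp_apply, Homeomorph.symm_apply_apply, coprodMk_inr, Sum.elim_inr,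
        ← Scheme.Hom.comp_apply, coprod.inr_desc]
  have hC : Topology.IsClosedEmbedding (coprod.desc f g : ↥(X₁ ⨿ X₂) → P) := by
    rw [hfun]
    exact hE.comp (coprodMk X₁ X₂).symm.isClosedEmbedding
  exact { toSurjectiveOnStalks := hS, isClosedEmbedding := hC }

end Coprod

section Emb

variable (R : Type u) [CommRing R] {n N : ℕ} (ι : Fin (n + 1) → Fin (N + 1))

/-- the images of the variables -/
noncomputable def gen : Fin (N + 1) → MvPolynomial (Fin (n + 1)) R :=
  Function.extend ι (fun i => (X i : MvPolynomial (Fin (n + 1)) R)) 0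

/-- `X_{ι i} ↦ X_i`, the other variables to `0` -/
noncomputable def piAlg : MvPolynomial (Fin (N + 1)) R →ₐ[R] MvPolynomial (Fin (n + 1)) R :=
  MvPolynomial.aeval (gen R ι)

variable {ι}

lemma gen_apply (hι : Function.Injective ι) (i : Fin (n + 1)) : gen R ι (ι i) = X i :=
  hι.extend_apply _ _ i

lemma gen_of_not_mem (j : Fin (N + 1)) (hj : ¬ ∃ i, ι i = j) : gen R ι j = 0 :=
  Function.extend_apply' _ _ j hj

lemma gen_isHomogeneous (hι : Function.Injective ι) (j : Fin (N + 1)) :
    (gen R ι j).IsHomogeneous 1 := by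
  by_cases hj : ∃ i, ι i = j
  · obtain ⟨i, rfl⟩ := hj
    rw [gen_apply R hι]
    exact isHomogeneous_X R i
  · rw [gen_of_not_mem R j hj]
    exact isHomogeneous_zero _ _ _

lemma piAlg_X_of_not_mem (j : Fin (N + 1)) (hj : ¬ ∃ i, ι i = j) :
    piAlg R ι (X j) = 0 := by
  rw [piAlg, aeval_X, gen_of_not_mem R j hj]

lemma piAlg_rename (hι : Function.Injective ι) (p : MvPolynomial (Fin (n + 1)) R) :
    piAlg R ι (rename ι p) = p := by
  rw [piAlg, aeval_rename]
  have : gen R ι ∘ ι = X := funext fun i => gen_apply R hι i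
  rw [this, aeval_X_left, AlgHom.id_apply]

lemma piAlg_C (r : R) : piAlg R ι (C r) = C r := by
  rw [piAlg, aeval_C]; rfl

lemma piAlg_mem (hι : Function.Injective ι) {d : ℕ} {x : MvPolynomial (Fin (N + 1)) R}
    (hx : x ∈ CohB1.polyGrading N R d) : piAlg R ι x ∈ CohB1.polyGrading n R d := by
  have h : (aeval (gen R ι) x).IsHomogeneous (1 * d) :=
    IsHomogeneous.aeval (show x.IsHomogeneous d from hx) (gen R ι) (gen_isHomogeneous R hι)
  rw [one_mul] at h
  exact h

lemma rename_mem {d : ℕ} {x : MvPolynomial (Fin (n + 1)) R}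
    (hx : x ∈ CohB1.polyGrading n R d) : rename ι x ∈ CohB1.polyGrading N R d :=
  IsHomogeneous.rename_isHomogeneous (show x.IsHomogeneous d from hx)

/-- `piAlg` as a graded ring hom -/
noncomputable def gpi (hι : Function.Injective ι) :
    (CohB1.polyGrading N R) →+*ᵍ (CohB1.polyGrading n R) where
  toRingHom := (piAlg R ι).toRingHom
  map_mem := fun hx => piAlg_mem R hι hx

lemma gpi_apply (hι : Function.Injective ι) (x : MvPolynomial (Fin (N + 1)) R) :
    gpi R hι x = piAlg R ι x := rfl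

lemma gpi_surjective (hι : Function.Injective ι) : Function.Surjective (gpi R hι) :=
  fun x => ⟨rename ι x, piAlg_rename R hι x⟩

lemma irrelevant_le_map_gpi (hι : Function.Injective ι) :
    HomogeneousIdeal.irrelevant (CohB1.polyGrading n R) ≤
      (HomogeneousIdeal.irrelevant (CohB1.polyGrading N R)).map (gpi R hι) := by
  rw [HomogeneousIdeal.irrelevant_le]
  intro d hd b hb
  have h : b = gpi R hι (rename ι b) := (piAlg_rename R hι b).symm
  rw [h]
  exact Ideal.mem_map_of_mem _
    (HomogeneousIdeal.mem_irrelevant_of_mem (CohB1.polyGrading N R) hd (rename_mem R hb))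

/-- the coordinate linear embedding `P^n ⟶ P^N` -/
noncomputable def emb (hι : Function.Injective ι) : CohB1.ProjSpace n R ⟶ CohB1.ProjSpace N R :=
  Proj.map (gpi R hι) (irrelevant_le_map_gpi R hι)

instance (hι : Function.Injective ι) : IsClosedImmersion (emb R hι) :=
  Groth.Agent.S3563.result (CohB1.polyGrading N R) (CohB1.polyGrading n R) (gpi R hι)
    (gpi_surjective R hι) (irrelevant_le_map_gpi R hι)

lemma emb_toSpec (hι : Function.Injective ι) :
    emb R hι ≫ CohB1.ProjSpace.toSpec N R = CohB1.ProjSpace.toSpec n R := by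
  have h := Groth.Agent.Lib.Helper42.ProjLoc.map_toSpecZero (gpi R hι) (irrelevant_le_map_gpi R hι)
    (algebraMap R (CohB1.polyGrading N R 0)) (algebraMap R (CohB1.polyGrading n R 0)) (RingHom.id R)
    (fun r => piAlg_C R r)
  rw [CommRingCat.ofHom_id, Spec.map_id, Category.comp_id] at h
  exact h

lemma emb_preimage_of_not_mem (hι : Function.Injective ι) (j : Fin (N + 1)) (hj : ¬ ∃ i, ι i = j) :
    emb R hι ⁻¹ᵁ Proj.basicOpen (CohB1.polyGrading N R) (X j) = ⊥ := by
  have h1 : emb R hι ⁻¹ᵁ Proj.basicOpen (CohB1.polyGrading N R) (X j) =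
      Proj.basicOpen (CohB1.polyGrading n R) (gpi R hι (X j)) :=
    Proj.map_preimage_basicOpen (gpi R hι) (irrelevant_le_map_gpi R hι) (X j)
  rw [h1, gpi_apply, piAlg_X_of_not_mem R j hj]
  exact Proj.basicOpen_zero _

end Emb

section Main

variable (R : Type u) [CommRing R] (n m : ℕ)

/-- first block of coordinates -/
def ι₁ : Fin (n + 1) → Fin (n + m + 1 + 1) := fun i => ⟨i.1, by have := i.2; omega⟩

/-- second block of coordinates -/
def ι₂ : Fin (m + 1) → Fin (n + m + 1 + 1) := fun i => ⟨n + 1 + i.1, by have := i.2; omega⟩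

lemma ι₁_injective : Function.Injective (ι₁ n m) := by
  intro a b h
  have := congrArg Fin.val h
  exact Fin.ext this

lemma ι₂_injective : Function.Injective (ι₂ n m) := by
  intro a b h
  have := congrArg Fin.val h
  simp only [ι₂] at this
  exact Fin.ext (by omega)

theorem disjoint_range_emb :
    Disjoint (Set.range (emb R (ι₁_injective n m))) (Set.range (emb R (ι₂_injective n m))) := by
  rw [Set.disjoint_left]
  rintro z ⟨x, rfl⟩ ⟨y, hy⟩
  have hz : emb R (ι₁_injective n m) x ∈ (⊤ : (Proj (CohB1.polyGrading (n + m + 1) R)).Opens) :=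
    trivial
  rw [← Groth.Agent.Lib.Proj.iSup_basicOpen_X (n + m + 1) R] at hz
  obtain ⟨j, hj⟩ := Opens.mem_iSup.1 hz
  by_cases hlt : j.1 < n + 1
  · -- `j` is not in the second block
    have hnot : ¬ ∃ i, ι₂ n m i = j := by
      rintro ⟨i, rfl⟩
      simp only [ι₂] at hlt
      omega
    have h1 := emb_preimage_of_not_mem R (ι₂_injective n m) j hnot
    have h2 : y ∈ emb R (ι₂_injective n m) ⁻¹ᵁ
        Proj.basicOpen (CohB1.polyGrading (n + m + 1) R) (X j) := by
      show emb R (ι₂_injective n m) y ∈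
        Proj.basicOpen (CohB1.polyGrading (n + m + 1) R) (X j)
      rw [hy]
      exact hj
    rw [h1] at h2
    exact h2
  · have hnot : ¬ ∃ i, ι₁ n m i = j := by
      rintro ⟨i, rfl⟩
      have := i.2
      simp only [ι₁] at hlt
      omega
    have h1 := emb_preimage_of_not_mem R (ι₁_injective n m) j hnot
    have h2 : x ∈ emb R (ι₁_injective n m) ⁻¹ᵁ
        Proj.basicOpen (CohB1.polyGrading (n + m + 1) R) (X j) := hj
    rw [h1] at h2
    exact h2

theorem exists_closedImmersion_coprod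
    (X₁ X₂ : Scheme.{u}) (s₁ : X₁ ⟶ Spec (CommRingCat.of R)) (s₂ : X₂ ⟶ Spec (CommRingCat.of R))
    (i₁ : X₁ ⟶ CohB1.ProjSpace n R) [IsClosedImmersion i₁]
    (h₁ : i₁ ≫ CohB1.ProjSpace.toSpec n R = s₁)
    (i₂ : X₂ ⟶ CohB1.ProjSpace m R) [IsClosedImmersion i₂]
    (h₂ : i₂ ≫ CohB1.ProjSpace.toSpec m R = s₂) :
    ∃ j : X₁ ⨿ X₂ ⟶ CohB1.ProjSpace (n + m + 1) R, IsClosedImmersion j ∧
      j ≫ CohB1.ProjSpace.toSpec (n + m + 1) R = coprod.desc s₁ s₂ := by
  have hd : Disjoint (Set.range (i₁ ≫ emb R (ι₁_injective n m)))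
      (Set.range (i₂ ≫ emb R (ι₂_injective n m))) := by
    refine (disjoint_range_emb R n m).mono ?_ ?_
    · rintro _ ⟨x, rfl⟩
      exact ⟨i₁ x, rfl⟩
    · rintro _ ⟨x, rfl⟩
      exact ⟨i₂ x, rfl⟩
  refine ⟨coprod.desc (i₁ ≫ emb R (ι₁_injective n m)) (i₂ ≫ emb R (ι₂_injective n m)),
    isClosedImmersion_coprodDesc _ _ hd, ?_⟩
  apply coprod.hom_ext
  · rw [coprod.inl_desc_assoc, coprod.inl_desc, Category.assoc, emb_toSpec, h₁]
  · rw [coprod.inr_desc_assoc, coprod.inr_desc, Category.assoc, emb_toSpec, h₂]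

end Main

end Groth.Agent.Lib.Helper38.LinEmb
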