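import Mathlib

/-!
# Largest open over which a morphism has a property `P`, and flat open base change

`P` stable under base change, Zariski-local on the target, descending along fpqc morphisms.
-/

set_option autoImplicit false
universe u

open CategoryTheory CategoryTheory.Limits AlgebraicGeometry

namespace Groth.Agent.Lib.Helper38.MaxOpen

variable (P : MorphismProperty Scheme.{u})

/-- Base change transfer: if `b` is a base change of `f` along `h` with `P b`, then any base change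
`b'` of `f` along `k ≫ h` has `P`. -/
lemma of_isPullback_comp [P.IsStableUnderBaseChange] {X Y T T' A A' : Scheme.{u}}
    {f : X ⟶ Y} {h : T ⟶ Y} {a : A ⟶ X} {b : A ⟶ T} (sq : IsPullback a b f h) (hb : P b)
    {h' : T' ⟶ Y} {a' : A' ⟶ X} {b' : A' ⟶ T'} (sq' : IsPullback a' b' f h')
    (k : T' ⟶ T) (hk : k ≫ h = h') : P b' := by
  subst hk
  have w : a' ≫ f = (b' ≫ k) ≫ h := by rw [sq'.w, Category.assoc]
  have hl₁ : sq.lift a' (b' ≫ k) w ≫ a = a' := sq.lift_fst _ _ _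
  have hl₂ : sq.lift a' (b' ≫ k) w ≫ b = b' ≫ k := sq.lift_snd _ _ _
  have big : IsPullback (sq.lift a' (b' ≫ k) w ≫ a) b' f (k ≫ h) := by rwa [hl₁]
  have := IsPullback.of_right big hl₂ sq
  exact P.of_isPullback this hb

/-- If `P (f ∣_ W)`, then for a base change `b` of `f` along `p`, `P (b ∣_ p ⁻¹ᵁ W)`. -/
lemma morphismRestrict_preimage [P.IsStableUnderBaseChange] {X Y T A : Scheme.{u}}
    {f : X ⟶ Y} {p : T ⟶ Y} {a : A ⟶ X} {b : A ⟶ T} (sq : IsPullback a b f p)
    (W : Y.Opens) (hW : P (f ∣_ W)) : P (b ∣_ p ⁻¹ᵁ W) := by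
  have sq1 : IsPullback (f ⁻¹ᵁ W).ι (f ∣_ W) f W.ι := (isPullback_morphismRestrict f W).flip
  have sq2 : IsPullback ((b ⁻¹ᵁ p ⁻¹ᵁ W).ι ≫ a) (b ∣_ p ⁻¹ᵁ W) f ((p ⁻¹ᵁ W).ι ≫ p) :=
    (isPullback_morphismRestrict b (p ⁻¹ᵁ W)).flip.paste_horiz sq
  exact of_isPullback_comp P sq1 hW sq2 (p ∣_ W) (morphismRestrict_ι p W)

/-- Restricting a base change to an open: the restriction is a base change along `U.ι ≫ p`. -/
lemma isPullback_morphismRestrict_comp {X Y T A : Scheme.{u}}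
    {f : X ⟶ Y} {p : T ⟶ Y} {a : A ⟶ X} {b : A ⟶ T} (sq : IsPullback a b f p) (U : T.Opens) :
    IsPullback ((b ⁻¹ᵁ U).ι ≫ a) (b ∣_ U) f (U.ι ≫ p) :=
  (isPullback_morphismRestrict b U).flip.paste_horiz sq

/-- Core descent step: if the base change of `f` along a flat morphism `p` with open underlying map
has `P`, then `f` has `P` over every affine open contained in the image of `p`. -/
lemma morphismRestrict_of_subset_range [P.IsStableUnderBaseChange]
    [P.DescendsAlong (@Flat ⊓ @Surjective ⊓ @QuasiCompact)]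
    {X Y T A : Scheme.{u}} {f : X ⟶ Y} {p : T ⟶ Y} [Flat p] (hp : IsOpenMap p.base)
    {a : A ⟶ X} {b : A ⟶ T} (sq : IsPullback a b f p) (hb : P b)
    (U : Y.Opens) (hU : IsAffineOpen U) (hUp : (U : Set Y) ⊆ Set.range p.base) : P (f ∣_ U) := by
  obtain ⟨V : T.Opens, hV, hVU⟩ := hp.exists_opens_image_eq_of_prespectralSpace p.continuous hUp
    U.2 hU.isCompact
  have hrange : Set.range (V.ι ≫ p).base ⊆ Set.range U.ι.base := by
    rw [Scheme.Opens.range_ι]
    rintro _ ⟨x, rfl⟩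
    rw [← hVU]
    exact ⟨x.1, x.2, rfl⟩
  let q' : V.toScheme ⟶ U.toScheme := IsOpenImmersion.lift U.ι (V.ι ≫ p) hrange
  have hq' : q' ≫ U.ι = V.ι ≫ p := IsOpenImmersion.lift_fac _ _ _
  have : Flat (q' ≫ U.ι) := by rw [hq']; infer_instance
  have hflat : Flat q' := MorphismProperty.of_postcomp (W := @Flat) (W' := @IsOpenImmersion) q' U.ι
    inferInstance this
  have hsurj : Surjective q' := by
    refine ⟨fun u ↦ ?_⟩
    have hu : (U.ι u : Y) ∈ (U : Set Y) := u.2
    rw [← hVU] at hu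
    obtain ⟨x, hx, hxu⟩ := hu
    refine ⟨⟨x, hx⟩, ?_⟩
    apply U.ι.injective
    rw [← Scheme.Hom.comp_apply, hq']
    exact hxu
  have : CompactSpace V.toScheme := isCompact_iff_compactSpace.mp hV
  have : IsAffine U.toScheme := hU
  have hqc : QuasiCompact q' := inferInstance
  refine MorphismProperty.of_isPullback_of_descendsAlong
    (Q := @Flat ⊓ @Surjective ⊓ @QuasiCompact) (IsPullback.of_hasPullback q' (f ∣_ U))
    ⟨⟨hflat, hsurj⟩, hqc⟩ ?_
  have sq2 : IsPullback (pullback.snd q' (f ∣_ U) ≫ (f ⁻¹ᵁ U).ι) (pullback.fst q' (f ∣_ U)) f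
      (q' ≫ U.ι) :=
    ((IsPullback.of_hasPullback q' (f ∣_ U)).paste_vert (isPullback_morphismRestrict f U)).flip
  exact of_isPullback_comp P sq hb sq2 V.ι hq'.symm

/-- Universally-open variant of the core descent step: if the base change of `f` along a flat
universally open `p` has `P`, then `f` has `P` over the (open) image of `p`. -/
lemma morphismRestrict_of_range_eq [P.IsStableUnderBaseChange]
    [P.DescendsAlong (@Flat ⊓ @Surjective ⊓ @UniversallyOpen)]
    {X Y T A : Scheme.{u}} {f : X ⟶ Y} {p : T ⟶ Y} [Flat p] [UniversallyOpen p]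
    {a : A ⟶ X} {b : A ⟶ T} (sq : IsPullback a b f p) (hb : P b)
    (U : Y.Opens) (hUp : Set.range p.base = (U : Set Y)) : P (f ∣_ U) := by
  have hrange : Set.range p.base ⊆ Set.range U.ι.base := by
    rw [Scheme.Opens.range_ι, hUp]
  let q' : T ⟶ U.toScheme := IsOpenImmersion.lift U.ι p hrange
  have hq' : q' ≫ U.ι = p := IsOpenImmersion.lift_fac _ _ _
  have h1 : Flat (q' ≫ U.ι) := by rw [hq']; infer_instance
  have h2 : UniversallyOpen (q' ≫ U.ι) := by rw [hq']; infer_instance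
  have hflat : Flat q' := MorphismProperty.of_postcomp (W := @Flat) (W' := @IsOpenImmersion) q' U.ι
    inferInstance h1
  have hopen : UniversallyOpen q' := MorphismProperty.of_postcomp (W := @UniversallyOpen)
    (W' := @IsOpenImmersion) q' U.ι inferInstance h2
  have hsurj : Surjective q' := by
    refine ⟨fun u ↦ ?_⟩
    have hu : (U.ι u : Y) ∈ (U : Set Y) := u.2
    rw [← hUp] at hu
    obtain ⟨x, hxu⟩ := hu
    refine ⟨x, ?_⟩
    apply U.ι.injective
    rw [← Scheme.Hom.comp_apply, hq']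
    exact hxu
  refine MorphismProperty.of_isPullback_of_descendsAlong
    (Q := @Flat ⊓ @Surjective ⊓ @UniversallyOpen) (IsPullback.of_hasPullback q' (f ∣_ U))
    ⟨⟨hflat, hsurj⟩, hopen⟩ ?_
  have sq2 : IsPullback (pullback.snd q' (f ∣_ U) ≫ (f ⁻¹ᵁ U).ι) (pullback.fst q' (f ∣_ U)) f
      (q' ≫ U.ι) :=
    ((IsPullback.of_hasPullback q' (f ∣_ U)).paste_vert (isPullback_morphismRestrict f U)).flip
  exact of_isPullback_comp P sq hb sq2 (𝟙 _) (by rw [Category.id_comp, hq'])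

/-- There is a largest open over which `f` has `P`. -/
lemma exists_maxOpen [P.IsStableUnderBaseChange] [IsZariskiLocalAtTarget P]
    {X Y : Scheme.{u}} (f : X ⟶ Y) :
    ∃ V : Y.Opens, P (f ∣_ V) ∧ ∀ V' : Y.Opens, P (f ∣_ V') → V' ≤ V := by
  let V : Y.Opens := ⨆ V' : {V' : Y.Opens // P (f ∣_ V')}, V'.1
  refine ⟨V, ?_, fun V' hV' ↦ le_iSup (fun V' : {V' : Y.Opens // P (f ∣_ V')} ↦ V'.1) ⟨V', hV'⟩⟩
  refine IsZariskiLocalAtTarget.of_iSup_eq_top
    (fun V' : {V' : Y.Opens // P (f ∣_ V')} ↦ V.ι ⁻¹ᵁ V'.1) ?_ fun V' ↦ ?_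
  · rw [eq_top_iff]
    rintro x -
    have hx : (V.ι x : Y) ∈ V := x.2
    obtain ⟨V', hxV'⟩ := TopologicalSpace.Opens.mem_iSup.mp hx
    exact TopologicalSpace.Opens.mem_iSup.mpr ⟨V', hxV'⟩
  · have sq1 : IsPullback (f ⁻¹ᵁ V'.1).ι (f ∣_ V'.1) f V'.1.ι :=
      (isPullback_morphismRestrict f V'.1).flip
    have sq2 := isPullback_morphismRestrict_comp (isPullback_morphismRestrict f V).flip
      (V.ι ⁻¹ᵁ V'.1)
    have hrange : Set.range ((V.ι ⁻¹ᵁ V'.1).ι ≫ V.ι).base ⊆ Set.range V'.1.ι.base := by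
      rw [Scheme.Opens.range_ι]
      rintro _ ⟨x, rfl⟩
      exact x.2
    exact of_isPullback_comp P sq1 V'.2 sq2 (IsOpenImmersion.lift V'.1.ι _ hrange)
      (IsOpenImmersion.lift_fac _ _ _)

/-- Let `P` be fpqc local on the target. Let `g : Y' ⟶ Y` be flat with open underlying map and `f'`
the base change of `f` along `g`. If `W` is the largest open of `Y` over which `f` has `P` and
`W₁` the largest open of `Y'` over which `f'` has `P`, then `W₁ = g ⁻¹ᵁ W`. -/
theorem maxOpen_eq_preimage [P.IsStableUnderBaseChange] [IsZariskiLocalAtTarget P]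
    [P.DescendsAlong (@Flat ⊓ @Surjective ⊓ @QuasiCompact)]
    {X Y Y' X' : Scheme.{u}} {f : X ⟶ Y} {g : Y' ⟶ Y} {g' : X' ⟶ X} {f' : X' ⟶ Y'}
    (sq : IsPullback g' f' f g) [Flat g] (hg : IsOpenMap g.base)
    (W : Y.Opens) (hW : P (f ∣_ W)) (hmax : ∀ W₀ : Y.Opens, P (f ∣_ W₀) → W₀ ≤ W)
    (W₁ : Y'.Opens) (hW₁ : P (f' ∣_ W₁)) (hmax₁ : ∀ W₀ : Y'.Opens, P (f' ∣_ W₀) → W₀ ≤ W₁) :
    W₁ = g ⁻¹ᵁ W := by
  apply le_antisymm
  · intro y' hy'
    -- the image of `W₁` is an open neighbourhood of `g y'`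
    have hopen : IsOpen (g.base '' (W₁ : Set Y')) := hg _ W₁.2
    obtain ⟨U, hU, hyU, hUW⟩ := exists_isAffineOpen_mem_and_subset (x := g.base y')
      (U := ⟨_, hopen⟩) ⟨y', hy', rfl⟩
    have hp : IsOpenMap (W₁.ι ≫ g).base := by
      rw [Scheme.Hom.comp_base]
      exact hg.comp W₁.ι.isOpenEmbedding.isOpenMap
    have hUp : (U : Set Y) ⊆ Set.range (W₁.ι ≫ g).base := by
      intro y hy
      obtain ⟨z, hz, rfl⟩ := hUW hy
      exact ⟨⟨z, hz⟩, rfl⟩
    have := morphismRestrict_of_subset_range P hp (isPullback_morphismRestrict_comp sq W₁) hW₁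
      U hU hUp
    exact hmax U this hyU
  · exact hmax₁ _ (morphismRestrict_preimage P sq W hW)

end Groth.Agent.Lib.Helper38.MaxOpen
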