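import Groth.Agent.Lib.Helper38.MaxOpen

/-!
# Largest `P`-open for `P` local on the target for a precoverage `Scheme.precoverage Q`

`Q` is a class of open maps containing open immersions (Zariski, étale, smooth, fppf).
-/

set_option autoImplicit false
universe u

open CategoryTheory CategoryTheory.Limits AlgebraicGeometry

namespace Groth.Agent.Lib.Helper38.MaxOpenK

open Groth.Agent.Lib.Helper38.MaxOpen

/-- The comparison square between two base changes of `f`, along `h` and along `k ≫ h`. -/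
lemma isPullback_lift_of_comp {X Y T T' A A' : Scheme.{u}}
    {f : X ⟶ Y} {h : T ⟶ Y} {a : A ⟶ X} {b : A ⟶ T} (sq : IsPullback a b f h)
    {h' : T' ⟶ Y} {a' : A' ⟶ X} {b' : A' ⟶ T'} (sq' : IsPullback a' b' f h')
    (k : T' ⟶ T) (hk : k ≫ h = h') :
    ∃ l : A' ⟶ A, IsPullback l b' b k := by
  subst hk
  have w : a' ≫ f = (b' ≫ k) ≫ h := by rw [sq'.w, Category.assoc]
  have hl₁ : sq.lift a' (b' ≫ k) w ≫ a = a' := sq.lift_fst _ _ _
  have hl₂ : sq.lift a' (b' ≫ k) w ≫ b = b' ≫ k := sq.lift_snd _ _ _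
  have big : IsPullback (sq.lift a' (b' ≫ k) w ≫ a) b' f (k ≫ h) := by rwa [hl₁]
  exact ⟨_, IsPullback.of_right big hl₂ sq⟩

variable (Q : MorphismProperty Scheme.{u}) [Q.IsStableUnderBaseChange] [Q.IsStableUnderComposition]
  [Q.ContainsIdentities] (P : MorphismProperty Scheme.{u}) [P.IsLocalAtTarget (Scheme.precoverage Q)]

include Q in
/-- `P` is stable under base change along `Q`-morphisms. -/
lemma baseChange {X Y T A : Scheme.{u}} {f : X ⟶ Y} {h : T ⟶ Y} (hQ : Q h) {a : A ⟶ X}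
    {b : A ⟶ T} (sq : IsPullback a b f h) (hf : P f) : P b :=
  MorphismProperty.IsLocalAtTarget.of_isPullback
    ((Scheme.coverOfIsIso.{u} (P := Q) (𝟙 Y)).add h hQ) none sq hf

include Q in
/-- `P` descends along surjective `Q`-morphisms. -/
lemma descend {X Y T A : Scheme.{u}} {f : X ⟶ Y} {q : T ⟶ Y} (hQ : Q q) (hsurj : Surjective q)
    {a : A ⟶ X} {b : A ⟶ T} (sq : IsPullback a b f q) (hb : P b) : P f := by
  let 𝒰 : Scheme.Cover.{u} (Scheme.precoverage Q) Y := Scheme.Cover.mkOfCovers PUnit.{u + 1} (fun _ => T)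
    (fun _ => q) (fun y => ⟨⟨⟩, hsurj.surj y⟩) (fun _ => hQ)
  apply MorphismProperty.IsLocalAtTarget.of_zeroHypercover (P := P) 𝒰
  intro i
  change P (pullback.snd f q)
  rw [← sq.isoPullback_inv_snd, P.cancel_left_of_respectsIso]
  exact hb

include Q in
/-- Characterization of the opens over which a `Q`-base change of `f` has `P`, in terms of the
largest `P`-open of `f`. -/
theorem morphismRestrict_iff_le_preimage
    (hOI : ∀ {A B : Scheme.{u}} (i : A ⟶ B), IsOpenImmersion i → Q i)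
    (hopen : ∀ {A B : Scheme.{u}} (g : A ⟶ B), Q g → IsOpenMap g.base)
    {X Y Y' X' : Scheme.{u}} {f : X ⟶ Y} {g : Y' ⟶ Y} {g' : X' ⟶ X} {f' : X' ⟶ Y'}
    (sq : IsPullback g' f' f g) (hg : Q g)
    (W : Y.Opens) (hW : P (f ∣_ W)) (hmax : ∀ W₀ : Y.Opens, P (f ∣_ W₀) → W₀ ≤ W)
    (W' : Y'.Opens) : P (f' ∣_ W') ↔ W' ≤ g ⁻¹ᵁ W := by
  have hQcomp : Q (W'.ι ≫ g) := Q.comp_mem _ _ (hOI _ inferInstance) hg
  have sq2 := isPullback_morphismRestrict_comp sq W'
  constructor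
  · intro hb
    -- the image of `W'`
    let V : Y.Opens := ⟨g.base '' (W' : Set Y'), hopen g hg _ W'.2⟩
    have hrange : Set.range (W'.ι ≫ g).base ⊆ Set.range V.ι.base := by
      rw [Scheme.Opens.range_ι]
      rintro _ ⟨x, rfl⟩
      exact ⟨x.1, x.2, rfl⟩
    let q : W'.toScheme ⟶ V.toScheme := IsOpenImmersion.lift V.ι (W'.ι ≫ g) hrange
    have hq : q ≫ V.ι = W'.ι ≫ g := IsOpenImmersion.lift_fac _ _ _
    have hQq : Q q := MorphismProperty.of_postcomp (W := Q) (W' := @IsOpenImmersion) q V.ι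
      inferInstance (hq ▸ hQcomp)
    have hsurj : Surjective q := by
      refine ⟨fun v ↦ ?_⟩
      obtain ⟨x, hx, hxv⟩ := v.2
      refine ⟨⟨x, hx⟩, ?_⟩
      apply V.ι.injective
      rw [← Scheme.Hom.comp_apply, hq]
      exact hxv
    obtain ⟨l, sq3⟩ := isPullback_lift_of_comp (isPullback_morphismRestrict f V).flip sq2 q hq
    have hV : P (f ∣_ V) := descend Q P hQq hsurj sq3 hb
    have hVW := hmax V hV
    intro y hy
    exact hVW ⟨y, hy, rfl⟩
  · intro hle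
    have hrange : Set.range (W'.ι ≫ g).base ⊆ Set.range W.ι.base := by
      rw [Scheme.Opens.range_ι]
      rintro _ ⟨x, rfl⟩
      exact hle x.2
    let k : W'.toScheme ⟶ W.toScheme := IsOpenImmersion.lift W.ι (W'.ι ≫ g) hrange
    have hk : k ≫ W.ι = W'.ι ≫ g := IsOpenImmersion.lift_fac _ _ _
    have hQk : Q k := MorphismProperty.of_postcomp (W := Q) (W' := @IsOpenImmersion) k W.ι
      inferInstance (hk ▸ hQcomp)
    obtain ⟨l, sq3⟩ := isPullback_lift_of_comp (isPullback_morphismRestrict f W).flip sq2 k hk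
    exact baseChange Q P hQk sq3 hW

include Q in
/-- Two `Q`-base changes of `f` giving the same morphism `f'` have the same preimage of the
largest `P`-open. -/
theorem preimage_eq_preimage
    (hOI : ∀ {A B : Scheme.{u}} (i : A ⟶ B), IsOpenImmersion i → Q i)
    (hopen : ∀ {A B : Scheme.{u}} (g : A ⟶ B), Q g → IsOpenMap g.base)
    {X Y Y' X' : Scheme.{u}} {f : X ⟶ Y} {g₁ g₂ : Y' ⟶ Y} {g₁' g₂' : X' ⟶ X} {f' : X' ⟶ Y'}
    (sq₁ : IsPullback g₁' f' f g₁) (sq₂ : IsPullback g₂' f' f g₂) (hg₁ : Q g₁) (hg₂ : Q g₂)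
    (W : Y.Opens) (hW : P (f ∣_ W)) (hmax : ∀ W₀ : Y.Opens, P (f ∣_ W₀) → W₀ ≤ W) :
    g₁ ⁻¹ᵁ W = g₂ ⁻¹ᵁ W := by
  have h₁ := morphismRestrict_iff_le_preimage Q P hOI hopen sq₁ hg₁ W hW hmax
  have h₂ := morphismRestrict_iff_le_preimage Q P hOI hopen sq₂ hg₂ W hW hmax
  apply le_antisymm
  · exact (h₂ _).mp ((h₁ _).mpr le_rfl)
  · exact (h₁ _).mp ((h₂ _).mpr le_rfl)

end Groth.Agent.Lib.Helper38.MaxOpenK
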