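import Groth.Prelude.Def_ModSt
import Groth.Agent.Lib.Helper43.StkFullSub
import Groth.Agent.Lib.QCoh.Helper74_FlatOverBaseChange
import Groth.Agent.Lib.QCoh.Helper50_FPPullback
import Groth.Agent.Lib.QCoh.Helper50_FPExtD
import Groth.Agent.Lib.Helper25.GenPSpSheaf5

set_option autoImplicit false
set_option linter.style.haveILetI false
universe u
open CategoryTheory CategoryTheory.Limits AlgebraicGeometry Opposite

namespace Groth.Agent.Lib.Helper38.ModStFib

open ModSt

variable {X S : Scheme.{u}} {f : X ⟶ S}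

/-- extensionality with equal tops up to `pushforwardCongr` -/
theorem hom_ext_of_c {A B : Obj f} (φ ψ : A ⟶ B) (hb : φ.base = ψ.base) (ht : φ.top = ψ.top)
    (hc : φ.c ≫ (Scheme.Modules.pushforwardCongr ht).hom.app A.E = ψ.c) : φ = ψ := by
  obtain ⟨b, t, wp, wq, c, hcart⟩ := φ
  obtain ⟨b', t', wp', wq', c', hcart'⟩ := ψ
  dsimp only at hb ht
  subst hb
  subst ht
  have hcc : c = c' := by
    dsimp only at hc
    rw [← hc]
    apply Scheme.Modules.hom_ext
    intro U
    ext x
    simp <;> rfl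
  subst hcc
  rfl

end Groth.Agent.Lib.Helper38.ModStFib

namespace Groth.Agent.Lib.Helper38.ModStFib

open ModSt

variable {X S : Scheme.{u}} {f : X ⟶ S}

/-- two-out-of-three for cartesian comparison maps -/
theorem isCart_of_comp {Y Z W : Scheme.{u}} {h₁ : Y ⟶ Z} {h₂ : Z ⟶ W} {P : W.Modules}
    {N : Z.Modules} {M : Y.Modules}
    {c₁ : N ⟶ (Scheme.Modules.pushforward h₁).obj M} {c₂ : P ⟶ (Scheme.Modules.pushforward h₂).obj N}
    (hc₂ : IsCart h₂ c₂)
    (hc : IsCart (h₁ ≫ h₂) (c₂ ≫ (Scheme.Modules.pushforward h₂).map c₁ ≫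
      (Scheme.Modules.pushforwardComp h₁ h₂).hom.app M)) :
    IsCart h₁ c₁ := by
  intro M'
  have heq : (fun v : M ⟶ M' => (c₂ ≫ (Scheme.Modules.pushforward h₂).map c₁ ≫
      (Scheme.Modules.pushforwardComp h₁ h₂).hom.app M) ≫ (Scheme.Modules.pushforward (h₁ ≫ h₂)).map v) =
      (((Scheme.Modules.pushforwardComp h₁ h₂).app M').homToEquiv ∘
        (fun w : N ⟶ (Scheme.Modules.pushforward h₁).obj M' => c₂ ≫ (Scheme.Modules.pushforward h₂).map w)) ∘
        (fun v : M ⟶ M' => c₁ ≫ (Scheme.Modules.pushforward h₁).map v) := by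
    funext v
    simp only [Function.comp_apply, Iso.homToEquiv_apply, Iso.app_hom, Category.assoc, Functor.map_comp]
    rw [← (Scheme.Modules.pushforwardComp h₁ h₂).hom.naturality v]
    rfl
  have h1 := hc M'
  rw [heq] at h1
  exact (Function.Bijective.of_comp_iff' ((Equiv.bijective _).comp (hc₂ _)) _).1 h1

/-- the cartesian lift of an object along a morphism of bases -/
noncomputable def liftObj (x : Obj f) (V : Over S) (g : V ⟶ x.base) : Obj f where
  base := V
  XT := pullback x.q g.left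
  p := pullback.fst x.q g.left ≫ x.p
  q := pullback.snd x.q g.left
  isPullback := by
    have h := (IsPullback.of_hasPullback x.q g.left).paste_horiz x.isPullback
    rwa [Over.w g] at h
  E := (Scheme.Modules.pullback (pullback.fst x.q g.left)).obj x.E

/-- the cartesian morphism from the lift -/
noncomputable def liftHom (x : Obj f) (V : Over S) (g : V ⟶ x.base) : liftObj x V g ⟶ x where
  base := g
  top := pullback.fst x.q g.left
  w_p := rfl
  w_q := pullback.condition
  c := (Scheme.Modules.pullbackPushforwardAdjunction (pullback.fst x.q g.left)).unit.app x.E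
  cart := by
    intro M'
    have heq : (fun v : (liftObj x V g).E ⟶ M' =>
        (Scheme.Modules.pullbackPushforwardAdjunction (pullback.fst x.q g.left)).unit.app x.E ≫
          (Scheme.Modules.pushforward (pullback.fst x.q g.left)).map v) =
        ((Scheme.Modules.pullbackPushforwardAdjunction (pullback.fst x.q g.left)).homEquiv x.E M') := by
      funext v
      exact (Adjunction.homEquiv_unit _ _ _ _).symm
    exact heq ▸ Equiv.bijective _

end Groth.Agent.Lib.Helper38.ModStFib

namespace Groth.Agent.Lib.Helper38.ModStFib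

open ModSt

variable {X S : Scheme.{u}} {f : X ⟶ S}

lemma isHomLift_iff {A B : Obj f} (g : A.base ⟶ B.base) (χ : A ⟶ B) :
    (Fam f).p.IsHomLift g χ ↔ χ.base = g := by
  constructor
  · intro h
    exact (@IsHomLift.eq_of_isHomLift _ _ _ _ (Fam f).p A B g χ h).symm
  · rintro rfl
    exact IsHomLift.map (Fam f).p χ

lemma c_eq_of_eq {A B : Obj f} {ψ₁ ψ₂ : A ⟶ B} (h : ψ₁ = ψ₂) :
    ψ₁.c ≫ (Scheme.Modules.pushforwardCongr (congrArg Obj.Hom.top h)).hom.app A.E = ψ₂.c := by
  subst h
  apply Scheme.Modules.hom_ext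
  intro U
  ext x
  simp <;> rfl

lemma congr_symm_hom_congr_hom {Y Z : Scheme.{u}} {a b : Y ⟶ Z} (h : a = b) (M : Y.Modules) :
    (Scheme.Modules.pushforwardCongr h.symm).hom.app M ≫
      (Scheme.Modules.pushforwardCongr h).hom.app M = 𝟙 _ := by
  subst h
  apply Scheme.Modules.hom_ext
  intro U
  ext x
  simp <;> rfl


lemma congr_hom_congr_symm_hom {Y Z : Scheme.{u}} {a b : Y ⟶ Z} (h : a = b) (M : Y.Modules) :
    (Scheme.Modules.pushforwardCongr h).hom.app M ≫
      (Scheme.Modules.pushforwardCongr h.symm).hom.app M = 𝟙 _ := by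
  subst h
  apply Scheme.Modules.hom_ext
  intro U
  ext x
  simp <;> rfl

theorem existsUnique_fac {y x a' : Obj f} (φ : y ⟶ x) (g : a'.base ⟶ y.base) (φ' : a' ⟶ x)
    (hb : φ'.base = g ≫ φ.base) : ∃! χ : a' ⟶ y, χ.base = g ∧ χ ≫ φ = φ' := by
  have hgl : a'.q ≫ φ'.base.left = (a'.q ≫ g.left) ≫ φ.base.left := by
    rw [hb, Category.assoc]; rfl
  have hcomm : a'.p ≫ f = (a'.q ≫ g.left) ≫ y.base.hom := by
    rw [a'.isPullback.w, Category.assoc, Over.w g]
  let t : a'.XT ⟶ y.XT := y.isPullback.lift a'.p (a'.q ≫ g.left) hcomm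
  have ht_p : t ≫ y.p = a'.p := y.isPullback.lift_fst _ _ _
  have ht_q : t ≫ y.q = a'.q ≫ g.left := y.isPullback.lift_snd _ _ _
  have htop : t ≫ φ.top = φ'.top := by
    apply x.isPullback.hom_ext
    · rw [Category.assoc, φ.w_p, ht_p, φ'.w_p]
    · rw [Category.assoc, φ.w_q, reassoc_of% ht_q, φ'.w_q, hgl, Category.assoc]
  let M' : y.XT.Modules := (Scheme.Modules.pushforward t).obj a'.E
  let target : x.E ⟶ (Scheme.Modules.pushforward φ.top).obj M' :=
    φ'.c ≫ (Scheme.Modules.pushforwardCongr htop.symm).hom.app a'.E ≫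
      (Scheme.Modules.pushforwardComp t φ.top).inv.app a'.E
  obtain ⟨c, hc⟩ := (φ.cart M').2 target
  have hc' : φ.c ≫ (Scheme.Modules.pushforward φ.top).map c = target := hc
  have hcomp : φ.c ≫ (Scheme.Modules.pushforward φ.top).map c ≫
      (Scheme.Modules.pushforwardComp t φ.top).hom.app a'.E =
      φ'.c ≫ (Scheme.Modules.pushforwardCongr htop.symm).hom.app a'.E := by
    rw [← Category.assoc, hc']
    simp only [target, Category.assoc, Iso.inv_hom_id_app, Category.comp_id]
  have hcart : IsCart t c := by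
    refine isCart_of_comp φ.cart ?_
    rw [hcomp]
    exact IsCart.congr φ'.cart htop.symm
  let χ : a' ⟶ y := { base := g, top := t, w_p := ht_p, w_q := ht_q, c := c, cart := hcart }
  have hχφ : χ ≫ φ = φ' := by
    refine hom_ext_of_c _ _ hb.symm htop ?_
    rw [Obj.comp_c]
    show (φ.c ≫ (Scheme.Modules.pushforward φ.top).map c ≫
      (Scheme.Modules.pushforwardComp t φ.top).hom.app a'.E) ≫ _ = _
    rw [hcomp]
    exact (Category.assoc _ _ _).trans ((congrArg (fun m => φ'.c ≫ m)
      (congr_symm_hom_congr_hom htop a'.E)).trans (Category.comp_id _))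
  refine ⟨χ, ⟨rfl, hχφ⟩, ?_⟩
  rintro ⟨b', t', wp', wq', c', hcart'⟩ ⟨hb', h2⟩
  dsimp only at hb'
  subst hb'
  have ht' : t' = t := by
    apply y.isPullback.hom_ext
    · rw [wp', ht_p]
    · rw [wq', ht_q]
  subst ht'
  have h3 := c_eq_of_eq h2
  rw [Obj.comp_c] at h3
  have h3' : (φ.c ≫ (Scheme.Modules.pushforward φ.top).map c' ≫
      (Scheme.Modules.pushforwardComp t φ.top).hom.app a'.E) ≫
      (Scheme.Modules.pushforwardCongr htop).hom.app a'.E = φ'.c := h3
  have e1 : (Scheme.Modules.pushforwardComp t φ.top).hom.app a'.E ≫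
      (Scheme.Modules.pushforwardComp t φ.top).inv.app a'.E = 𝟙 _ := Iso.hom_inv_id_app _ _
  have e2 := congr_hom_congr_symm_hom htop a'.E
  have h4 : c' = c := by
    apply (φ.cart M').1
    show φ.c ≫ (Scheme.Modules.pushforward φ.top).map c' =
      φ.c ≫ (Scheme.Modules.pushforward φ.top).map c
    rw [hc']
    show _ = φ'.c ≫ (Scheme.Modules.pushforwardCongr htop.symm).hom.app a'.E ≫
      (Scheme.Modules.pushforwardComp t φ.top).inv.app a'.E
    rw [← h3']
    simp only [Category.assoc]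
    rw [reassoc_of% e2, e1]
    exact (congrArg (fun m => φ.c ≫ m) (Category.comp_id _)).symm
  subst h4
  rfl

theorem isStronglyCartesian {y x : Obj f} (φ : y ⟶ x) :
    (Fam f).p.IsStronglyCartesian ((Fam f).p.map φ) φ := by
  refine { universal_property' := ?_ }
  intro a' g φ' hφ'
  have hb : φ'.base = g ≫ φ.base := (isHomLift_iff (A := a') (B := x) (g ≫ φ.base) φ').1 hφ'
  obtain ⟨χ, ⟨h1, h2⟩, h3⟩ := existsUnique_fac φ g φ' hb
  refine ⟨χ, ⟨(isHomLift_iff (A := a') (B := y) g χ).2 h1, h2⟩, ?_⟩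
  rintro χ' ⟨h1', h2'⟩
  exact h3 χ' ⟨(isHomLift_iff (A := a') (B := y) g χ').1 h1', h2'⟩

end Groth.Agent.Lib.Helper38.ModStFib

namespace Groth.Agent.Lib.Helper38.ModStFib

open ModSt

variable {X S : Scheme.{u}} {f : X ⟶ S}

theorem isFibGrpd_fam : FibCat.IsFibGrpd (Fam f).p where
  exists_lift := fun {x V} g =>
    ⟨liftObj x V g, liftHom x V g, (isHomLift_iff (A := liftObj x V g) (B := x) g (liftHom x V g)).2 rfl⟩
  isStronglyCartesian := fun φ => isStronglyCartesian φ

/-- a cartesian comparison map identifies the source module with the pullback -/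
theorem nonempty_iso_pullback_of_isCart {Y Z : Scheme.{u}} (h : Y ⟶ Z) {N : Z.Modules}
    {M : Y.Modules} (c : N ⟶ (Scheme.Modules.pushforward h).obj M) (hc : IsCart h c) :
    Nonempty ((Scheme.Modules.pullback h).obj N ≅ M) := by
  let adj := Scheme.Modules.pullbackPushforwardAdjunction h
  let a : (Scheme.Modules.pullback h).obj N ⟶ M := (adj.homEquiv N M).symm c
  have : IsIso a := by
    apply isIso_of_coyoneda_map_bijective
    intro M'
    have heq : (fun v : M ⟶ M' => a ≫ v) =
        (adj.homEquiv N M').symm ∘ (fun v : M ⟶ M' => c ≫ (Scheme.Modules.pushforward h).map v) := by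
      funext v
      exact (Adjunction.homEquiv_naturality_right_symm adj c v).symm
    rw [heq]
    exact (Equiv.bijective _).comp (hc M')
  exact ⟨asIso a⟩

theorem isCohObj_of_hom {y x : Obj f} (φ : y ⟶ x) (hx : IsCohObj x) : IsCohObj y := by
  obtain ⟨hflat, hfp⟩ := hx
  haveI : x.E.IsFinitePresentation := hfp
  haveI : x.E.IsQuasicoherent := inferInstance
  obtain ⟨e⟩ := nonempty_iso_pullback_of_isCart φ.top φ.c φ.cart
  constructor
  · have h1 := Groth.Agent.Lib.QCoh.isFlatOver_pullback_of_isPullback x.q φ.base.left φ.top y.q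
      (Obj.Hom.isPullback_top φ) x.E hflat
    intro z
    exact Groth.Agent.Lib.Helper25.GenPSpSheaf5.isFlatOverAt_of_iso y.q e z (h1 z)
  · haveI := Groth.Agent.Lib.QCoh.FPPullback.isFinitePresentation_pullback φ.top x.E
    exact Groth.Agent.Lib.QCoh.FPExt.isFinitePresentation_of_iso e

theorem isFibGrpd_coh (f : X ⟶ S) : FibCat.IsFibGrpd (ModSt.Coh f).p := by
  refine Groth.Agent.Lib.Helper43.StkFullSub.isFibGrpd_sub (𝒳 := Fam f) (IsCohObj (f := f))
    isFibGrpd_fam ?_
  intro y x φ hx
  exact ⟨y, Iso.refl y, isCohObj_of_hom φ hx, by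
    show (Fam f).p.IsHomLift (𝟙 ((Fam f).p.obj y)) (𝟙 y)
    infer_instance⟩

end Groth.Agent.Lib.Helper38.ModStFib
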