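import Mathlib.RingTheory.Norm.Basic
import Mathlib.LinearAlgebra.Charpoly.BaseChange
import Mathlib.RingTheory.IsTensorProduct
import Mathlib.Algebra.Category.Ring.Constructions

/-!
# Norms commute with base change
-/

set_option autoImplicit false
universe u

open TensorProduct CategoryTheory CategoryTheory.Limits

namespace Groth.Agent.Lib.Helper38.NormBC

theorem norm_baseChange {A B A' : Type*} [CommRing A] [CommRing B] [CommRing A'] [Algebra A B]
    [Algebra A A'] [Module.Free A B] [Module.Finite A B] (b : B) :
    Algebra.norm A' ((1 : A') ⊗ₜ[A] b) = algebraMap A A' (Algebra.norm A b) := by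
  rw [Algebra.norm_apply, Algebra.norm_apply, ← LinearMap.det_baseChange]
  congr 1
  ext x
  simp

theorem norm_of_algIsPushout {A B A' P : Type*} [CommRing A] [CommRing B] [CommRing A']
    [CommRing P] [Algebra A B] [Algebra A A'] [Algebra A' P] [Algebra B P] [Algebra A P]
    [IsScalarTower A A' P] [IsScalarTower A B P] [Algebra.IsPushout A A' B P]
    [Module.Free A B] [Module.Finite A B] (b : B) :
    Algebra.norm A' (algebraMap B P b) = algebraMap A A' (Algebra.norm A b) := by
  have h1 : algebraMap B P b = Algebra.IsPushout.equiv A A' B P ((1 : A') ⊗ₜ[A] b) := by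
    rw [Algebra.IsPushout.equiv_tmul, map_one, one_mul]
  rw [h1, Algebra.norm_eq_of_algEquiv, norm_baseChange]

/-- Norms commute with base change, for a pushout square of commutative rings. -/
theorem norm_of_isPushout {A B A' P : Type u} [CommRing A] [CommRing B] [CommRing A']
    [CommRing P] (σ : A →+* B) (φ : A →+* A') (q : B →+* P) (p : A' →+* P)
    (h : IsPushout (CommRingCat.ofHom φ) (CommRingCat.ofHom σ) (CommRingCat.ofHom p)
      (CommRingCat.ofHom q))
    (hfree : @Module.Free A B _ _ σ.toAlgebra.toModule)
    (hfin : @Module.Finite A B _ _ σ.toAlgebra.toModule) (b : B) :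
    @Algebra.norm A' P _ _ p.toAlgebra (q b) = φ (@Algebra.norm A B _ _ σ.toAlgebra b) := by
  letI := σ.toAlgebra
  letI := φ.toAlgebra
  letI := q.toAlgebra
  letI := p.toAlgebra
  letI := (p.comp φ).toAlgebra
  have hw : p.comp φ = q.comp σ := by
    have := h.w
    ext a
    exact congrArg (fun f => f.hom a) this
  have : IsScalarTower A A' P := .of_algebraMap_eq' rfl
  have : IsScalarTower A B P := .of_algebraMap_eq' hw
  have : Algebra.IsPushout A A' B P := CommRingCat.isPushout_iff_isPushout.mp h
  exact norm_of_algIsPushout (A := A) (B := B) (A' := A') (P := P) b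

end Groth.Agent.Lib.Helper38.NormBC
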