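import Groth.Prelude.Def_Grpd

/-!
# The pair groupoid `(U, U ×_S U)` and the morphism `j = (t, s)` into it
-/

set_option autoImplicit false
set_option backward.isDefEq.respectTransparency false
universe u

open CategoryTheory CategoryTheory.Limits AlgebraicGeometry Grpd

namespace Groth.Agent.Lib.Helper38.PairGrpd

variable {S : Scheme.{u}} (G : Grpd.GroupoidScheme S)

/-- The pair groupoid on `U` over `S`: arrows `U ×_S U`, target `fst`, source `snd`. -/
noncomputable def pair : Grpd.GroupoidScheme S where
  U := G.U
  R := pullback G.pU G.pU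
  pU := G.pU
  pR := pullback.fst G.pU G.pU ≫ G.pU
  s := pullback.snd G.pU G.pU
  t := pullback.fst G.pU G.pU
  e := pullback.lift (𝟙 _) (𝟙 _) rfl
  i := pullback.lift (pullback.snd G.pU G.pU) (pullback.fst G.pU G.pU) pullback.condition.symm
  c := pullback.lift
    (pullback.fst (pullback.snd G.pU G.pU) (pullback.fst G.pU G.pU) ≫ pullback.fst G.pU G.pU)
    (pullback.snd (pullback.snd G.pU G.pU) (pullback.fst G.pU G.pU) ≫ pullback.snd G.pU G.pU)
    (by rw [Category.assoc, pullback.condition, ← Category.assoc, pullback.condition,
      Category.assoc, pullback.condition, Category.assoc])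
  s_over := pullback.condition.symm
  t_over := rfl
  comp_s := fun α β h => by simp
  comp_t := fun α β h => by simp
  assoc := fun α β γ h₁ h₂ => by apply pullback.hom_ext <;> simp
  e_s := by simp
  e_t := by simp
  comp_e := fun α => by apply pullback.hom_ext <;> simp
  e_comp := fun α => by apply pullback.hom_ext <;> simp
  i_s := by simp
  i_t := by simp
  comp_i := fun α => by apply pullback.hom_ext <;> simp
  i_comp := fun α => by apply pullback.hom_ext <;> simp

lemma pair_c_fst : (pair G).c ≫ pullback.fst G.pU G.pU =
    pullback.fst (pullback.snd G.pU G.pU) (pullback.fst G.pU G.pU) ≫ pullback.fst G.pU G.pU :=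
  pullback.lift_fst _ _ _

lemma pair_c_snd : (pair G).c ≫ pullback.snd G.pU G.pU =
    pullback.snd (pullback.snd G.pU G.pU) (pullback.fst G.pU G.pU) ≫ pullback.snd G.pU G.pU :=
  pullback.lift_snd _ _ _

/-- `j = (t, s)` as a morphism of groupoid schemes to the pair groupoid. -/
noncomputable def jHom : Grpd.GroupoidScheme.Hom G (pair G) where
  fU := 𝟙 _
  fR := G.j
  fU_over := Category.id_comp _
  comm_s := by simp [pair, Grpd.GroupoidScheme.j]
  comm_t := by simp [pair, Grpd.GroupoidScheme.j]
  comm_c := fun α β h => by
    apply pullback.hom_ext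
    · have := G.comp_t α β h
      rw [Category.assoc] at this
      simp [pair, Grpd.GroupoidScheme.j, this]
    · have := G.comp_s α β h
      rw [Category.assoc] at this
      simp [pair, Grpd.GroupoidScheme.j, this]

end Groth.Agent.Lib.Helper38.PairGrpd
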