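import Groth.Agent.Lib.Ample.Helper50_LocalGen
import Groth.Agent.Lib.Helper48.UfdPic

/-!
# Picard group of projective space over a UFD, part A (helper38)

ns `Groth.Agent.Lib.Helper38.PicPn`.
* `exists_isGenerator_of_iso'` : a trivialisation of `L` along an open immersion `f` gives a free
  generator of `L` over `f.opensRange`.
* `exists_isGenerator_of_ufd` : an invertible module has a free generator over the range of an open
  immersion from the spectrum of a UFD.
* `unit_decomp'` : units of `S[1/p]`, `S` a UFD (through a ring isomorphism), `p` prime.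
-/

set_option linter.style.haveILetI false
universe u

open CategoryTheory MonoidalCategory Opposite TensorProduct AlgebraicGeometry TopologicalSpace

namespace Groth.Agent.Lib.Helper38.PicPn

open Groth.Agent.Lib.QCoh CohB1 Scheme.Modules Groth.Agent.Lib.Ample

section FromIso

variable {X Y : Scheme.{u}} {L : X.Modules} (f : Y ⟶ X) [IsOpenImmersion f]
  (φ : L.restrict f ≅ Coh.structureModule Y)

/-- the generator over `f ''ᵁ V'` given by a trivialization -/
noncomputable def genOfIso' (V' : Y.Opens) : Γ(L, f ''ᵁ V') :=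
  φ.inv.app V' (show Γ(Coh.structureModule Y, V') from (1 : Γ(Y, V')))

lemma genOfIso'_res {V' W' : Y.Opens} (i : W' ⟶ V') :
    L.presheaf.map (homOfLE (Scheme.Hom.image_mono f i.le)).op (genOfIso' f φ V') =
      genOfIso' f φ W' := by
  unfold genOfIso'
  have h := app_naturality_apply φ.inv i (show Γ(Coh.structureModule Y, V') from (1 : Γ(Y, V')))
  refine Eq.trans ?_ (h.symm.trans ?_)
  · rfl
  · congr 1
    exact map_one (Y.presheaf.map i.op).hom

lemma smul_genOfIso' (V' : Y.Opens) (a : Γ(X, f ''ᵁ V')) :
    a • genOfIso' f φ V' = φ.inv.app V'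
      (show Γ(Coh.structureModule Y, V') from (f.appIso V').hom a) := by
  unfold genOfIso'
  have h1 := Hom.app_smul φ.inv ((f.appIso V').hom a)
    (show Γ(Coh.structureModule Y, V') from (1 : Γ(Y, V')))
  have h2 : ((f.appIso V').hom a) •
    (show Γ(Coh.structureModule Y, V') from (1 : Γ(Y, V'))) =
    (show Γ(Coh.structureModule Y, V') from (f.appIso V').hom a) :=
    mul_one ((f.appIso V').hom a)
  rw [h2] at h1
  refine Eq.trans ?_ h1.symm
  have h3 : (f.appIso V').inv ((f.appIso V').hom a) = a := by
    rw [← CommRingCat.comp_apply, Iso.hom_inv_id]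
    rfl
  conv_lhs => rw [← h3]
  rfl

lemma bijective_smul_genOfIso' (V' : Y.Opens) :
    Function.Bijective (fun a : Γ(X, f ''ᵁ V') => a • genOfIso' f φ V') := by
  have hb : Function.Bijective (φ.inv.app V') := ConcreteCategory.bijective_of_isIso _
  have hc : Function.Bijective (f.appIso V').hom := ConcreteCategory.bijective_of_isIso _
  have : (fun a : Γ(X, f ''ᵁ V') => a • genOfIso' f φ V') =
      (fun r => φ.inv.app V' r) ∘ (fun a => (f.appIso V').hom a) := by
    funext a
    exact smul_genOfIso' f φ V' a
  rw [this]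
  exact hb.comp hc

include φ in
/-- a trivialization of `L` along the open immersion `f` gives a free generator of `L` over
`f.opensRange` -/
theorem exists_isGenerator_of_iso' : ∃ e : Γ(L, f.opensRange), IsGenerator L f.opensRange e := by
  have key : ∀ (U' : X.Opens) (_ : f ''ᵁ ⊤ = U'), ∃ e : Γ(L, U'), IsGenerator L U' e := by
    rintro _ rfl
    refine ⟨genOfIso' f φ ⊤, ?_⟩
    rw [isGenerator_iff]
    intro V hV
    obtain ⟨V', rfl⟩ : ∃ V' : Y.Opens, V = f ''ᵁ V' := by
      refine ⟨f ⁻¹ᵁ V, ?_⟩
      rw [Scheme.Hom.image_preimage_eq_opensRange_inf]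
      exact (inf_eq_right.2 (hV.trans_eq (Scheme.Hom.image_top_eq_opensRange _))).symm
    have h1 := genOfIso'_res f φ (homOfLE (le_top : V' ≤ ⊤))
    have h2 : L.presheaf.map (homOfLE hV).op (genOfIso' f φ ⊤) = genOfIso' f φ V' := h1
    rw [h2]
    exact bijective_smul_genOfIso' f φ V'
  exact key f.opensRange (Scheme.Hom.image_top_eq_opensRange f)

end FromIso

theorem exists_isGenerator_of_ufd {X : Scheme.{u}} {R' : CommRingCat.{u}} [IsDomain R']
    [UniqueFactorizationMonoid R'] (g : Spec R' ⟶ X) [IsOpenImmersion g] {M : X.Modules}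
    (hM : PicF.IsInvertible M) (U : X.Opens) (hU : g.opensRange = U) :
    ∃ e : Γ(M, U), IsGenerator M U e := by
  let T : (Spec R').Opens := ⊤
  let f : (T : Scheme.{u}) ⟶ X := T.ι ≫ g
  have hL : PicF.IsInvertible (M.restrict f) := isInvertible_restrict f hM
  obtain ⟨φ⟩ := Groth.Agent.Lib.Helper48.UfdPic.trivial_of_ufd T (M.restrict f) hL
  have hr : f.opensRange = U := by
    rw [← hU]
    show (T.ι ≫ g).opensRange = g.opensRange
    rw [Scheme.Hom.opensRange_comp, Scheme.Opens.opensRange_ι]
    exact Scheme.Hom.image_top_eq_opensRange g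
  subst hr
  exact exists_isGenerator_of_iso' f φ


theorem unit_decomp0 {S T : Type*} [CommRing S] [IsDomain S] [UniqueFactorizationMonoid S]
    [CommRing T] [Algebra S T] (p : S) (hp : Prime p) [IsLocalization.Away p T] (a : T)
    (ha : IsUnit a) :
    ∃ (k m : ℕ) (b : S), IsUnit b ∧
      a * algebraMap S T p ^ k = algebraMap S T p ^ m * algebraMap S T b := by
  haveI : IsLocalization.Away (p * 1) T := by rw [mul_one]; infer_instance
  haveI : IsLocalization.Away (1 : S) S :=
    IsLocalization.away_of_isUnit_of_bijective S isUnit_one Function.bijective_id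
  obtain ⟨k, m, b, hb, h⟩ := Groth.Agent.Lib.Helper48.UfdPic.unit_decomp (R := S) (B := T) (C := S)
    (f := 1) (p := p) (algebraMap S T) (fun r => rfl) one_ne_zero hp a ha
  exact ⟨k, m, b, hb, h⟩

/-- units of `S[1/p]` where `S` is (isomorphic to) a UFD and `p` is prime -/
theorem unit_decomp' {S B T : Type*} [CommRing S] [CommRing B] [IsDomain B]
    [UniqueFactorizationMonoid B] [CommRing T] [Algebra S T] (E : S ≃+* B) (p : S)
    (hp : Prime (E p)) [IsLocalization.Away p T] (a : T) (ha : IsUnit a) :
    ∃ (k m : ℕ) (b : S), IsUnit b ∧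
      a * algebraMap S T p ^ k = algebraMap S T p ^ m * algebraMap S T b := by
  haveI : IsDomain S := E.toMulEquiv.isDomain B
  haveI : UniqueFactorizationMonoid S :=
    E.toMulEquiv.symm.uniqueFactorizationMonoid inferInstance
  have hp' : Prime p := (MulEquiv.prime_iff E.toMulEquiv).1 hp
  exact unit_decomp0 p hp' a ha


end Groth.Agent.Lib.Helper38.PicPn
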