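import Groth.Agent.Lib.Helper38.SepPtsA

/-!
# Separating points and tangent vectors: `k`-points of `P^n_k` (helper38)

ns `Groth.Agent.Lib.Helper38.SepPts`.
* `ev σ V hV` : evaluation of functions at a `k`-point `σ`; `ev_baseHom`, `ev_eq_zero_iff`.
* `sections_ringHom_ext`, `basicOpen_zfrac`, `zfrac_self`, `mem_primeIdealOf_iff`.
* `maximalIdeal_le_span_linFrac` : the maximal ideal at a `k`-point of `P^n_k` is generated by germs of
  linear forms vanishing there.
* `exists_linFrac_separating_same_chart`, `exists_linFrac_separating_other_chart` : linear forms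
  separate distinct `k`-points.
-/

universe u
open CategoryTheory CategoryTheory.Limits AlgebraicGeometry TopologicalSpace Opposite
  HomogeneousLocalization

namespace Groth.Agent.Lib.Helper38.SepPts

open Groth.Agent.Lib.Ample Groth.Agent.Lib.QCoh Groth.Agent.Lib.Proj Groth.Agent.Lib.Proj.ToProj
  Groth.Agent.Lib.Proj.ToPn Groth.Agent.Lib.Proj.PullSec Groth.Agent.Lib.Proj.QuotCompare
  Groth.Agent.Lib.Proj.PnUP Groth.Agent.Lib.Proj.PnUnique Groth.Agent.Lib.Proj.Segre
  Scheme.Modules Twist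

section Eval

variable {k : Type u} [Field k] {Y : Scheme.{u}} (p : Y ⟶ Spec (CommRingCat.of k))
  (σ : Spec (CommRingCat.of k) ⟶ Y) (hσ : σ ≫ p = 𝟙 _) (V : Y.Opens)

/-- the point of `Spec k` -/
noncomputable abbrev pt (k : Type u) [Field k] : Spec (CommRingCat.of k) := IsLocalRing.closedPoint k

lemma eq_pt (t : Spec (CommRingCat.of k)) : t = pt k :=
  (inferInstance : Subsingleton (PrimeSpectrum k)).elim _ _

variable (hV : σ (pt k) ∈ V)

include hV in
lemma top_le_preimage : (⊤ : (Spec (CommRingCat.of k)).Opens) ≤ σ ⁻¹ᵁ V := by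
  intro t _
  rw [eq_pt t]
  exact hV

/-- evaluation of functions on `V` at the `k`-point `σ` -/
noncomputable def ev : Γ(Y, V) →+* k :=
  (Scheme.ΓSpecIso (CommRingCat.of k)).hom.hom.comp (σ.appLE V ⊤ (top_le_preimage σ V hV)).hom

include hσ in
lemma ev_baseHom (c : k) : ev σ V hV (baseHom p V c) = c := by
  have hVp : V ≤ p ⁻¹ᵁ ⊤ := le_top
  have h1 : p.appLE ⊤ V hVp ≫ σ.appLE V ⊤ (top_le_preimage σ V hV) = 𝟙 _ := by
    rw [Scheme.Hom.appLE_comp_appLE]
    have : ∀ (g : Spec (CommRingCat.of k) ⟶ Spec (CommRingCat.of k)) (hg : g = 𝟙 _)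
        (e : (⊤ : (Spec (CommRingCat.of k)).Opens) ≤ g ⁻¹ᵁ ⊤), g.appLE ⊤ ⊤ e = 𝟙 _ := by
      intro g hg e
      subst hg
      simp only [Scheme.Hom.appLE, Scheme.Hom.id_app]
      exact (congrArg (fun m => (Spec (CommRingCat.of k)).presheaf.map m)
        (Subsingleton.elim (homOfLE e).op (𝟙 (op ⊤)))).trans
        ((Spec (CommRingCat.of k)).presheaf.map_id _)
    exact this _ hσ _
  have h2 := congrArg (fun φ => φ.hom ((Scheme.ΓSpecIso (CommRingCat.of k)).inv.hom c)) h1
  show (Scheme.ΓSpecIso (CommRingCat.of k)).hom.hom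
    ((σ.appLE V ⊤ (top_le_preimage σ V hV)).hom (baseHom p V c)) = c
  have h3 : (σ.appLE V ⊤ (top_le_preimage σ V hV)).hom (baseHom p V c) =
      (Scheme.ΓSpecIso (CommRingCat.of k)).inv.hom c := h2
  rw [h3]
  exact congrArg (fun φ => φ.hom c) (Scheme.ΓSpecIso (CommRingCat.of k)).inv_hom_id

lemma ev_eq_zero_iff (b : Γ(Y, V)) :
    ev σ V hV b = 0 ↔
      Y.presheaf.germ V (σ (pt k)) hV b ∈ IsLocalRing.maximalIdeal (Y.presheaf.stalk (σ (pt k))) := by
  have hinj : Function.Injective (Scheme.ΓSpecIso (CommRingCat.of k)).hom.hom :=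
    (ConcreteCategory.bijective_of_isIso (Scheme.ΓSpecIso (CommRingCat.of k)).hom).1
  have h1 : ev σ V hV b = 0 ↔ (σ.appLE V ⊤ (top_le_preimage σ V hV)).hom b = 0 := by
    show (Scheme.ΓSpecIso (CommRingCat.of k)).hom.hom _ = 0 ↔ _
    rw [map_eq_zero_iff _ hinj]
  rw [h1, ← AlgebraicGeometry.basicOpen_eq_bot_iff]
  have h2 : (Spec (CommRingCat.of k)).basicOpen ((σ.appLE V ⊤ (top_le_preimage σ V hV)).hom b) =
      ⊤ ⊓ σ ⁻¹ᵁ (Y.basicOpen b) := by
    rw [Scheme.preimage_basicOpen]
    exact Scheme.basicOpen_res _ _ _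
  rw [h2, IsLocalRing.mem_maximalIdeal, mem_nonunits_iff, ← Scheme.mem_basicOpen _ _ _ hV]
  constructor
  · intro h hmem
    have : pt k ∈ (⊤ ⊓ σ ⁻¹ᵁ (Y.basicOpen b) : (Spec (CommRingCat.of k)).Opens) := ⟨trivial, hmem⟩
    rw [h] at this
    exact this
  · intro h
    ext t
    simp only [Opens.coe_inf, Opens.coe_top, Set.univ_inter, Opens.coe_bot, Set.mem_empty_iff_false,
      iff_false]
    rw [eq_pt t]
    exact h

end Eval

section Charts

variable (R : Type u) [CommRing R] (n : ℕ) (j : Fin (n + 1))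

/-- `awayToSection` sends constants to constants -/
lemma awayToSection_constHom (c : R) :
    (Proj.awayToSection (CohB1.polyGrading n R) (MvPolynomial.X j)).hom (constHom n R j c) =
      baseHom (pSpec R n) (D R n j) c := by
  have h := appLE_const n (pSpec R n) (𝟙 (Proj (CohB1.polyGrading n R))) (Category.id_comp _) j
    (D R n j) le_rfl c
  have : ∀ (e : D R n j ≤ (𝟙 (Proj (CohB1.polyGrading n R))) ⁻¹ᵁ D R n j),
      (𝟙 (Proj (CohB1.polyGrading n R)) : _ ⟶ _).appLE (D R n j) (D R n j) e = 𝟙 _ := by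
    intro e
    simp only [Scheme.Hom.appLE, Scheme.Hom.id_app]
    exact (congrArg (fun m => (Proj (CohB1.polyGrading n R)).presheaf.map m)
      (Subsingleton.elim (homOfLE e).op (𝟙 (op (D R n j))))).trans
      ((Proj (CohB1.polyGrading n R)).presheaf.map_id _)
  have key : ∀ (e : D R n j ≤ (𝟙 (Proj (CohB1.polyGrading n R))) ⁻¹ᵁ D R n j)
      (x : Γ(Proj (CohB1.polyGrading n R), D R n j)),
      ((𝟙 (Proj (CohB1.polyGrading n R)) : _ ⟶ _).appLE (D R n j) (D R n j) e).hom x = x := by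
    intro e x
    rw [this e]
    rfl
  exact (key _ _).symm.trans h

lemma zfrac_self : zfrac n R j j = 1 := by
  unfold zfrac
  have : Away.mk (CohB1.polyGrading n R) (X_mem n R j) 1 (MvPolynomial.X j) (X_mem' n R j) = 1 := by
    apply HomogeneousLocalization.val_injective
    rw [HomogeneousLocalization.val_one, Away.val_mk]
    simp only [pow_one]
    exact Localization.mk_self (⟨MvPolynomial.X j, ⟨1, pow_one _⟩⟩ :
      Submonoid.powers (MvPolynomial.X j : MvPolynomial (Fin (n + 1)) R))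
  rw [this, map_one]

/-- ring homs out of `Γ(P^n, D₊(T_j))` are determined by their values on the `T_l/T_j` and on
constants -/
lemma sections_ringHom_ext {B : Type*} [CommRing B]
    (φ ψ : Γ(Proj (CohB1.polyGrading n R), D R n j) →+* B)
    (hX : ∀ l, φ (zfrac n R j l) = ψ (zfrac n R j l))
    (hC : ∀ c, φ (baseHom (pSpec R n) (D R n j) c) = ψ (baseHom (pSpec R n) (D R n j) c)) :
    φ = ψ := by
  have h := away_ringHom_ext n j
    (φ.comp (Proj.awayToSection (CohB1.polyGrading n R) (MvPolynomial.X j)).hom)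
    (ψ.comp (Proj.awayToSection (CohB1.polyGrading n R) (MvPolynomial.X j)).hom)
    (fun l => hX l)
    (fun c => by
      simp only [RingHom.comp_apply]
      rw [awayToSection_constHom]
      exact hC c)
  ext b
  obtain ⟨w, rfl⟩ := (ConcreteCategory.bijective_of_isIso
      (Proj.basicOpenIsoAway (CohB1.polyGrading n R) (MvPolynomial.X j)
        (X_mem n R j) one_pos).hom).2 b
  exact RingHom.congr_fun h w

/-- `D₊(T_j) ∩ D₊(T_j')` is the basic open of `T_j / T_j'` in `D₊(T_j')` -/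
lemma basicOpen_zfrac (j' : Fin (n + 1)) :
    (Proj (CohB1.polyGrading n R)).basicOpen (zfrac n R j' j) = D R n j ⊓ D R n j' := by
  have hle : D R n j' ≤ CohB1.genLocus (twist (CohB1.polyGrading n R) 1) (θ n R j') := by
    rw [genLocus_θ]
  have he := isGenerator_resSec_of_le_genLocus (θ n R j') hle
  have hs : resSec (twist (CohB1.polyGrading n R) 1) (le_top : D R n j' ≤ ⊤) (secOf (θ n R j)) =
      zfrac n R j' j • resSec (twist (CohB1.polyGrading n R) 1) (le_top : D R n j' ≤ ⊤)
        (secOf (θ n R j')) := by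
    rw [secOf_θ, secOf_θ]
    exact coord_rel n R j' j
  have h := genLocus_inf_eq_basicOpen (θ n R j) (D R n j') _ he (zfrac n R j' j) hs
  rw [genLocus_θ] at h
  exact h.symm

lemma mem_primeIdealOf_iff {X : Scheme.{u}} {U : X.Opens} (hU : IsAffineOpen U) (x : X) (hx : x ∈ U)
    (b : Γ(X, U)) :
    b ∈ (hU.primeIdealOf ⟨x, hx⟩).asIdeal ↔
      X.presheaf.germ U x hx b ∈ IsLocalRing.maximalIdeal (X.presheaf.stalk x) := by
  let _ := X.presheaf.algebra_section_stalk (⟨x, hx⟩ : U)
  have hloc := hU.isLocalization_stalk ⟨x, hx⟩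
  exact (IsLocalization.AtPrime.to_map_mem_maximal_iff (X.presheaf.stalk x)
    (hU.primeIdealOf ⟨x, hx⟩).asIdeal b).symm

end Charts

section Points

variable {k : Type u} [Field k] (n : ℕ) (σ : Spec (CommRingCat.of k) ⟶ Proj (CohB1.polyGrading n k))
  (hσ : σ ≫ pSpec k n = 𝟙 _) (j : Fin (n + 1)) (hV : σ (pt k) ∈ D k n j)

/-- the coefficient vector of `T_l - a T_j` -/
def cvec (l j : Fin (n + 1)) (a : k) : Fin (n + 1) → k :=
  fun i => (if i = l then 1 else 0) - (if i = j then a else 0)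

lemma linFrac_cvec' (j' l j : Fin (n + 1)) (a : k) :
    linFrac n j' (cvec n l j a) =
      zfrac n k j' l - baseHom (pSpec k n) (D k n j') a * zfrac n k j' j := by
  unfold linFrac cvec
  simp only [map_sub, sub_mul, Finset.sum_sub_distrib, apply_ite (baseHom (pSpec k n) (D k n j')),
    map_one, map_zero, ite_mul, one_mul, zero_mul, Finset.sum_ite_eq', Finset.mem_univ, if_true]

lemma linFrac_cvec (l j : Fin (n + 1)) (a : k) :
    linFrac n j (cvec n l j a) = zfrac n k j l - baseHom (pSpec k n) (D k n j) a := by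
  rw [linFrac_cvec', zfrac_self, mul_one]

/-- the ideal of the point `σ` in the chart `D₊(T_j)` -/
noncomputable def ptIdeal : Ideal Γ(Proj (CohB1.polyGrading n k), D k n j) :=
  Ideal.span (Set.range fun l => zfrac n k j l -
    baseHom (pSpec k n) (D k n j) (ev σ (D k n j) hV (zfrac n k j l)))

include hσ in
lemma sub_const_ev_mem (b : Γ(Proj (CohB1.polyGrading n k), D k n j)) :
    b - baseHom (pSpec k n) (D k n j) (ev σ (D k n j) hV b) ∈ ptIdeal n σ j hV := by
  have h := sections_ringHom_ext k n j (Ideal.Quotient.mk (ptIdeal n σ j hV))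
    ((Ideal.Quotient.mk (ptIdeal n σ j hV)).comp
      ((baseHom (pSpec k n) (D k n j)).comp (ev σ (D k n j) hV))) ?_ ?_
  · have := RingHom.congr_fun h b
    exact Ideal.Quotient.eq.1 this
  · intro l
    simp only [RingHom.comp_apply]
    exact Ideal.Quotient.eq.2 (Ideal.subset_span ⟨l, rfl⟩)
  · intro c
    simp only [RingHom.comp_apply]
    rw [ev_baseHom (pSpec k n) σ hσ]

include hσ in
lemma ev_eq_zero_iff_mem_ptIdeal (b : Γ(Proj (CohB1.polyGrading n k), D k n j)) :
    ev σ (D k n j) hV b = 0 ↔ b ∈ ptIdeal n σ j hV := by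
  constructor
  · intro h
    have := sub_const_ev_mem n σ hσ j hV b
    rwa [h, map_zero, sub_zero] at this
  · intro h
    have hle : ptIdeal n σ j hV ≤ RingHom.ker (ev σ (D k n j) hV) := by
      unfold ptIdeal
      rw [Ideal.span_le]
      rintro _ ⟨l, rfl⟩
      show ev σ (D k n j) hV _ = 0
      rw [map_sub, ev_baseHom (pSpec k n) σ hσ, sub_self]
    exact hle h

include hσ in
/-- the maximal ideal of the local ring at a `k`-point of `P^n_k` is generated by the germs of the
linear forms vanishing at the point -/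
theorem maximalIdeal_le_span_linFrac :
    IsLocalRing.maximalIdeal ((Proj (CohB1.polyGrading n k)).presheaf.stalk (σ (pt k))) ≤
      Ideal.span {a | ∃ c : Fin (n + 1) → k,
        a = (Proj (CohB1.polyGrading n k)).presheaf.germ (D k n j) (σ (pt k)) hV (linFrac n j c) ∧
        a ∈ IsLocalRing.maximalIdeal ((Proj (CohB1.polyGrading n k)).presheaf.stalk (σ (pt k)))} := by
  have hU : IsAffineOpen (D k n j) :=
    Proj.isAffineOpen_basicOpen (CohB1.polyGrading n k) (MvPolynomial.X j) (X_mem n k j) one_pos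
  let _ := (Proj (CohB1.polyGrading n k)).presheaf.algebra_section_stalk
    (⟨σ (pt k), hV⟩ : D k n j)
  have hloc := hU.isLocalization_stalk ⟨σ (pt k), hV⟩
  refine le_trans (le_of_eq (IsLocalization.AtPrime.map_eq_maximalIdeal
    (hU.primeIdealOf ⟨σ (pt k), hV⟩).asIdeal
    ((Proj (CohB1.polyGrading n k)).presheaf.stalk (σ (pt k)))).symm) ?_
  rw [Ideal.map_le_iff_le_comap]
  intro b hb
  have hb1 : (Proj (CohB1.polyGrading n k)).presheaf.germ (D k n j) (σ (pt k)) hV b ∈
      IsLocalRing.maximalIdeal ((Proj (CohB1.polyGrading n k)).presheaf.stalk (σ (pt k))) :=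
    (IsLocalization.AtPrime.to_map_mem_maximal_iff _ (hU.primeIdealOf ⟨σ (pt k), hV⟩).asIdeal b).2 hb
  have hb2 : b ∈ ptIdeal n σ j hV :=
    (ev_eq_zero_iff_mem_ptIdeal n σ hσ j hV b).1 ((ev_eq_zero_iff σ (D k n j) hV b).2 hb1)
  have hle : ptIdeal n σ j hV ≤ Ideal.comap
      ((Proj (CohB1.polyGrading n k)).presheaf.germ (D k n j) (σ (pt k)) hV).hom
      (Ideal.span {a | ∃ c : Fin (n + 1) → k,
        a = (Proj (CohB1.polyGrading n k)).presheaf.germ (D k n j) (σ (pt k)) hV (linFrac n j c) ∧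
        a ∈ IsLocalRing.maximalIdeal ((Proj (CohB1.polyGrading n k)).presheaf.stalk (σ (pt k)))}) := by
    unfold ptIdeal
    rw [Ideal.span_le]
    rintro _ ⟨l, rfl⟩
    apply Ideal.subset_span
    refine ⟨cvec n l j (ev σ (D k n j) hV (zfrac n k j l)), ?_, ?_⟩
    · rw [linFrac_cvec]
    · refine (ev_eq_zero_iff σ (D k n j) hV _).1 ?_
      rw [map_sub, ev_baseHom (pSpec k n) σ hσ, sub_self]
  exact hle hb2

variable (σ' : Spec (CommRingCat.of k) ⟶ Proj (CohB1.polyGrading n k))
  (hσ' : σ' ≫ pSpec k n = 𝟙 _)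

include hσ hσ' in
/-- two distinct `k`-points in the same chart are separated by a linear form -/
theorem exists_linFrac_separating_same_chart (hV' : σ' (pt k) ∈ D k n j)
    (hne : σ (pt k) ≠ σ' (pt k)) :
    ∃ c : Fin (n + 1) → k, ev σ (D k n j) hV (linFrac n j c) = 0 ∧
      ev σ' (D k n j) hV' (linFrac n j c) ≠ 0 := by
  by_contra hcon
  push Not at hcon
  have ha : ∀ l, ev σ' (D k n j) hV' (zfrac n k j l) = ev σ (D k n j) hV (zfrac n k j l) := by
    intro l
    have h1 : ev σ (D k n j) hV (linFrac n j (cvec n l j (ev σ (D k n j) hV (zfrac n k j l)))) = 0 := by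
      rw [linFrac_cvec, map_sub, ev_baseHom (pSpec k n) σ hσ, sub_self]
    have h2 := hcon _ h1
    rw [linFrac_cvec, map_sub, ev_baseHom (pSpec k n) σ' hσ', sub_eq_zero] at h2
    exact h2
  have hI : ptIdeal n σ' j hV' = ptIdeal n σ j hV := by
    unfold ptIdeal
    congr 2
    funext l
    rw [ha l]
  have hker : ∀ b, ev σ (D k n j) hV b = 0 ↔ ev σ' (D k n j) hV' b = 0 := by
    intro b
    rw [ev_eq_zero_iff_mem_ptIdeal n σ hσ j hV, ev_eq_zero_iff_mem_ptIdeal n σ' hσ' j hV', hI]
  have hU : IsAffineOpen (D k n j) :=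
    Proj.isAffineOpen_basicOpen (CohB1.polyGrading n k) (MvPolynomial.X j) (X_mem n k j) one_pos
  apply hne
  have e1 := hU.fromSpec_primeIdealOf ⟨σ (pt k), hV⟩
  have e2 := hU.fromSpec_primeIdealOf ⟨σ' (pt k), hV'⟩
  have e3 : hU.primeIdealOf ⟨σ (pt k), hV⟩ = hU.primeIdealOf ⟨σ' (pt k), hV'⟩ := by
    apply PrimeSpectrum.ext
    ext b
    rw [mem_primeIdealOf_iff hU _ hV, mem_primeIdealOf_iff hU _ hV', ← ev_eq_zero_iff, ← ev_eq_zero_iff]
    exact hker b
  exact e1.symm.trans ((congrArg (fun q => hU.fromSpec q) e3).trans e2)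

include hσ in
/-- a `k`-point of `D₊(T_j)` and a `k`-point outside `D₊(T_j)` are separated by a linear form -/
theorem exists_linFrac_separating_other_chart (j' : Fin (n + 1)) (hV' : σ' (pt k) ∈ D k n j')
    (hnot : σ' (pt k) ∉ D k n j) :
    ∃ c : Fin (n + 1) → k, ev σ (D k n j) hV (linFrac n j c) = 0 ∧
      ev σ' (D k n j') hV' (linFrac n j' c) ≠ 0 := by
  refine ⟨cvec n j' j (ev σ (D k n j) hV (zfrac n k j j')), ?_, ?_⟩
  · rw [linFrac_cvec, map_sub, ev_baseHom (pSpec k n) σ hσ, sub_self]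
  · have h0 : ev σ' (D k n j') hV' (zfrac n k j' j) = 0 := by
      rw [ev_eq_zero_iff, IsLocalRing.mem_maximalIdeal, mem_nonunits_iff,
        ← Scheme.mem_basicOpen _ _ _ hV', basicOpen_zfrac]
      exact fun h => hnot h.1
    rw [linFrac_cvec', zfrac_self, map_sub, map_mul, h0, mul_zero, sub_zero, map_one]
    exact one_ne_zero

end Points

end Groth.Agent.Lib.Helper38.SepPts
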