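import Groth.Agent.Lib.Helper38.PicPnA
import Groth.Agent.Lib.Helper38.SepPtsB
import Groth.Agent.Lib.Proj.Helper56_Charts

/-!
# Picard group of projective space over a UFD, part B (helper38)

ns `Groth.Agent.Lib.Helper38.PicPn`.  `P = Proj (CohB1.polyGrading n R)`, `D j = D₊(T_j)`.
* `secEquiv j : Γ(P, D j) ≃+* R[T_i, i ≠ j]`, `secEquiv_zfrac`.
* `exists_gen` : an invertible module on `P^n_R` (`R` a UFD) has a free generator over each `D j`.
* `exists_normalized` : comparison of generators over `D 0` and `D j`.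
-/

set_option linter.style.haveILetI false
universe u
open CategoryTheory CategoryTheory.Limits AlgebraicGeometry TopologicalSpace Opposite
  HomogeneousLocalization

namespace Groth.Agent.Lib.Helper38.PicPn

open Groth.Agent.Lib.Ample Groth.Agent.Lib.QCoh Groth.Agent.Lib.Proj Groth.Agent.Lib.Proj.ToProj
  Groth.Agent.Lib.Proj.ToPn Groth.Agent.Lib.Proj.PullSec Groth.Agent.Lib.Proj.QuotCompare
  Groth.Agent.Lib.Proj.PnUP Groth.Agent.Lib.Proj.PnUnique
  Groth.Agent.Lib.Helper38.SepPts Groth.Agent.Lib.Helper48.UfdPic Scheme.Modules Twist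

variable (R : Type u) [CommRing R] (n : ℕ)

/-- `Γ(P^n_R, D₊(T_j)) ≃ R[T_i, i ≠ j]` -/
noncomputable def secEquiv (j : Fin (n + 1)) :
    Γ(Proj (CohB1.polyGrading n R), D R n j) ≃+*
      MvPolynomial {i : Fin (n + 1) // i ≠ j} R :=
  (Proj.basicOpenIsoAway (CohB1.polyGrading n R) (MvPolynomial.X j) (X_mem n R j)
    one_pos).commRingCatIsoToRingEquiv.symm.trans (awayXEquiv n R j)

lemma secEquiv_zfrac (j i : Fin (n + 1)) (hij : i ≠ j) :
    secEquiv R n j (zfrac n R j i) = MvPolynomial.X ⟨i, hij⟩ := by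
  have h : (secEquiv R n j).symm (MvPolynomial.X ⟨i, hij⟩) = zfrac n R j i := by
    unfold secEquiv
    rw [RingEquiv.symm_trans_apply, awayXEquiv_symm_X]
    rfl
  rw [← h, RingEquiv.apply_symm_apply]

variable [IsDomain R] [UniqueFactorizationMonoid R]

theorem exists_gen {M : (Proj (CohB1.polyGrading n R)).Modules} (hM : PicF.IsInvertible M)
    (j : Fin (n + 1)) : ∃ e : Γ(M, D R n j), IsGenerator M (D R n j) e := by
  let R' : CommRingCat.{u} := CommRingCat.of (Away (CohB1.polyGrading n R)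
    (MvPolynomial.X j : MvPolynomial (Fin (n + 1)) R))
  haveI : IsDomain R' := (awayXEquiv n R j).toMulEquiv.isDomain _
  haveI : UniqueFactorizationMonoid R' :=
    (awayXEquiv n R j).toMulEquiv.symm.uniqueFactorizationMonoid inferInstance
  exact exists_isGenerator_of_ufd (R' := R')
    (Proj.awayι (CohB1.polyGrading n R) (MvPolynomial.X j) (X_mem n R j) one_pos) hM _
    (Proj.opensRange_awayι _ _ _ _)

theorem exists_normalized {M : (Proj (CohB1.polyGrading n R)).Modules}
    (e0 : Γ(M, D R n 0)) (he0 : IsGenerator M (D R n 0) e0) (j : Fin (n + 1)) (hj : j ≠ 0)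
    (ej : Γ(M, D R n j)) (hej : IsGenerator M (D R n j) ej) :
    ∃ (e' : Γ(M, D R n j)) (_ : IsGenerator M (D R n j) e') (a b : ℕ),
      resFn (inf_le_right : D R n 0 ⊓ D R n j ≤ D R n j) (zfrac n R j 0) ^ a •
          resSec M (inf_le_left : D R n 0 ⊓ D R n j ≤ D R n 0) e0 =
        resFn (inf_le_right : D R n 0 ⊓ D R n j ≤ D R n j) (zfrac n R j 0) ^ b •
          resSec M (inf_le_right : D R n 0 ⊓ D R n j ≤ D R n j) e' := by
  have key : ∀ (W : (Proj (CohB1.polyGrading n R)).Opens)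
      (_ : (Proj (CohB1.polyGrading n R)).basicOpen (zfrac n R j 0) = W)
      (hW0 : W ≤ D R n 0) (hWj : W ≤ D R n j),
      ∃ (e' : Γ(M, D R n j)) (_ : IsGenerator M (D R n j) e') (a b : ℕ),
        resFn hWj (zfrac n R j 0) ^ a • resSec M hW0 e0 =
          resFn hWj (zfrac n R j 0) ^ b • resSec M hWj e' := by
    rintro W rfl hW0 hWj
    obtain ⟨g, hg, hge⟩ := exists_unit_smul (hej.mono hWj) (he0.mono hW0)
    have hU : IsAffineOpen (D R n j) :=
      Proj.isAffineOpen_basicOpen (CohB1.polyGrading n R) _ (X_mem n R j) one_pos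
    haveI := hU.isLocalization_basicOpen (zfrac n R j 0)
    have hp : Prime (secEquiv R n j (zfrac n R j 0)) := by
      rw [secEquiv_zfrac R n j 0 hj.symm]
      exact MvPolynomial.X_prime
    obtain ⟨k, m, b, hb, h⟩ := unit_decomp' (secEquiv R n j) (zfrac n R j 0) hp g hg
    refine ⟨b • ej, Groth.Agent.Lib.Helper48.UfdPic.IsGenerator.unit_smul hej hb, k, m, ?_⟩
    have h' : g * resFn hWj (zfrac n R j 0) ^ k =
        resFn hWj (zfrac n R j 0) ^ m * resFn hWj b := h
    rw [hge, ← mul_smul, mul_comm, h', resSec_smul, mul_smul]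
  exact key _ (basicOpen_zfrac (R := R) (n := n) 0 j) _ _

end Groth.Agent.Lib.Helper38.PicPn
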