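import Groth.Agent.Lib.Helper38.PicPnC

/-!
# Picard group of projective space over a UFD, part D (helper38)

ns `Groth.Agent.Lib.Helper38.PicPn`.
* `gsecOn j a b V hV`, `gsec j a b` : the section `T_j^a / T_j^b` of `O(a - b)` over `V ≤ D₊(T_j)`;
  `val_gsecOn`, `resSec_gsecOn`, `isGenerator_gsec`.
* `val_zfrac`, `val_resFn_zfrac_pow`, `gsec_rel`.
-/
set_option linter.style.haveILetI false
universe u
open CategoryTheory CategoryTheory.Limits AlgebraicGeometry TopologicalSpace Opposite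
  HomogeneousLocalization
namespace Groth.Agent.Lib.Helper38.PicPn
open Groth.Agent.Lib.Ample Groth.Agent.Lib.QCoh Groth.Agent.Lib.Proj Groth.Agent.Lib.Proj.ToProj
  Groth.Agent.Lib.Proj.ToPn Groth.Agent.Lib.Proj.PullSec Groth.Agent.Lib.Proj.QuotCompare
  Groth.Agent.Lib.Proj.PnUP Groth.Agent.Lib.Proj.PnUnique
  Groth.Agent.Lib.Helper38.SepPts Groth.Agent.Lib.Helper48.UfdPic Scheme.Modules Twist

variable (R : Type u) [CommRing R] (n : ℕ)
/-- `T_j ^ a` as an element of degree `a` -/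
noncomputable def Tpow (j : Fin (n + 1)) (a : ℕ) : CohB1.polyGrading n R a :=
  ⟨(MvPolynomial.X j : MvPolynomial (Fin (n + 1)) R) ^ a, by
    have := SetLike.pow_mem_graded a (X_mem n R j)
    simpa using this⟩

lemma Tpow_not_mem (j : Fin (n + 1)) (a : ℕ) (V : (Proj (CohB1.polyGrading n R)).Opens)
    (hV : V ≤ D R n j) (x : V) :
    (Tpow R n j a).1 ∉ x.1.asHomogeneousIdeal :=
  pow_not_mem ((Proj.mem_basicOpen _ _ _).1 (hV x.2)) a

/-- the section `T_j^a / T_j^b` of `O(a - b)` over `V ≤ D₊(T_j)` -/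
noncomputable def gsecOn (j : Fin (n + 1)) (a b : ℕ) (V : (Proj (CohB1.polyGrading n R)).Opens)
    (hV : V ≤ D R n j) : Γ(twist (CohB1.polyGrading n R) ((a : ℤ) - b), V) :=
  mulFracSect (op V) (Tpow R n j a) (Tpow R n j b) (Tpow_not_mem R n j b V hV) 0 ((a : ℤ) - b)
    (by ring) (toTwistZeroSect (op V) (1 : O (𝒜 := CohB1.polyGrading n R) (op V)))

lemma val_gsecOn (j : Fin (n + 1)) (a b : ℕ) (V : (Proj (CohB1.polyGrading n R)).Opens)
    (hV : V ≤ D R n j) (x : V) :
    val (𝒜 := CohB1.polyGrading n R) (m := (a : ℤ) - b) (V := op V) (gsecOn R n j a b V hV) x =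
      frac x.1 ((MvPolynomial.X j : MvPolynomial (Fin (n + 1)) R) ^ a)
        ((MvPolynomial.X j : MvPolynomial (Fin (n + 1)) R) ^ b) (Tpow_not_mem R n j b V hV x) := by
  refine (val_mulFracSect (op V) (Tpow R n j a) (Tpow R n j b) (Tpow_not_mem R n j b V hV) 0
    ((a : ℤ) - b) (by ring) _ x).trans ?_
  have h2 : val (𝒜 := CohB1.polyGrading n R) (m := 0) (V := op V)
      (toTwistZeroSect (op V) (1 : O (𝒜 := CohB1.polyGrading n R) (op V))) x = 1 := by
    exact HomogeneousLocalization.val_one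
  rw [h2, mul_one]
  rfl

/-- the section `T_j^a / T_j^b` of `O(a - b)` over `D₊(T_j)` -/
noncomputable abbrev gsec (j : Fin (n + 1)) (a b : ℕ) :
    Γ(twist (CohB1.polyGrading n R) ((a : ℤ) - b), D R n j) := gsecOn R n j a b (D R n j) le_rfl

lemma resSec_gsecOn (j : Fin (n + 1)) (a b : ℕ) (V W : (Proj (CohB1.polyGrading n R)).Opens)
    (hV : V ≤ D R n j) (hWV : W ≤ V) :
    resSec (twist (CohB1.polyGrading n R) ((a : ℤ) - b)) hWV (gsecOn R n j a b V hV) =
      gsecOn R n j a b W (hWV.trans hV) := by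
  apply sec_ext (𝒜 := CohB1.polyGrading n R) (m := (a : ℤ) - b) (V := op W)
  intro x
  refine Eq.trans ?_ (val_gsecOn R n j a b W (hWV.trans hV) x).symm
  exact val_gsecOn R n j a b V hV ⟨x.1, hWV x.2⟩

theorem isGenerator_gsec (j : Fin (n + 1)) (a b : ℕ) :
    IsGenerator (twist (CohB1.polyGrading n R) ((a : ℤ) - b)) (D R n j) (gsec R n j a b) := by
  intro V hV
  rw [resSec_gsecOn]
  have hfun : (fun r : Γ(Proj (CohB1.polyGrading n R), V) =>
      r • gsecOn R n j a b V (hV.trans le_rfl)) =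
      fun r => mulFracSect (op V) (Tpow R n j a) (Tpow R n j b) (Tpow_not_mem R n j b V hV) 0
        ((a : ℤ) - b) (by ring) (toTwistZeroSect (op V) r) := by
    funext r
    apply sec_ext (𝒜 := CohB1.polyGrading n R) (m := (a : ℤ) - b) (V := op V)
    intro x
    refine (val_smul (𝒜 := CohB1.polyGrading n R) (m := (a : ℤ) - b) r _ x).trans ?_
    refine Eq.trans ?_ (val_mulFracSect (op V) (Tpow R n j a) (Tpow R n j b)
      (Tpow_not_mem R n j b V hV) 0 ((a : ℤ) - b) (by ring) _ x).symm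
    refine (congrArg (fun q => (r.1 x).val * q) (val_gsecOn R n j a b V hV x)).trans ?_
    exact mul_comm _ _
  rw [hfun]
  exact (mulFracSect_bijective (op V) (Tpow R n j a) (Tpow R n j b)
    (Tpow_not_mem R n j a V hV) (Tpow_not_mem R n j b V hV) 0 ((a : ℤ) - b) (by ring)).comp
    (toTwistZeroSect_bijective (op V))

lemma val_zfrac (i j : Fin (n + 1)) (x : D R n i) :
    (((zfrac n R i j).1 x).val : Loc (CohB1.polyGrading n R) x.1) =
      frac x.1 (MvPolynomial.X j) (MvPolynomial.X i)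
        ((Proj.mem_basicOpen _ _ _).1 x.2) := by
  have hx : (MvPolynomial.X i : MvPolynomial (Fin (n + 1)) R) ∉ x.1.asHomogeneousIdeal := x.2
  have := ProjectiveSpectrum.Proj.awayToSection_apply (𝒜 := CohB1.polyGrading n R)
    (MvPolynomial.X i : MvPolynomial (Fin (n + 1)) R)
    (Away.mk (CohB1.polyGrading n R) (X_mem n R i) 1 (MvPolynomial.X j) (X_mem' n R j)) x
  refine this.trans ?_
  rw [Away.val_mk, Localization.mk_eq_mk', IsLocalization.map_mk']
  rw [← Localization.mk_eq_mk']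
  refine Localization.mk_eq_mk_iff.2 (Localization.r_iff_exists.2 ⟨1, ?_⟩)
  simp only [OneMemClass.coe_one, one_mul, pow_one, RingHom.id_apply]

/-- value of a power of a restricted `zfrac` -/
lemma val_resFn_zfrac_pow (i j : Fin (n + 1)) (V : (Proj (CohB1.polyGrading n R)).Opens)
    (hV : V ≤ D R n i) (k : ℕ) (x : V) :
    ((((resFn hV (zfrac n R i j) ^ k :
      Γ(Proj (CohB1.polyGrading n R), V)) : O (𝒜 := CohB1.polyGrading n R) (op V)).1 x).val :
        Loc (CohB1.polyGrading n R) x.1) =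
      frac x.1 (MvPolynomial.X j ^ k) (MvPolynomial.X i ^ k)
        (pow_not_mem ((Proj.mem_basicOpen _ _ _).1 (hV x.2)) k) := by
  have h1 : ((resFn hV (zfrac n R i j) ^ k :
      Γ(Proj (CohB1.polyGrading n R), V)) : O (𝒜 := CohB1.polyGrading n R) (op V)).1 x =
      ((zfrac n R i j).1 ⟨x.1, hV x.2⟩) ^ k := rfl
  rw [h1, HomogeneousLocalization.val_pow]
  refine (congrArg (fun q => q ^ k) (val_zfrac R n i j ⟨x.1, hV x.2⟩)).trans ?_
  simp only [frac, Localization.mk_pow]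
  rfl


/-- `(T_0/T_j)^bj • T_0^a/T_0^b = (T_0/T_j)^aj • T_j^a/T_j^b` when `bj + a = aj + b` -/
theorem gsec_rel (j : Fin (n + 1)) (a b aj bj : ℕ) (h : bj + a = aj + b) :
    resFn (inf_le_right : D R n 0 ⊓ D R n j ≤ D R n j) (zfrac n R j 0) ^ bj •
        resSec (twist (CohB1.polyGrading n R) ((a : ℤ) - b))
          (inf_le_left : D R n 0 ⊓ D R n j ≤ D R n 0) (gsec R n 0 a b) =
      resFn (inf_le_right : D R n 0 ⊓ D R n j ≤ D R n j) (zfrac n R j 0) ^ aj •
        resSec (twist (CohB1.polyGrading n R) ((a : ℤ) - b))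
          (inf_le_right : D R n 0 ⊓ D R n j ≤ D R n j) (gsec R n j a b) := by
  rw [resSec_gsecOn, resSec_gsecOn]
  apply sec_ext (𝒜 := CohB1.polyGrading n R) (m := (a : ℤ) - b) (V := op (D R n 0 ⊓ D R n j))
  intro x
  refine (val_smul (𝒜 := CohB1.polyGrading n R) (m := (a : ℤ) - b) _ _ x).trans ?_
  refine Eq.trans ?_ (val_smul (𝒜 := CohB1.polyGrading n R) (m := (a : ℤ) - b) _ _ x).symm
  have e1 := val_resFn_zfrac_pow R n j 0 (D R n 0 ⊓ D R n j) inf_le_right bj x
  have e2 := val_resFn_zfrac_pow R n j 0 (D R n 0 ⊓ D R n j) inf_le_right aj x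
  have e3 := val_gsecOn R n 0 a b (D R n 0 ⊓ D R n j) (inf_le_left.trans le_rfl) x
  have e4 := val_gsecOn R n j a b (D R n 0 ⊓ D R n j) (inf_le_right.trans le_rfl) x
  refine (congrArg₂ (· * ·) e1 e3).trans ((congrArg₂ (· * ·) e2 e4).trans ?_).symm
  simp only [frac, Localization.mk_mul]
  refine Localization.mk_eq_mk_iff.2 (Localization.r_iff_exists.2 ⟨1, ?_⟩)
  simp only [OneMemClass.coe_one, one_mul, Submonoid.coe_mul]
  have h1 : (MvPolynomial.X 0 : MvPolynomial (Fin (n + 1)) R) ^ bj * MvPolynomial.X 0 ^ a =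
      MvPolynomial.X 0 ^ aj * MvPolynomial.X 0 ^ b := by
    rw [← pow_add, ← pow_add, h]
  have h2 : (MvPolynomial.X j : MvPolynomial (Fin (n + 1)) R) ^ bj * MvPolynomial.X j ^ a =
      MvPolynomial.X j ^ aj * MvPolynomial.X j ^ b := by
    rw [← pow_add, ← pow_add, h]
  linear_combination (MvPolynomial.X 0 ^ aj * MvPolynomial.X 0 ^ b) * h2 -
    (MvPolynomial.X j ^ aj * MvPolynomial.X j ^ b) * h1

end Groth.Agent.Lib.Helper38.PicPn
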