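import Groth.Agent.Lib.Helper38.AutF
import Groth.Agent.Lib.Proj.Helper56_Gamma
import Groth.Agent.Lib.Helper98.TwistAmpleGen
import Mathlib.AlgebraicGeometry.Morphisms.IsIso
import Mathlib.AlgebraicGeometry.Morphisms.Affine

/-!
# `O(d)` on `P^n_R` is ample iff `d > 0` (helper38)

ns `Groth.Agent.Lib.Helper38.PnAmple`.
* `nonempty_tensorPow_twist` : `O(d)^{⊗ e} ≅ O(d e)` on `P^n_R`, any ring `R`.
* `eq_zero_of_neg` : `Γ(P^n_R, O(d)) = 0` for `d < 0`, `n ≥ 1`.
* `not_isAffine_projSpace` : `P^n_R` is not affine for `R ≠ 0`, `n ≥ 1`.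
* `surjective_toSpec` : `P^n_R → Spec R` is surjective.
* `isAmple_twist_iff`.
-/

set_option autoImplicit false
set_option linter.style.haveILetI false
universe u
open CategoryTheory CategoryTheory.Limits AlgebraicGeometry TopologicalSpace Opposite
  HomogeneousLocalization MvPolynomial

namespace Groth.Agent.Lib.Helper38.PnAmple

open Groth.Agent.Lib.Ample Groth.Agent.Lib.QCoh Groth.Agent.Lib.Proj Groth.Agent.Lib.Proj.ToProj
  Groth.Agent.Lib.Proj.ToPn Groth.Agent.Lib.Proj.PullSec Groth.Agent.Lib.Proj.QuotCompare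
  Groth.Agent.Lib.Proj.PnUP Groth.Agent.Lib.Proj.PnUnique
  Groth.Agent.Lib.Helper38.SepPts Groth.Agent.Lib.Helper38.PicPn Scheme.Modules Twist CohB1
  Groth.Agent.Lib.Helper38.ConstB

variable (R : Type u) [CommRing R] (n : ℕ)

/-- `O(d)^{⊗ e} ≅ O(d e)` on `P^n_R` -/
theorem nonempty_tensorPow_twist (d : ℤ) : ∀ e : ℕ,
    Nonempty (CohB1.tensorPow (twist (CohB1.polyGrading n R) d) e ≅
      twist (CohB1.polyGrading n R) (d * (e : ℤ)))
  | 0 => by
    have h : d * ((0 : ℕ) : ℤ) = 0 := by simp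
    rw [h]
    exact ⟨(twistZeroIso (CohB1.polyGrading n R)).symm⟩
  | e + 1 => by
    obtain ⟨φ⟩ := nonempty_tensorPow_twist d e
    exact ⟨tensorModCongr φ (Iso.refl _) ≪≫
      twistMulIso (𝒜 := CohB1.polyGrading n R) (d * (e : ℤ)) d (d * ((e + 1 : ℕ) : ℤ))
        (by push_cast; ring) (hasUnitFrac_of_cover (PnUP.hcov n R) _)⟩

lemma eq_zero_of_neg (hn : 1 ≤ n) (d : ℤ) (hd : d < 0)
    (s : Coh.structureModule (Proj (CohB1.polyGrading n R)) ⟶ Twist.twist (CohB1.polyGrading n R) d) :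
    s = 0 := by
  have h1 : Subsingleton (Coh.HH (CohB1.ProjSpace n R) (Twist.twistProjSpace n R d) 0) :=
    Bridge.subsingleton_HH_twist' n R d 0 (fun h => by omega) (fun h => by omega)
  have h2 : Subsingleton Γ(Twist.twist (CohB1.polyGrading n R) d, ⊤) :=
    (Sheaf.H.equiv₀ (Coh.toAb (Twist.twistProjSpace n R d))
      (CategoryTheory.Limits.isTerminalTop)).symm.injective.subsingleton
  apply hom_ext_secOf
  exact Subsingleton.elim _ _

/-- `O(d)` is not ample for `d < 0` -/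
theorem not_isAmple_of_neg [Nontrivial R] (hn : 1 ≤ n) (d : ℤ) (hd : d < 0) :
    ¬ CohB1.IsAmple (Twist.twistProjSpace n R d) := by
  rintro ⟨-, -, h⟩
  -- a point
  have hne : Nonempty (CohB1.ProjSpace n R) := by
    obtain ⟨p⟩ : Nonempty (PrimeSpectrum (MvPolynomial {j : Fin (n + 1) // j ≠ 0} R)) := inferInstance
    exact ⟨chart n R 0 p⟩
  obtain ⟨x⟩ := hne
  obtain ⟨m, s, hx, -⟩ := h x
  obtain ⟨χ⟩ := nonempty_tensorPow_twist R n d (m + 1)
  have hneg : d * ((m + 1 : ℕ) : ℤ) < 0 := by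
    have : (0 : ℤ) < ((m + 1 : ℕ) : ℤ) := by positivity
    exact mul_neg_of_neg_of_pos hd this
  have h0 : s ≫ χ.hom = 0 := eq_zero_of_neg R n hn _ hneg (s ≫ χ.hom)
  have h1 : CohB1.genLocus _ (s ≫ χ.hom) = CohB1.genLocus _ s := genLocus_comp_iso s χ
  rw [h0, genLocus_zero] at h1
  rw [← h1] at hx
  exact hx

/-- `P^n_R → Spec R` is surjective -/
theorem surjective_toSpec : Function.Surjective (CohB1.ProjSpace.toSpec n R) := by
  intro y
  obtain ⟨p, hp⟩ := MvPolynomial.comap_C_surjective (R := R) (σ := {j : Fin (n + 1) // j ≠ 0}) y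
  refine ⟨chart n R 0 p, ?_⟩
  have h := congrArg (fun f => f p) (chart_toSpec n R 0)
  have h' : (CohB1.ProjSpace.toSpec n R) (chart n R 0 p) =
      (Spec.map (CommRingCat.ofHom (C : R →+* MvPolynomial {j : Fin (n + 1) // j ≠ 0} R))) p := by
    rw [← chart_toSpec n R 0]
    rfl
  rw [h']
  exact hp

/-- `P^n_R` is not affine for `R ≠ 0`, `n ≥ 1` -/
theorem not_isAffine_projSpace [Nontrivial R] (hn : 1 ≤ n) : ¬ IsAffine (CohB1.ProjSpace n R) := by
  intro haff
  have h1 : IsIso (CohB1.ProjSpace.toSpec n R).appTop := isIso_toSpec_appTop n R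
  have h2 : IsIso (CohB1.ProjSpace.toSpec n R) := by
    have h3 : IsIso (Spec.map (CohB1.ProjSpace.toSpec n R).appTop) := inferInstance
    exact (MorphismProperty.arrow_mk_iso_iff (MorphismProperty.isomorphisms _)
      (arrowIsoSpecΓOfIsAffine (CohB1.ProjSpace.toSpec n R))).mpr h3
  have hinj : Function.Injective (CohB1.ProjSpace.toSpec n R) :=
    (TopCat.homeoOfIso (Scheme.forgetToTop.mapIso (asIso (CohB1.ProjSpace.toSpec n R)))).injective
  -- two points of the chart with the same image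
  let J := {j : Fin (n + 1) // j ≠ 0}
  let A := MvPolynomial J R
  obtain ⟨𝔪, h𝔪⟩ := Ideal.exists_maximal R
  letI : Field (R ⧸ 𝔪) := Ideal.Quotient.field 𝔪
  let φ1 : A →+* MvPolynomial J (R ⧸ 𝔪) := MvPolynomial.map (Ideal.Quotient.mk 𝔪)
  let φ2 : A →+* (R ⧸ 𝔪) := MvPolynomial.eval₂Hom (Ideal.Quotient.mk 𝔪) (fun _ => 0)
  let p1 : PrimeSpectrum A := ⟨RingHom.ker φ1, RingHom.ker_isPrime φ1⟩
  let p2 : PrimeSpectrum A := ⟨RingHom.ker φ2, RingHom.ker_isPrime φ2⟩
  have hsame : (CohB1.ProjSpace.toSpec n R) (chart n R 0 p1) =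
      (CohB1.ProjSpace.toSpec n R) (chart n R 0 p2) := by
    have h' : ∀ p : PrimeSpectrum A, (CohB1.ProjSpace.toSpec n R) (chart n R 0 p) =
        (Spec.map (CommRingCat.ofHom (C : R →+* MvPolynomial J R))) p := by
      intro p
      rw [← chart_toSpec n R 0]
      rfl
    rw [h' p1, h' p2]
    apply PrimeSpectrum.ext
    apply Ideal.ext
    intro r
    show φ1 (C r) = 0 ↔ φ2 (C r) = 0
    have e1 : φ1 (C r) = C (Ideal.Quotient.mk 𝔪 r) := MvPolynomial.map_C _ r
    have e2 : φ2 (C r) = Ideal.Quotient.mk 𝔪 r := MvPolynomial.eval₂_C _ _ r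
    rw [e1, e2]
    constructor
    · intro h
      exact MvPolynomial.C_injective _ _ (h.trans (map_zero _).symm)
    · intro h
      rw [h, map_zero]
  have h12 : p1 = p2 := (chart n R 0).isOpenEmbedding.injective (hinj hsame)
  let j0 : J := ⟨⟨1, by omega⟩, by
    intro h
    have := congrArg Fin.val h
    simp at this⟩
  have hX : (MvPolynomial.X j0 : A) ∈ p2.asIdeal := by
    show φ2 _ = 0
    exact MvPolynomial.eval₂_X _ _ j0
  rw [← h12] at hX
  have hX' : φ1 (MvPolynomial.X j0) = 0 := hX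
  have e3 : φ1 (MvPolynomial.X j0) = MvPolynomial.X j0 := MvPolynomial.map_X _ j0
  rw [e3] at hX'
  exact MvPolynomial.X_ne_zero _ hX'

/-- `O` is not ample on `P^n_R` -/
theorem not_isAmple_zero [Nontrivial R] (hn : 1 ≤ n) :
    ¬ CohB1.IsAmple (Twist.twistProjSpace n R 0) := by
  rintro ⟨-, -, h⟩
  apply not_isAffine_projSpace R n hn
  -- key: every point has an affine basic open nbhd
  have key : ∀ x : CohB1.ProjSpace n R, ∃ f : Γ(CohB1.ProjSpace n R, ⊤),
      x ∈ (CohB1.ProjSpace n R).basicOpen f ∧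
        IsAffineOpen ((CohB1.ProjSpace n R).basicOpen f) := by
    intro x
    obtain ⟨m, s, hx, haff⟩ := h x
    obtain ⟨χ⟩ := nonempty_tensorPow_twist R n 0 (m + 1)
    have h0 : (0 : ℤ) * ((m + 1 : ℕ) : ℤ) = 0 := zero_mul _
    let ψ : CohB1.tensorPow (twist (CohB1.polyGrading n R) 0) (m + 1) ≅
        Coh.structureModule (Proj (CohB1.polyGrading n R)) :=
      χ ≪≫ eqToIso (by rw [h0]) ≪≫ twistZeroIso (CohB1.polyGrading n R)
    let s' : Coh.structureModule (Proj (CohB1.polyGrading n R)) ⟶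
        CohB1.tensorPow (twist (CohB1.polyGrading n R) 0) (m + 1) := s
    have h1 : CohB1.genLocus _ (s' ≫ ψ.hom) = CohB1.genLocus _ s' := genLocus_comp_iso s' ψ
    have h2 : CohB1.genLocus _ (s' ≫ ψ.hom) = (Proj (CohB1.polyGrading n R)).basicOpen (fnOf (s' ≫ ψ.hom)) :=
      genLocus_unit (s' ≫ ψ.hom)
    have h3 : (Proj (CohB1.polyGrading n R)).basicOpen (fnOf (s' ≫ ψ.hom)) = CohB1.genLocus _ s' :=
      h2.symm.trans h1
    refine ⟨fnOf (s' ≫ ψ.hom), ?_, ?_⟩
    · exact h3 ▸ hx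
    · exact h3 ▸ haff
  haveI : IsAffineHom (CohB1.ProjSpace.toSpec n R) := by
    apply isAffineHom_of_forall_exists_isAffineOpen
    intro y
    obtain ⟨x, rfl⟩ := surjective_toSpec R n y
    obtain ⟨f, hxf, haff⟩ := key x
    have hiso : IsIso (CohB1.ProjSpace.toSpec n R).appTop := isIso_toSpec_appTop n R
    obtain ⟨r, hr⟩ := (ConcreteCategory.bijective_of_isIso
      (CohB1.ProjSpace.toSpec n R).appTop).2 f
    have hpre : (CohB1.ProjSpace.toSpec n R) ⁻¹ᵁ ((Spec (CommRingCat.of R)).basicOpen r) =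
        (CohB1.ProjSpace n R).basicOpen f := by
      rw [Scheme.preimage_basicOpen]
      exact congrArg _ hr
    refine ⟨(Spec (CommRingCat.of R)).basicOpen r, ?_, ?_, ?_⟩
    · show x ∈ (CohB1.ProjSpace.toSpec n R) ⁻¹ᵁ ((Spec (CommRingCat.of R)).basicOpen r)
      rw [hpre]; exact hxf
    · exact (isAffineOpen_top _).basicOpen r
    · rw [hpre]; exact haff
  exact isAffine_of_isAffineHom (CohB1.ProjSpace.toSpec n R)

/-- `O(d)` on `P^n_R` (`R ≠ 0`, `n ≥ 1`) is ample iff `d > 0` -/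
theorem isAmple_twist_iff [Nontrivial R] (hn : 1 ≤ n) (d : ℤ) :
    CohB1.IsAmple (Twist.twistProjSpace n R d) ↔ 0 < d := by
  constructor
  · intro h
    by_contra hd
    push Not at hd
    rcases lt_or_eq_of_le hd with hd | hd
    · exact not_isAmple_of_neg R n hn d hd h
    · rw [hd] at h
      exact not_isAmple_zero R n hn h
  · intro hd
    obtain ⟨e, rfl⟩ := Int.eq_ofNat_of_zero_le hd.le
    have he : 0 < e := by exact_mod_cast hd
    refine Groth.Agent.Lib.Helper98.TwistGen.isAmple_twist_of_cover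
      (𝒜 := CohB1.polyGrading n R) (s := n + 1)
      (fun i => (MvPolynomial.X i : MvPolynomial (Fin (n + 1)) R)) (fun _ => 1) (fun _ => Nat.one_pos)
      (fun i => X_mem n R i) ?_ e (fun _ => e) (fun _ => he) (fun _ => mul_one e)
    intro x
    have hx : x ∈ (⊤ : (Proj (CohB1.polyGrading n R)).Opens) := trivial
    rw [← iSup_basicOpen_X n R] at hx
    obtain ⟨i, hi⟩ := Opens.mem_iSup.1 hx
    exact ⟨i, hi⟩

end Groth.Agent.Lib.Helper38.PnAmple
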