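import Groth.Agent.S3400
import Groth.Agent.S15542
import Groth.Agent.S3398
import Groth.Agent.Lib.Helper38.QCClosure

/-!
# The closure of a pro-constructible subset of a scheme is the set of specializations of its points
-/

set_option autoImplicit false
universe u

open CategoryTheory AlgebraicGeometry TopologicalSpace

namespace Groth.Agent.Lib.Helper38.ProConsClosure

open Groth.Agent.Lib.Helper38.QCClosure

/-- A point in the closure of a pro-constructible set is a specialization of a point of the set. -/
theorem exists_specializes_of_mem_closure {X : Scheme.{u}} (E : Set X)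
    (hE : ProCons.IsProConstructible E) (x : X) (hx : x ∈ closure E) : ∃ e ∈ E, e ⤳ x := by
  obtain ⟨_, ⟨U', hU0, rfl⟩, hxU, -⟩ :=
    X.isBasis_affineOpens.exists_subset_of_mem_open (Set.mem_univ x) isOpen_univ
  obtain ⟨U, rfl⟩ : ∃ U : X.Opens, U = U' := ⟨_, rfl⟩
  have hU : IsAffineOpen U := hU0
  have hEU : ProCons.IsProConstructible (U.ι.base ⁻¹' E) := Groth.Agent.S15542.result U.ι E hE
  have haff : IsAffine (U : Scheme.{u}) := hU
  obtain ⟨X', g, hX', hg⟩ := (Groth.Agent.S3400.result (U : Scheme.{u}) (U.ι.base ⁻¹' E)).mp hEU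
  have hx' : (⟨x, hxU⟩ : U) ∈ closure (g '' Set.univ) := by
    rw [Set.image_univ]
    have h1 : Set.range g.base = U.ι.base ⁻¹' E := hg
    rw [show Set.range ⇑g = Set.range g.base from rfl, h1]
    have h2 := U.ι.isOpenEmbedding.isOpenMap.preimage_closure_eq_closure_preimage
      U.ι.continuous E
    have h3 : (⟨x, hxU⟩ : U) ∈ U.ι.base ⁻¹' closure E := hx
    rw [h2] at h3
    exact h3
  obtain ⟨c, -, hc⟩ := exists_specializes_of_mem_closure_image g Set.univ isClosed_univ _ hx'
  refine ⟨U.ι (g c), ?_, hc.map U.ι.continuous⟩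
  have : g c ∈ Set.range g.base := ⟨c, rfl⟩
  rw [hg] at this
  exact this

/-- A singleton is pro-constructible. -/
theorem isProConstructible_singleton {Y : Scheme.{u}} (y' : Y) :
    ProCons.IsProConstructible ({y'} : Set Y) := by
  have hfin : Finite (Spec (Y.residueField y')) :=
    inferInstanceAs (Finite (PrimeSpectrum (Y.residueField y')))
  have hqc : QuasiCompact (Y.fromSpecResidueField y') :=
    ⟨fun U _ _ => (Set.toFinite _).isCompact⟩
  have huniv : ProCons.IsProConstructible (Set.univ : Set (Spec (Y.residueField y'))) := by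
    intro x
    refine ⟨Set.univ, isOpen_univ, Set.mem_univ _, ∅, by simp, by simp⟩
  have := Groth.Agent.S3398.result (Y.fromSpecResidueField y') Set.univ huniv
  rw [Set.image_univ] at this
  have hr := Scheme.range_fromSpecResidueField y'
  rw [show Set.range (Y.fromSpecResidueField y').base = Set.range ⇑(Y.fromSpecResidueField y')
    from rfl, hr] at this
  exact this

/-- A point in the closure of a fibre is a specialization of a point of the fibre. -/
theorem exists_specializes_of_mem_closure_fibre {X Y : Scheme.{u}} (f : X ⟶ Y) (y : Y) (x : X)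
    (hx : x ∈ closure (f.base ⁻¹' {y})) : ∃ x' : X, f x' = y ∧ x' ⤳ x := by
  have hpc : ProCons.IsProConstructible (f.base ⁻¹' ({y} : Set Y)) :=
    Groth.Agent.S15542.result f _ (isProConstructible_singleton y)
  obtain ⟨x', hx', hx'x⟩ := exists_specializes_of_mem_closure _ hpc x hx
  exact ⟨x', hx', hx'x⟩

end Groth.Agent.Lib.Helper38.ProConsClosure
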