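import Groth.Prelude.Def_DescFam
import Groth.Agent.Lib.Helper38.FpqcGlue

/-!
# Full faithfulness of pullback of descent data along a refinement (functor-of-points form)
-/

set_option autoImplicit false
set_option backward.isDefEq.respectTransparency false
universe u

open CategoryTheory CategoryTheory.Limits AlgebraicGeometry Opposite Desc

namespace Groth.Agent.Lib.Helper38.PullDDFamFF

open Groth.Agent.Lib.Helper38.FpqcGlue

variable {S : Scheme.{u}} {ι κ : Type u} {U : ι → Scheme.{u}} {V : κ → Scheme.{u}}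
  {uu : ∀ i, U i ⟶ S} {v : ∀ j, V j ⟶ S} {α : ι → κ} {g : ∀ i, U i ⟶ V (α i)}
  (w : ∀ i, g i ≫ v (α i) = uu i ≫ 𝟙 S)

include w in
lemma hx {T : Scheme.{u}} {j : κ} (x₀ : T ⟶ V j) (i : ι) (y : T ⟶ U i)
    (h : x₀ ≫ v j = y ≫ uu i) : x₀ ≫ v j = (y ≫ g i) ≫ v (α i) := by
  rw [Category.assoc, w, Category.comp_id, h]

variable {D D' : SchDDFam v}

/-- The map on points over `y ≫ g i` induced by a morphism between the pulled back data. -/
noncomputable def Phi (b : (pullDDFam w).obj D ⟶ (pullDDFam w).obj D') {T : Scheme.{u}} (i : ι)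
    (y : T ⟶ U i) (ψ : Lifts (D.obj (α i)) (y ≫ g i)) : Lifts (D'.obj (α i)) (y ≫ g i) :=
  liftsPullbackEquiv (D'.obj (α i)) (g i) y
    (b.push ((liftsPullbackEquiv (D.obj (α i)) (g i) y).symm ψ))

lemma Phi_val (b : (pullDDFam w).obj D ⟶ (pullDDFam w).obj D') {T : Scheme.{u}} (i : ι)
    (y : T ⟶ U i) (ψ : Lifts (D.obj (α i)) (y ≫ g i)) :
    (Phi w b i y ψ).1 = pullback.lift ψ.1 y ψ.2 ≫ (b.hom i).left ≫
      pullback.fst (D'.obj (α i)).hom (g i) := by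
  simp [Phi, liftsPullbackEquiv, SchDDFam.Hom.push]

lemma Phi_comm (b : (pullDDFam w).obj D ⟶ (pullDDFam w).obj D') {T : Scheme.{u}} (i i' : ι)
    (y : T ⟶ U i) (y' : T ⟶ U i') (h : y ≫ uu i = y' ≫ uu i')
    (hh : (y ≫ g i) ≫ v (α i) = (y' ≫ g i') ≫ v (α i'))
    (ψ : Lifts (D.obj (α i)) (y ≫ g i)) :
    D'.φ (y ≫ g i) (y' ≫ g i') hh (Phi w b i y ψ) =
      Phi w b i' y' (D.φ (y ≫ g i) (y' ≫ g i') hh ψ) := by
  have key := b.comm y y' h ((liftsPullbackEquiv (D.obj (α i)) (g i) y).symm ψ)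
    (b.push ((liftsPullbackEquiv (D.obj (α i)) (g i) y).symm ψ)) rfl
  have key' : ((pullDDFam w).obj D').φ y y' h
      (b.push ((liftsPullbackEquiv (D.obj (α i)) (g i) y).symm ψ)) =
      b.push (((pullDDFam w).obj D).φ y y' h ((liftsPullbackEquiv (D.obj (α i)) (g i) y).symm ψ)) :=
    Subtype.ext key
  have key'' := congrArg (liftsPullbackEquiv (D'.obj (α i')) (g i') y') key'
  simpa [pullDDFam, pullDDFamObj, Phi] using key''

lemma Phi_natural (b : (pullDDFam w).obj D ⟶ (pullDDFam w).obj D') {T T' : Scheme.{u}}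
    (g₀ : T' ⟶ T) (i : ι) (y : T ⟶ U i) (y₀ : T' ⟶ U i) (hy : g₀ ≫ y = y₀)
    (ψ : Lifts (D.obj (α i)) (y ≫ g i)) (ψ₀ : Lifts (D.obj (α i)) (y₀ ≫ g i))
    (hψ : ψ₀.1 = g₀ ≫ ψ.1) : (Phi w b i y₀ ψ₀).1 = g₀ ≫ (Phi w b i y ψ).1 := by
  subst hy
  rw [Phi_val, Phi_val]
  have e : pullback.lift ψ₀.1 (g₀ ≫ y) ψ₀.2 = g₀ ≫ pullback.lift ψ.1 y ψ.2 := by
    apply pullback.hom_ext <;> simp [hψ]
  rw [e, Category.assoc]


/-- The candidate image of a point `tt` of `D.obj j` over `x₀`, computed through `U i`. -/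
noncomputable def beta (b : (pullDDFam w).obj D ⟶ (pullDDFam w).obj D') {T : Scheme.{u}} {j : κ}
    (x₀ : T ⟶ V j) (tt : Lifts (D.obj j) x₀) (i : ι) (y : T ⟶ U i)
    (h : x₀ ≫ v j = y ≫ uu i) : Lifts (D'.obj j) x₀ :=
  (D'.φ x₀ (y ≫ g i) (hx w x₀ i y h)).symm
    (Phi w b i y (D.φ x₀ (y ≫ g i) (hx w x₀ i y h) tt))

lemma phi_beta (b : (pullDDFam w).obj D ⟶ (pullDDFam w).obj D') {T : Scheme.{u}} {j : κ}
    (x₀ : T ⟶ V j) (tt : Lifts (D.obj j) x₀) (i : ι) (y : T ⟶ U i)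
    (h : x₀ ≫ v j = y ≫ uu i) :
    D'.φ x₀ (y ≫ g i) (hx w x₀ i y h) (beta w b x₀ tt i y h) =
      Phi w b i y (D.φ x₀ (y ≫ g i) (hx w x₀ i y h) tt) := by
  simp [beta]

lemma beta_indep (b : (pullDDFam w).obj D ⟶ (pullDDFam w).obj D') {T : Scheme.{u}} {j : κ}
    (x₀ : T ⟶ V j) (tt : Lifts (D.obj j) x₀) (i i' : ι) (y : T ⟶ U i) (y' : T ⟶ U i')
    (h : x₀ ≫ v j = y ≫ uu i) (h' : x₀ ≫ v j = y' ≫ uu i') :
    beta w b x₀ tt i y h = beta w b x₀ tt i' y' h' := by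
  apply (D'.φ x₀ (y' ≫ g i') (hx w x₀ i' y' h')).injective
  rw [phi_beta]
  have hh : (y ≫ g i) ≫ v (α i) = (y' ≫ g i') ≫ v (α i') :=
    (hx w x₀ i y h).symm.trans (hx w x₀ i' y' h')
  rw [← D'.φ_comp x₀ (y ≫ g i) (y' ≫ g i') (hx w x₀ i y h) hh, phi_beta,
    Phi_comm w b i i' y y' (h.symm.trans h') hh, D.φ_comp]

lemma beta_natural (b : (pullDDFam w).obj D ⟶ (pullDDFam w).obj D') {T T' : Scheme.{u}}
    (g₀ : T' ⟶ T) {j : κ} (x₀ : T ⟶ V j) (tt : Lifts (D.obj j) x₀) (i : ι) (y : T ⟶ U i)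
    (h : x₀ ≫ v j = y ≫ uu i) (x₀' : T' ⟶ V j) (hx₀ : g₀ ≫ x₀ = x₀') (tt' : Lifts (D.obj j) x₀')
    (htt : tt'.1 = g₀ ≫ tt.1) (y' : T' ⟶ U i) (hy : g₀ ≫ y = y') (h' : x₀' ≫ v j = y' ≫ uu i) :
    (beta w b x₀' tt' i y' h').1 = g₀ ≫ (beta w b x₀ tt i y h).1 := by
  have hc : (g₀ ≫ (beta w b x₀ tt i y h).1) ≫ (D'.obj j).hom = x₀' := by
    rw [Category.assoc, (beta w b x₀ tt i y h).2, hx₀]
  have e1 : g₀ ≫ y ≫ g i = y' ≫ g i := by rw [← hy, Category.assoc]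
  have key : D'.φ x₀' (y' ≫ g i) (hx w x₀' i y' h') ⟨g₀ ≫ (beta w b x₀ tt i y h).1, hc⟩ =
      Phi w b i y' (D.φ x₀' (y' ≫ g i) (hx w x₀' i y' h') tt') := by
    apply Subtype.ext
    rw [D'.φ_natural g₀ x₀ (y ≫ g i) (hx w x₀ i y h) x₀' (y' ≫ g i) hx₀ e1 (hx w x₀' i y' h')
      (beta w b x₀ tt i y h) ⟨g₀ ≫ (beta w b x₀ tt i y h).1, hc⟩ rfl, phi_beta]
    symm
    apply Phi_natural w b g₀ i y y' hy
    exact D.φ_natural g₀ x₀ (y ≫ g i) (hx w x₀ i y h) x₀' (y' ≫ g i) hx₀ e1 (hx w x₀' i y' h')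
      tt tt' htt
  have : beta w b x₀' tt' i y' h' = ⟨g₀ ≫ (beta w b x₀ tt i y h).1, hc⟩ := by
    rw [beta, ← key, Equiv.symm_apply_apply]
  rw [this]


lemma beta_phi (b : (pullDDFam w).obj D ⟶ (pullDDFam w).obj D') {T : Scheme.{u}} {j j' : κ}
    (x₀ : T ⟶ V j) (x₁ : T ⟶ V j') (h01 : x₀ ≫ v j = x₁ ≫ v j') (tt : Lifts (D.obj j) x₀)
    (i : ι) (y : T ⟶ U i) (h : x₀ ≫ v j = y ≫ uu i) (h₁ : x₁ ≫ v j' = y ≫ uu i) :
    D'.φ x₀ x₁ h01 (beta w b x₀ tt i y h) = beta w b x₁ (D.φ x₀ x₁ h01 tt) i y h₁ := by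
  apply (D'.φ x₁ (y ≫ g i) (hx w x₁ i y h₁)).injective
  rw [D'.φ_comp, phi_beta, phi_beta, D.φ_comp]

lemma beta_self (b : (pullDDFam w).obj D ⟶ (pullDDFam w).obj D') {T : Scheme.{u}} (i : ι)
    (y : T ⟶ U i) (tt : Lifts (D.obj (α i)) (y ≫ g i)) (h : (y ≫ g i) ≫ v (α i) = y ≫ uu i) :
    beta w b (y ≫ g i) tt i y h = Phi w b i y tt := by
  have e := phi_beta w b (y ≫ g i) tt i y h
  rw [D'.φ_self, D.φ_self] at e
  exact e

variable (H : ∀ j, Sieve.pullback (v j) (Sieve.ofArrows U uu) ∈ Scheme.fpqcTopology (V j))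

include H in
lemma mem_RR {T : Scheme.{u}} {j : κ} (q : T ⟶ V j) :
    Sieve.pullback (q ≫ v j) (Sieve.ofArrows U uu) ∈ Scheme.fpqcTopology T := by
  rw [Sieve.pullback_comp]
  exact Scheme.fpqcTopology.pullback_stable q (H j)

/-- Pointwise form of faithfulness: two morphisms with the same pullback agree on every point
of `D.obj j` whose image in `S` lifts to some `U i`. -/
lemma faithful_pt {D D' : SchDDFam v} (a a' : D ⟶ D')
    (haa' : (pullDDFam w).map a = (pullDDFam w).map a') {T : Scheme.{u}} {j : κ}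
    (t : T ⟶ (D.obj j).left) (i : ι) (y : T ⟶ U i)
    (h0 : (t ≫ (D.obj j).hom) ≫ v j = y ≫ uu i) :
    t ≫ (a.hom j).left = t ≫ (a'.hom j).left := by
  have hX := hx w (t ≫ (D.obj j).hom) i y h0
  let tt : Lifts (D.obj j) (t ≫ (D.obj j).hom) := ⟨t, rfl⟩
  have k1 := a.comm _ _ hX tt (a.push tt) rfl
  have k2 := a'.comm _ _ hX tt (a'.push tt) rfl
  have k3 : (D.φ _ _ hX tt).1 ≫ (a.hom (α i)).left = (D.φ _ _ hX tt).1 ≫ (a'.hom (α i)).left := by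
    have := congrArg (fun c => pullback.lift (D.φ _ _ hX tt).1 y (D.φ _ _ hX tt).2 ≫
      (c.hom i).left ≫ pullback.fst (D'.obj (α i)).hom (g i)) haa'
    simpa [pullDDFam] using this
  have k4 : D'.φ _ _ hX (a.push tt) = D'.φ _ _ hX (a'.push tt) :=
    Subtype.ext (by rw [k1, k2, k3])
  have k5 := (D'.φ _ _ hX).injective k4
  exact congrArg Subtype.val k5

include H in
theorem faithful : (pullDDFam w).Faithful := by
  constructor
  intro D D' a a' haa'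
  apply SchDDFam.hom_ext
  funext j
  apply Over.OverMorphism.ext
  apply hom_ext_of_mem_fpqc _ (mem_RR H (D.obj j).hom)
  intro T t ht
  obtain ⟨i, y, h⟩ := (mem_pullback_ofArrows_iff uu ((D.obj j).hom ≫ v j) t).mp ht
  have h0 : (t ≫ (D.obj j).hom) ≫ v j = y ≫ uu i := by rw [Category.assoc]; exact h
  exact faithful_pt w a a' haa' t i y h0

include H in
theorem full : (pullDDFam w).Full := by
  constructor
  intro D D' b
  have key : ∀ (j : κ) {T : Scheme.{u}} (t : T ⟶ (D.obj j).left),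
      Sieve.pullback ((D.obj j).hom ≫ v j) (Sieve.ofArrows U uu) t →
      ∃ (i : ι) (y : T ⟶ U i), (t ≫ (D.obj j).hom) ≫ v j = y ≫ uu i := by
    intro j T t ht
    obtain ⟨i, y, h⟩ := (mem_pullback_ofArrows_iff uu ((D.obj j).hom ≫ v j) t).mp ht
    exact ⟨i, y, by rw [Category.assoc]; exact h⟩
  choose ci cy ch using @key
  have hglue : ∀ j : κ, ∃ a : (D.obj j).left ⟶ (D'.obj j).left,
      ∀ (T : Scheme.{u}) (t : T ⟶ (D.obj j).left) (i : ι) (y : T ⟶ U i)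
        (h : (t ≫ (D.obj j).hom) ≫ v j = y ≫ uu i),
        t ≫ a = (beta w b (t ≫ (D.obj j).hom) ⟨t, rfl⟩ i y h).1 := by
    intro j
    obtain ⟨a, ha, -⟩ := existsUnique_glue (Z := (D'.obj j).left) _ (mem_RR H (D.obj j).hom)
      (fun T t ht => (beta w b (t ≫ (D.obj j).hom) ⟨t, rfl⟩ (ci j t ht) (cy j t ht)
        (ch j t ht)).1)
      (by
        intro T T' g₀ t ht
        have h' : ((g₀ ≫ t) ≫ (D.obj j).hom) ≫ v j = (g₀ ≫ cy j t ht) ≫ uu (ci j t ht) := by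
          rw [Category.assoc, Category.assoc, Category.assoc, ← Category.assoc t, ch j t ht]
        rw [beta_indep w b _ _ _ (ci j t ht) _ (g₀ ≫ cy j t ht) _ h']
        exact beta_natural w b g₀ (t ≫ (D.obj j).hom) ⟨t, rfl⟩ (ci j t ht) (cy j t ht)
          (ch j t ht) ((g₀ ≫ t) ≫ (D.obj j).hom) (Category.assoc _ _ _).symm ⟨g₀ ≫ t, rfl⟩ rfl
          (g₀ ≫ cy j t ht) rfl h')
    refine ⟨a, fun T t i y h => ?_⟩
    have ht : Sieve.pullback ((D.obj j).hom ≫ v j) (Sieve.ofArrows U uu) t :=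
      (mem_pullback_ofArrows_iff uu ((D.obj j).hom ≫ v j) t).mpr
        ⟨i, y, by rw [← Category.assoc]; exact h⟩
    rw [ha t ht]
    exact congrArg Subtype.val (beta_indep w b _ _ _ _ _ _ _ _)
  choose a ha using hglue
  have ha' : ∀ (j : κ) (T : Scheme.{u}) (x₀ : T ⟶ V j) (tt : Lifts (D.obj j) x₀) (i : ι)
      (y : T ⟶ U i) (h : x₀ ≫ v j = y ≫ uu i), tt.1 ≫ a j = (beta w b x₀ tt i y h).1 := by
    intro j T x₀ tt i y h
    obtain ⟨t, rfl⟩ := tt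
    exact ha j T t i y h
  have haV : ∀ j, a j ≫ (D'.obj j).hom = (D.obj j).hom := by
    intro j
    apply hom_ext_of_mem_fpqc _ (mem_RR H (D.obj j).hom)
    intro T t ht
    rw [← Category.assoc, ha j T t (ci j t ht) (cy j t ht) (ch j t ht)]
    exact (beta w b (t ≫ (D.obj j).hom) ⟨t, rfl⟩ (ci j t ht) (cy j t ht) (ch j t ht)).2
  refine ⟨⟨fun j => Over.homMk (a j) (haV j), ?_⟩, ?_⟩
  · intro T j j' x₀ x₁ h01 vv ww hww
    have hww' : ww.1 = vv.1 ≫ a j := hww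
    change (D'.φ x₀ x₁ h01 ww).1 = (D.φ x₀ x₁ h01 vv).1 ≫ a j'
    apply hom_ext_of_mem_fpqc _ (mem_RR H x₀)
    intro T' g₀ hg₀
    obtain ⟨i, y, h⟩ := (mem_pullback_ofArrows_iff uu (x₀ ≫ v j) g₀).mp hg₀
    have h0 : (g₀ ≫ x₀) ≫ v j = y ≫ uu i := by rw [Category.assoc]; exact h
    have h01' : (g₀ ≫ x₀) ≫ v j = (g₀ ≫ x₁) ≫ v j' := by
      rw [Category.assoc, h01, Category.assoc]
    have h1 : (g₀ ≫ x₁) ≫ v j' = y ≫ uu i := h01'.symm.trans h0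
    let vv₀ : Lifts (D.obj j) (g₀ ≫ x₀) := ⟨g₀ ≫ vv.1, by rw [Category.assoc, vv.2]⟩
    let ww₀ : Lifts (D'.obj j) (g₀ ≫ x₀) := ⟨g₀ ≫ ww.1, by rw [Category.assoc, ww.2]⟩
    have e1 : g₀ ≫ (D'.φ x₀ x₁ h01 ww).1 = (D'.φ (g₀ ≫ x₀) (g₀ ≫ x₁) h01' ww₀).1 :=
      (D'.φ_natural g₀ x₀ x₁ h01 (g₀ ≫ x₀) (g₀ ≫ x₁) rfl rfl h01' ww ww₀ rfl).symm
    have e2 : g₀ ≫ (D.φ x₀ x₁ h01 vv).1 = (D.φ (g₀ ≫ x₀) (g₀ ≫ x₁) h01' vv₀).1 :=
      (D.φ_natural g₀ x₀ x₁ h01 (g₀ ≫ x₀) (g₀ ≫ x₁) rfl rfl h01' vv vv₀ rfl).symm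
    have e3 : ww₀ = beta w b (g₀ ≫ x₀) vv₀ i y h0 := by
      apply Subtype.ext
      rw [← ha' j T' (g₀ ≫ x₀) vv₀ i y h0]
      change g₀ ≫ ww.1 = (g₀ ≫ vv.1) ≫ a j
      rw [hww', Category.assoc]
    rw [e1, ← Category.assoc, e2, e3, beta_phi w b (g₀ ≫ x₀) (g₀ ≫ x₁) h01' vv₀ i y h0 h1,
      ha' j' T' (g₀ ≫ x₁) _ i y h1]
  · apply SchDDFam.hom_ext
    funext i
    apply Over.OverMorphism.ext
    simp only [pullDDFam, Over.homMk_left]
    apply pullback.hom_ext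
    · rw [pullback.lift_fst]
      have hc : (pullback.snd (D.obj (α i)).hom (g i) ≫ g i) ≫ v (α i) =
          pullback.snd (D.obj (α i)).hom (g i) ≫ uu i := by
        rw [Category.assoc, w, Category.comp_id]
      have := ha' (α i) _ (pullback.snd (D.obj (α i)).hom (g i) ≫ g i)
        ⟨pullback.fst (D.obj (α i)).hom (g i), pullback.condition⟩ i
        (pullback.snd (D.obj (α i)).hom (g i)) hc
      rw [beta_self, Phi_val] at this
      have hid : pullback.lift (pullback.fst (D.obj (α i)).hom (g i))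
          (pullback.snd (D.obj (α i)).hom (g i)) pullback.condition = 𝟙 _ := by
        apply pullback.hom_ext <;> simp
      rw [hid, Category.id_comp] at this
      exact this
    · rw [pullback.lift_snd, Category.comp_id]
      exact (Over.w (b.hom i)).symm

end Groth.Agent.Lib.Helper38.PullDDFamFF
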