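import Mathlib.AlgebraicGeometry.QuasiAffine

/-!
# Affine basic opens of a qcqs scheme lie in the range of `X ⟶ Spec Γ(X, ⊤)`
-/

set_option autoImplicit false
universe u

open CategoryTheory CategoryTheory.Limits AlgebraicGeometry TopologicalSpace

namespace Groth.Agent.Lib.Helper38.QAffBasic

/-- If `X` is qcqs and `X_r` is affine for a global section `r`, then `D(r) ⊆ range X.toSpecΓ`. -/
theorem basicOpen_subset_range_toSpecΓ (X : Scheme.{u}) [CompactSpace X] [QuasiSeparatedSpace X]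
    (r : Γ(X, ⊤)) (hr : IsAffineOpen (X.basicOpen r)) :
    (PrimeSpectrum.basicOpen r : Set (PrimeSpectrum Γ(X, ⊤))) ⊆ Set.range X.toSpecΓ := by
  have hloc := isLocalization_basicOpen_of_qcqs (X := X) (U := ⊤) isCompact_univ
    isQuasiSeparated_univ r
  have hrange := PrimeSpectrum.localization_away_comap_range (Γ(X, X.basicOpen r)) r
  intro p hp
  rw [← hrange] at hp
  obtain ⟨q, rfl⟩ := hp
  have hsurj : Function.Surjective (X.basicOpen r).toSpecΓ := by
    intro y
    exact ⟨hr.isoSpec.inv y, by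
      rw [← Scheme.Hom.comp_apply, hr.isoSpec_inv_toSpecΓ]; rfl⟩
  obtain ⟨v, rfl⟩ := hsurj q
  refine ⟨(X.basicOpen r).ι v, ?_⟩
  rw [← Scheme.Hom.comp_apply, ← Scheme.Opens.toSpecΓ_SpecMap_presheaf_map_top,
    Scheme.Hom.comp_apply]
  rfl

end Groth.Agent.Lib.Helper38.QAffBasic
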