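import Groth.Agent.Lib.Helper38.FlatFiniteGoingDown
import Groth.Agent.Lib.QCoh.Helper18_PullbackSupport
import Groth.Agent.Lib.QCoh.Helper74_FlatOverBaseChange
import Groth.Prelude.Def_FDesc

/-!
# Quasi-flat morphisms are universally generalizing
-/

set_option autoImplicit false
universe u

open CategoryTheory CategoryTheory.Limits AlgebraicGeometry TensorProduct

namespace Groth.Agent.Lib.Helper38.QuasiFlatBC

/-- Generalizations lift along `p : P ⟶ X` as soon as there is a quasi-coherent module on `P`, flat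
over `X`, whose stalks are finite and nonzero. -/
theorem generalizingMap_of_stalks {P X : Scheme.{u}} (p : P ⟶ X) (M : P.Modules)
    (hflat : FlatMod.IsFlatOver p M)
    (hfin : ∀ x : P, Module.Finite (P.presheaf.stalk x) (M.presheaf.stalk x))
    (hnt : ∀ x : P, Nontrivial (M.presheaf.stalk x)) : GeneralizingMap p.base := by
  intro x y' hy'
  have hfinx := hfin x
  have hntx := hnt x
  have hsurj := Groth.Agent.Lib.Helper38.FlatFiniteGoingDown.comap_surjective_of_flat_finite
    (N := M.presheaf.stalk x) (p.stalkMap x).hom (hflat x)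
  have hy'' : y' ∈ Set.range (X.fromSpecStalk (p x)) := by
    rw [Scheme.range_fromSpecStalk]; exact hy'
  obtain ⟨q, hq⟩ := hy''
  obtain ⟨r, hr⟩ := hsurj q
  refine ⟨P.fromSpecStalk x r, ?_, ?_⟩
  · have : P.fromSpecStalk x r ∈ Set.range (P.fromSpecStalk x) := ⟨r, rfl⟩
    rw [Scheme.range_fromSpecStalk] at this
    exact this
  · have h1 : (P.fromSpecStalk x ≫ p) r = y' := by
      rw [← Scheme.SpecMap_stalkMap_fromSpecStalk, Scheme.Hom.comp_apply]
      rw [← hq]
      congr 1
    exact h1

/-- The base change of a quasi-flat morphism lifts generalizations. -/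
theorem generalizingMap_of_isPullback {X Y Y' P : Scheme.{u}} (f : X ⟶ Y) (g : Y' ⟶ Y)
    (p : P ⟶ X) (q : P ⟶ Y') (h : IsPullback q p g f) (hg : FDesc.IsQuasiFlat g) :
    GeneralizingMap p.base := by
  obtain ⟨M, ⟨hqc, hft⟩, hflat, hnt⟩ := hg
  have hqc' : M.IsQuasicoherent := hqc
  have hft' : M.IsFiniteType := hft
  refine generalizingMap_of_stalks p ((Scheme.Modules.pullback q).obj M) ?_ ?_ ?_
  · exact Groth.Agent.Lib.QCoh.isFlatOver_pullback_of_isPullback g f q p h M hflat
  · intro x
    letI : Algebra (Y'.presheaf.stalk (q x)) (P.presheaf.stalk x) := (q.stalkMap x).hom.toAlgebra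
    obtain ⟨e⟩ := Groth.Agent.Lib.QCoh.nonempty_stalk_pullback_linearEquiv q M x
    have : Module.Finite (Y'.presheaf.stalk (q x)) (M.presheaf.stalk (q x)) :=
      Groth.Agent.Lib.QCoh.finite_stalk M (q x)
    exact Module.Finite.equiv e.symm
  · intro x
    rw [← not_subsingleton_iff_nontrivial, Groth.Agent.Lib.QCoh.stalk_pullback_subsingleton_iff q M x,
      not_subsingleton_iff_nontrivial]
    exact hnt (q x)

theorem generalizingMap_fst {X Y Y' : Scheme.{u}} (f : X ⟶ Y) (g : Y' ⟶ Y)
    (hg : FDesc.IsQuasiFlat g) : GeneralizingMap (pullback.fst f g).base :=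
  generalizingMap_of_isPullback f g _ _ (IsPullback.of_hasPullback f g).flip hg

theorem generalizingMap_snd {X Y Y' : Scheme.{u}} (f : X ⟶ Y) (g : Y' ⟶ Y)
    (hf : FDesc.IsQuasiFlat f) : GeneralizingMap (pullback.snd f g).base :=
  generalizingMap_of_isPullback g f _ _ (IsPullback.of_hasPullback f g) hf

end Groth.Agent.Lib.Helper38.QuasiFlatBC
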