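import Mathlib.AlgebraicGeometry.Morphisms.Basic
import Mathlib.AlgebraicGeometry.Restrict
import Mathlib.AlgebraicGeometry.Pullbacks

/-!
# `pullback.map` over an open versus `morphismRestrict`

For `p : X ⟶ Y` over `S` and `U : S.Opens`, the map `X ×_S U ⟶ Y ×_S U` induced by `p` is a base
change of `p ∣_ (h ⁻¹ᵁ U)`; in particular it is an isomorphism as soon as the latter is.
-/

universe u

open CategoryTheory CategoryTheory.Limits AlgebraicGeometry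

namespace Groth.Agent.Lib.Helper38

/-- The square exhibiting `pullback.map g i h i p 𝟙 𝟙` as a base change of `p`. -/
lemma isPullback_pullbackMap_fst {S X Y T : Scheme.{u}} (g : X ⟶ S) (h : Y ⟶ S) (p : X ⟶ Y)
    (i : T ⟶ S) (w₁ : g ≫ 𝟙 S = p ≫ h) (w₂ : i ≫ 𝟙 S = 𝟙 T ≫ i) :
    IsPullback (pullback.map g i h i p (𝟙 _) (𝟙 _) w₁ w₂) (pullback.fst g i) (pullback.fst h i) p := by
  have hg : p ≫ h = g := by rw [← w₁, Category.comp_id]
  subst hg
  refine IsPullback.of_right (h₁₂ := pullback.snd h i) (v₁₃ := i) (h₂₂ := h) ?_ ?_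
    (IsPullback.of_hasPullback h i).flip
  · have : pullback.map (p ≫ h) i h i p (𝟙 _) (𝟙 _) w₁ w₂ ≫ pullback.snd h i =
        pullback.snd (p ≫ h) i := by
      rw [pullback.lift_snd, Category.comp_id]
    rw [this]
    exact (IsPullback.of_hasPullback (p ≫ h) i).flip
  · exact pullback.lift_fst _ _ _

/-- If `p` restricts to an isomorphism over `h ⁻¹ᵁ U`, then the base change `X ×_S U ⟶ Y ×_S U`
of `p` is an isomorphism. -/
lemma isIso_pullbackMap_of_isIso_morphismRestrict {S X Y : Scheme.{u}} (g : X ⟶ S) (h : Y ⟶ S)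
    (p : X ⟶ Y) (U : S.Opens) (w₁ : g ≫ 𝟙 S = p ≫ h) (w₂ : U.ι ≫ 𝟙 S = 𝟙 _ ≫ U.ι)
    (hiso : IsIso (p ∣_ (h ⁻¹ᵁ U))) :
    IsIso (pullback.map g U.ι h U.ι p (𝟙 _) (𝟙 _) w₁ w₂) := by
  have sq := isPullback_pullbackMap_fst g h p U.ι w₁ w₂
  -- `pullback.fst h U.ι` factors through `(h ⁻¹ᵁ U).ι`
  have hrange : Set.range (pullback.fst h U.ι) ⊆ Set.range (h ⁻¹ᵁ U).ι := by
    rintro _ ⟨y, rfl⟩
    rw [Scheme.Opens.range_ι]
    show h (pullback.fst h U.ι y) ∈ U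
    rw [← Scheme.Hom.comp_apply, pullback.condition, Scheme.Hom.comp_apply]
    exact (pullback.snd h U.ι y).2
  let a : pullback h U.ι ⟶ (h ⁻¹ᵁ U).toScheme := IsOpenImmersion.lift (h ⁻¹ᵁ U).ι _ hrange
  have ha : a ≫ (h ⁻¹ᵁ U).ι = pullback.fst h U.ι := IsOpenImmersion.lift_fac _ _ _
  have sq1 := isPullback_morphismRestrict p (h ⁻¹ᵁ U)
  have sq2 := (IsPullback.of_hasPullback (p ∣_ (h ⁻¹ᵁ U)) a).flip
  have sq3 := sq2.paste_vert sq1
  rw [ha] at sq3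
  have e := sq.isoIsPullback _ _ sq3
  have he : (sq.isoIsPullback _ _ sq3).hom ≫ pullback.snd (p ∣_ (h ⁻¹ᵁ U)) a =
      pullback.map g U.ι h U.ι p (𝟙 _) (𝟙 _) w₁ w₂ := IsPullback.isoIsPullback_hom_fst _ _ _ _
  rw [← he]
  infer_instance

end Groth.Agent.Lib.Helper38
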