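import Groth.Agent.Lib.Proj.SegreB

/-!
# Separating points and tangent vectors: germ formula (helper38)

ns `Groth.Agent.Lib.Helper38.SepPts`.
* `smul_mem_smul_top_iff`, `smul_top_le_span_sup_iff` : module algebra over a free generator.
* `linFrac`, `linSec`, `genGerm`, `germ_linSec` : the germ at `x` of `∑ c_i r^*T_i` is
  `r^♯((∑ c_i T_i)/T_j) • (r^*T_j)_x` on `r⁻¹ D₊(T_j)`.
-/

universe u
open CategoryTheory CategoryTheory.Limits AlgebraicGeometry TopologicalSpace Opposite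
  HomogeneousLocalization

namespace Groth.Agent.Lib.Helper38.SepPts

open Groth.Agent.Lib.Ample Groth.Agent.Lib.QCoh Groth.Agent.Lib.Proj Groth.Agent.Lib.Proj.ToProj
  Groth.Agent.Lib.Proj.ToPn Groth.Agent.Lib.Proj.PullSec Groth.Agent.Lib.Proj.QuotCompare
  Groth.Agent.Lib.Proj.PnUP Groth.Agent.Lib.Proj.PnUnique Groth.Agent.Lib.Proj.Segre
  Scheme.Modules Twist

section Algebra

variable {A M : Type*} [CommRing A] [AddCommGroup M] [Module A M] (ε : M)
  (hε : Function.Bijective (fun a : A => a • ε))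

/-- the linear equivalence `A ≃ M`, `a ↦ a • ε` -/
noncomputable def genEquiv : A ≃ₗ[A] M :=
  LinearEquiv.ofBijective (LinearMap.toSpanSingleton A M ε) hε

lemma genEquiv_apply (a : A) : genEquiv ε hε a = a • ε := rfl

include hε in
lemma map_genEquiv (I : Ideal A) :
    Submodule.map (genEquiv ε hε).toLinearMap (I.restrictScalars A) = I • (⊤ : Submodule A M) := by
  have h1 : (I.restrictScalars A : Submodule A A) = I • (⊤ : Submodule A A) := by
    simp
  rw [h1, Submodule.map_smul'', Submodule.map_top, LinearEquiv.range]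

include hε in
lemma smul_mem_smul_top_iff (I : Ideal A) (a : A) :
    a • ε ∈ I • (⊤ : Submodule A M) ↔ a ∈ I := by
  rw [← map_genEquiv ε hε I]
  constructor
  · rintro ⟨b, hb, hba⟩
    have : b = a := (genEquiv ε hε).injective hba
    rw [← this]; exact hb
  · intro ha
    exact ⟨a, ha, rfl⟩

include hε in
theorem smul_top_le_span_sup_iff (I I₂ : Ideal A) {ι : Type*} (lam : ι → A) :
    (I • (⊤ : Submodule A M) ≤
        Submodule.span A {v | ∃ c, v = lam c • ε ∧ v ∈ I • (⊤ : Submodule A M)} ⊔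
          I₂ • (⊤ : Submodule A M)) ↔
      I ≤ Ideal.span {a | ∃ c, a = lam c ∧ a ∈ I} ⊔ I₂ := by
  have hS : {v | ∃ c, v = lam c • ε ∧ v ∈ I • (⊤ : Submodule A M)} =
      (genEquiv ε hε).toLinearMap '' {a | ∃ c, a = lam c ∧ a ∈ I} := by
    ext v
    constructor
    · rintro ⟨c, rfl, hc⟩
      exact ⟨lam c, ⟨c, rfl, (smul_mem_smul_top_iff ε hε I _).1 hc⟩, rfl⟩
    · rintro ⟨a, ⟨c, rfl, hc⟩, rfl⟩
      exact ⟨c, rfl, (smul_mem_smul_top_iff ε hε I _).2 hc⟩
  rw [hS, ← Submodule.map_span, ← map_genEquiv ε hε I, ← map_genEquiv ε hε I₂]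
  have : Submodule.span A {a | ∃ c, a = lam c ∧ a ∈ I} =
      (Ideal.span {a | ∃ c, a = lam c ∧ a ∈ I}).restrictScalars A := rfl
  rw [this, ← Submodule.map_sup]
  exact Submodule.map_le_map_iff_of_injective (genEquiv ε hε).injective _ _

end Algebra

variable {X : Scheme.{u}} {R : Type u} [CommRing R]

lemma resFn_toGlobal {Y : Scheme.{u}} (r : X ⟶ Y) (p : Y ⟶ Spec (CommRingCat.of R)) (V : Y.Opens) (c : R) :
    resFn (le_top : r ⁻¹ᵁ V ≤ ⊤) (ProjUP.toGlobal (r ≫ p) c) =
      (r.app V).hom (baseHom p V c) := by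
  have hV : V ≤ p ⁻¹ᵁ ⊤ := le_top
  have h : (r ≫ p).appTop ≫ X.presheaf.map (homOfLE (le_top : r ⁻¹ᵁ V ≤ ⊤)).op =
      p.appLE ⊤ V hV ≫ r.app V := by
    rw [Scheme.Hom.app_eq_appLE (f := r), Scheme.Hom.appLE_comp_appLE]
    rfl
  exact congrArg (fun φ => φ.hom ((Scheme.ΓSpecIso (CommRingCat.of R)).inv.hom c)) h

variable (n : ℕ) (r : X ⟶ Proj (CohB1.polyGrading n R))

/-- `D₊(T_j)` -/
noncomputable abbrev D (R : Type u) [CommRing R] (n : ℕ) (j : Fin (n + 1)) : (Proj (CohB1.polyGrading n R)).Opens :=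
  Proj.basicOpen (CohB1.polyGrading n R) (MvPolynomial.X j : MvPolynomial (Fin (n + 1)) R)

/-- the structure morphism of `P^n_R`, typed on `Proj` -/
noncomputable abbrev pSpec (R : Type u) [CommRing R] (n : ℕ) :
    Proj (CohB1.polyGrading n R) ⟶ Spec (CommRingCat.of R) := CohB1.ProjSpace.toSpec n R

/-- the function `(∑ c_i T_i) / T_j` on `D₊(T_j)` -/
noncomputable def linFrac (j : Fin (n + 1)) (c : Fin (n + 1) → R) :
    Γ(Proj (CohB1.polyGrading n R), D R n j) :=
  ∑ i, baseHom (pSpec R n) (D R n j) (c i) * zfrac n R j i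

/-- the section `∑ c_i r^*T_i` of `r^*O(1)` -/
noncomputable def linSec (c : Fin (n + 1) → R) :
    Γ((Scheme.Modules.pullback r).obj (twist (CohB1.polyGrading n R) 1), ⊤) :=
  ∑ i, ProjUP.toGlobal (r ≫ pSpec R n) (c i) •
    ProjUP.pullSec r (twist (CohB1.polyGrading n R) 1) (coord n R i)

/-- the local generator `r^* T_j` of `r^* O(1)` at a point of `r⁻¹ D₊(T_j)` -/
noncomputable def genGerm (j : Fin (n + 1)) (x : X) (hx : r x ∈ D R n j) :
    ((Scheme.Modules.pullback r).obj (twist (CohB1.polyGrading n R) 1)).presheaf.stalk x :=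
  ((Scheme.Modules.pullback r).obj (twist (CohB1.polyGrading n R) 1)).presheaf.germ
    (r ⁻¹ᵁ D R n j) x hx
    (resSec _ (le_top : r ⁻¹ᵁ D R n j ≤ ⊤) (secOf (μ n r j)))

lemma genGerm_bijective (j : Fin (n + 1)) (x : X) (hx : r x ∈ D R n j) :
    Function.Bijective (fun a : X.presheaf.stalk x => a • genGerm n r j x hx) := by
  have hU : r ⁻¹ᵁ D R n j ≤ CohB1.genLocus _ (μ n r j) := by rw [genLocus_μ]
  exact IsGenerator.stalk_bijective (isGenerator_resSec_of_le_genLocus (μ n r j) hU) x hx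

lemma resSec_linSec (j : Fin (n + 1)) (c : Fin (n + 1) → R) :
    resSec ((Scheme.Modules.pullback r).obj (twist (CohB1.polyGrading n R) 1))
        (le_top : r ⁻¹ᵁ D R n j ≤ ⊤) (linSec n r c) =
      (r.app (D R n j)).hom (linFrac n j c) •
        resSec _ (le_top : r ⁻¹ᵁ D R n j ≤ ⊤) (secOf (μ n r j)) := by
  unfold linSec linFrac
  unfold resSec
  rw [map_sum, map_sum, Finset.sum_smul]
  refine Finset.sum_congr rfl fun i _ => ?_
  have h1 := resSec_smul ((Scheme.Modules.pullback r).obj (twist (CohB1.polyGrading n R) 1))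
    (le_top : r ⁻¹ᵁ D R n j ≤ ⊤) (ProjUP.toGlobal (r ≫ pSpec R n) (c i))
    (ProjUP.pullSec r (twist (CohB1.polyGrading n R) 1) (coord n R i))
  refine h1.trans ?_
  rw [resFn_toGlobal, ← secOf_μ, pull_coord_rel n r j i le_rfl, map_mul, mul_smul]
  congr 2
  simp [resFn]

theorem germ_linSec (j : Fin (n + 1)) (c : Fin (n + 1) → R) (x : X) (hx : r x ∈ D R n j) :
    ((Scheme.Modules.pullback r).obj (twist (CohB1.polyGrading n R) 1)).presheaf.germ ⊤ x trivial
        (linSec n r c) =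
      (r.stalkMap x).hom ((Proj (CohB1.polyGrading n R)).presheaf.germ (D R n j) (r x) hx
        (linFrac n j c)) • genGerm n r j x hx := by
  have hx' : x ∈ r ⁻¹ᵁ D R n j := hx
  rw [germ_top_eq _ _ (r ⁻¹ᵁ D R n j) x hx', resSec_linSec]
  refine (germ_smul _ x _ hx' _ _).trans ?_
  congr 1
  exact (Scheme.Hom.germ_stalkMap_apply r (D R n j) x hx (linFrac n j c)).symm

end Groth.Agent.Lib.Helper38.SepPts
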