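import Groth.Agent.Lib.Helper38.SepPtsB
import Groth.Agent.S9705
import Groth.Agent.S10867

/-!
# Separating points and tangent vectors: the criterion (helper38)

ns `Groth.Agent.Lib.Helper38.SepPts`. Hartshorne II.7.3 over an algebraically closed field:
* `sep_of_isClosedImmersion` : a closed immersion `f : X ⟶ P^n_k` separates closed points (one-sided
  form) and tangent vectors, in terms of germs of the sections `∑ c_i f^*T_i` of `f^*O(1)`.
* `isClosedImmersion_of_sep` : conversely for `X` proper over `k` (two-sided separation suffices).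
-/

universe u
open CategoryTheory CategoryTheory.Limits AlgebraicGeometry TopologicalSpace Opposite
  HomogeneousLocalization

namespace Groth.Agent.Lib.Helper38.SepPts

open Groth.Agent.Lib.Ample Groth.Agent.Lib.QCoh Groth.Agent.Lib.Proj Groth.Agent.Lib.Proj.ToProj
  Groth.Agent.Lib.Proj.ToPn Groth.Agent.Lib.Proj.PullSec Groth.Agent.Lib.Proj.QuotCompare
  Groth.Agent.Lib.Proj.PnUP Groth.Agent.Lib.Proj.PnUnique Groth.Agent.Lib.Proj.Segre
  Scheme.Modules Twist

section ClosedPoints

variable (k : Type u) [Field k] (n : ℕ)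

instance isProper_pSpec : IsProper (pSpec k n) := Groth.Agent.S9705.isProper_toSpec n k

/-- the germ of `(∑ c_i T_i)/T_j` at `y` lies in the maximal ideal -/
def VanishesAt (j : Fin (n + 1)) (c : Fin (n + 1) → k) (y : Proj (CohB1.polyGrading n k))
    (hy : y ∈ D k n j) : Prop :=
  (Proj (CohB1.polyGrading n k)).presheaf.germ (D k n j) y hy (linFrac n j c) ∈
    IsLocalRing.maximalIdeal ((Proj (CohB1.polyGrading n k)).presheaf.stalk y)

lemma exists_chart (y : Proj (CohB1.polyGrading n k)) : ∃ j, y ∈ D k n j := by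
  have h1 : y ∈ (⊤ : (Proj (CohB1.polyGrading n k)).Opens) := trivial
  rw [← iSup_basicOpen_X n k] at h1
  exact Opens.mem_iSup.1 h1

variable [IsAlgClosed k]

/-- closed points of `P^n_k` are `k`-points -/
lemma exists_kPoint (y : Proj (CohB1.polyGrading n k)) (hy : IsClosed ({y} : Set _)) :
    ∃ σ : Spec (CommRingCat.of k) ⟶ Proj (CohB1.polyGrading n k),
      σ ≫ pSpec k n = 𝟙 _ ∧ σ (pt k) = y :=
  ⟨pointOfClosedPoint (pSpec k n) y hy, pointOfClosedPoint_comp _ _ _,
    pointOfClosedPoint_apply _ _ _ _⟩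

theorem maximalIdeal_le_span (y : Proj (CohB1.polyGrading n k)) (hyc : IsClosed ({y} : Set _))
    (j : Fin (n + 1)) (hy : y ∈ D k n j) :
    IsLocalRing.maximalIdeal ((Proj (CohB1.polyGrading n k)).presheaf.stalk y) ≤
      Ideal.span {a | ∃ c : Fin (n + 1) → k,
        a = (Proj (CohB1.polyGrading n k)).presheaf.germ (D k n j) y hy (linFrac n j c) ∧
        a ∈ IsLocalRing.maximalIdeal ((Proj (CohB1.polyGrading n k)).presheaf.stalk y)} := by
  obtain ⟨σ, hσ, rfl⟩ := exists_kPoint k n y hyc
  exact maximalIdeal_le_span_linFrac n σ hσ j hy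

theorem exists_separating_same_chart (y y' : Proj (CohB1.polyGrading n k))
    (hyc : IsClosed ({y} : Set _)) (hyc' : IsClosed ({y'} : Set _)) (hne : y ≠ y')
    (j : Fin (n + 1)) (hy : y ∈ D k n j) (hy' : y' ∈ D k n j) :
    ∃ c, VanishesAt k n j c y hy ∧ ¬ VanishesAt k n j c y' hy' := by
  obtain ⟨σ, hσ, rfl⟩ := exists_kPoint k n y hyc
  obtain ⟨σ', hσ', rfl⟩ := exists_kPoint k n y' hyc'
  obtain ⟨c, h1, h2⟩ := exists_linFrac_separating_same_chart n σ hσ j hy σ' hσ' hy' hne
  exact ⟨c, (ev_eq_zero_iff σ (D k n j) hy _).1 h1,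
    fun h => h2 ((ev_eq_zero_iff σ' (D k n j) hy' _).2 h)⟩

theorem exists_separating_other_chart (y y' : Proj (CohB1.polyGrading n k))
    (hyc : IsClosed ({y} : Set _)) (hyc' : IsClosed ({y'} : Set _))
    (j j' : Fin (n + 1)) (hy : y ∈ D k n j) (hy' : y' ∈ D k n j') (hnot : y' ∉ D k n j) :
    ∃ c, VanishesAt k n j c y hy ∧ ¬ VanishesAt k n j' c y' hy' := by
  obtain ⟨σ, hσ, rfl⟩ := exists_kPoint k n y hyc
  obtain ⟨σ', hσ', rfl⟩ := exists_kPoint k n y' hyc'
  obtain ⟨c, h1, h2⟩ := exists_linFrac_separating_other_chart n σ hσ j hy σ' j' hy' hnot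
  exact ⟨c, (ev_eq_zero_iff σ (D k n j) hy _).1 h1,
    fun h => h2 ((ev_eq_zero_iff σ' (D k n j') hy' _).2 h)⟩

end ClosedPoints

section Main

variable (k : Type u) [Field k] {X : Scheme.{u}} (n : ℕ) (f : X ⟶ Proj (CohB1.polyGrading n k))

/-- the germ of `∑ c_i f^*T_i` at `P` lies in `m_P L_P` -/
def SecVanishesAt (c : Fin (n + 1) → k) (P : X) : Prop :=
  ((Scheme.Modules.pullback f).obj (twist (CohB1.polyGrading n k) 1)).presheaf.germ ⊤ P trivial
      (linSec n f c) ∈
    IsLocalRing.maximalIdeal (X.presheaf.stalk P) •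
      (⊤ : Submodule (X.presheaf.stalk P)
        (((Scheme.Modules.pullback f).obj (twist (CohB1.polyGrading n k) 1)).presheaf.stalk P))

lemma mem_maximalIdeal_stalkMap_iff (P : X) (a : (Proj (CohB1.polyGrading n k)).presheaf.stalk (f P)) :
    (f.stalkMap P).hom a ∈ IsLocalRing.maximalIdeal (X.presheaf.stalk P) ↔
      a ∈ IsLocalRing.maximalIdeal ((Proj (CohB1.polyGrading n k)).presheaf.stalk (f P)) := by
  simp only [IsLocalRing.mem_maximalIdeal, mem_nonunits_iff]
  exact not_congr (isUnit_map_iff (f.stalkMap P).hom a)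

theorem secVanishesAt_iff (c : Fin (n + 1) → k) (P : X) (j : Fin (n + 1)) (hj : f P ∈ D k n j) :
    SecVanishesAt k n f c P ↔ VanishesAt k n j c (f P) hj := by
  unfold SecVanishesAt VanishesAt
  rw [germ_linSec n f j c P hj, smul_mem_smul_top_iff _ (genGerm_bijective n f j P hj),
    mem_maximalIdeal_stalkMap_iff]

lemma vanishesAt_congr (j : Fin (n + 1)) (c : Fin (n + 1) → k) {y y' : Proj (CohB1.polyGrading n k)}
    (h : y = y') (hy : y ∈ D k n j) (hy' : y' ∈ D k n j) :
    VanishesAt k n j c y hy ↔ VanishesAt k n j c y' hy' := by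
  subst h
  rfl

variable [IsAlgClosed k]

/-- **a closed immersion into `P^n_k` separates points and tangent vectors** -/
theorem sep_of_isClosedImmersion [IsClosedImmersion f] :
    (∀ P Q : X, IsClosed ({P} : Set X) → IsClosed ({Q} : Set X) → P ≠ Q →
      ∃ c : Fin (n + 1) → k, SecVanishesAt k n f c P ∧ ¬ SecVanishesAt k n f c Q) ∧
    ∀ P : X, IsClosed ({P} : Set X) →
      IsLocalRing.maximalIdeal (X.presheaf.stalk P) •
          (⊤ : Submodule (X.presheaf.stalk P)
            (((Scheme.Modules.pullback f).obj (twist (CohB1.polyGrading n k) 1)).presheaf.stalk P)) ≤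
        Submodule.span (X.presheaf.stalk P)
            {v | ∃ c : Fin (n + 1) → k,
              v = ((Scheme.Modules.pullback f).obj
                (twist (CohB1.polyGrading n k) 1)).presheaf.germ ⊤ P trivial (linSec n f c) ∧
              v ∈ IsLocalRing.maximalIdeal (X.presheaf.stalk P) •
                (⊤ : Submodule (X.presheaf.stalk P) (((Scheme.Modules.pullback f).obj
                  (twist (CohB1.polyGrading n k) 1)).presheaf.stalk P))} ⊔
          IsLocalRing.maximalIdeal (X.presheaf.stalk P) ^ 2 •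
            (⊤ : Submodule (X.presheaf.stalk P) (((Scheme.Modules.pullback f).obj
              (twist (CohB1.polyGrading n k) 1)).presheaf.stalk P)) := by
  have hcl : ∀ P : X, IsClosed ({P} : Set X) → IsClosed ({f P} : Set _) := by
    intro P hP
    have := f.isClosedEmbedding.isClosedMap _ hP
    rwa [Set.image_singleton] at this
  refine ⟨?_, ?_⟩
  · intro P Q hP hQ hne
    have hfne : f P ≠ f Q := fun h => hne (f.isClosedEmbedding.injective h)
    obtain ⟨j, hj⟩ := exists_chart k n (f P)
    by_cases hQj : f Q ∈ D k n j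
    · obtain ⟨c, h1, h2⟩ := exists_separating_same_chart k n (f P) (f Q) (hcl P hP) (hcl Q hQ)
        hfne j hj hQj
      exact ⟨c, (secVanishesAt_iff k n f c P j hj).2 h1,
        fun h => h2 ((secVanishesAt_iff k n f c Q j hQj).1 h)⟩
    · obtain ⟨j', hj'⟩ := exists_chart k n (f Q)
      obtain ⟨c, h1, h2⟩ := exists_separating_other_chart k n (f P) (f Q) (hcl P hP) (hcl Q hQ)
        j j' hj hj' hQj
      exact ⟨c, (secVanishesAt_iff k n f c P j hj).2 h1,
        fun h => h2 ((secVanishesAt_iff k n f c Q j' hj').1 h)⟩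
  · intro P hP
    obtain ⟨j, hj⟩ := exists_chart k n (f P)
    simp_rw [germ_linSec n f j _ P hj]
    rw [smul_top_le_span_sup_iff _ (genGerm_bijective n f j P hj)]
    refine le_trans ?_ le_sup_left
    have hsurj : Function.Surjective (f.stalkMap P).hom := f.stalkMap_surjective P
    refine le_trans (le_of_eq
      (Groth.Agent.Lib.Helper38.map_maximalIdeal_of_surjective (f.stalkMap P).hom hsurj).symm) ?_
    refine le_trans (Ideal.map_mono (maximalIdeal_le_span k n (f P) (hcl P hP) j hj)) ?_
    rw [Ideal.map_span, Ideal.span_le]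
    rintro _ ⟨a, ⟨c, rfl, hc⟩, rfl⟩
    apply Ideal.subset_span
    exact ⟨c, rfl, (mem_maximalIdeal_stalkMap_iff k n f P _).2 hc⟩

/-- **a morphism from a proper `k`-scheme to `P^n_k` separating points and tangent vectors is a
closed immersion** -/
theorem isClosedImmersion_of_sep [IsProper (f ≫ pSpec k n)]
    (h1 : ∀ P Q : X, IsClosed ({P} : Set X) → IsClosed ({Q} : Set X) → P ≠ Q →
      ∃ c : Fin (n + 1) → k, (SecVanishesAt k n f c P ∧ ¬ SecVanishesAt k n f c Q) ∨
        (SecVanishesAt k n f c Q ∧ ¬ SecVanishesAt k n f c P))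
    (h2 : ∀ P : X, IsClosed ({P} : Set X) →
      IsLocalRing.maximalIdeal (X.presheaf.stalk P) •
          (⊤ : Submodule (X.presheaf.stalk P)
            (((Scheme.Modules.pullback f).obj (twist (CohB1.polyGrading n k) 1)).presheaf.stalk P)) ≤
        Submodule.span (X.presheaf.stalk P)
            {v | ∃ c : Fin (n + 1) → k,
              v = ((Scheme.Modules.pullback f).obj
                (twist (CohB1.polyGrading n k) 1)).presheaf.germ ⊤ P trivial (linSec n f c) ∧
              v ∈ IsLocalRing.maximalIdeal (X.presheaf.stalk P) •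
                (⊤ : Submodule (X.presheaf.stalk P) (((Scheme.Modules.pullback f).obj
                  (twist (CohB1.polyGrading n k) 1)).presheaf.stalk P))} ⊔
          IsLocalRing.maximalIdeal (X.presheaf.stalk P) ^ 2 •
            (⊤ : Submodule (X.presheaf.stalk P) (((Scheme.Modules.pullback f).obj
              (twist (CohB1.polyGrading n k) 1)).presheaf.stalk P))) :
    IsClosedImmersion f := by
  have : IsProper f := IsProper.of_comp f (pSpec k n)
  refine Groth.Agent.S10867.result k f (pSpec k n) ?_ ?_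
  · intro P hP Q hQ hPQ
    by_contra hne
    obtain ⟨c, h⟩ := h1 P Q hP hQ hne
    obtain ⟨j, hj⟩ := exists_chart k n (f P)
    have hPQ' : f P = f Q := hPQ
    have hjQ : f Q ∈ D k n j := hPQ' ▸ hj
    have e : SecVanishesAt k n f c P ↔ SecVanishesAt k n f c Q := by
      rw [secVanishesAt_iff k n f c P j hj, secVanishesAt_iff k n f c Q j hjQ]
      exact vanishesAt_congr k n j c hPQ' hj hjQ
    rcases h with ⟨h3, h4⟩ | ⟨h3, h4⟩
    · exact h4 (e.1 h3)
    · exact h4 (e.2 h3)
  · intro P hP
    obtain ⟨j, hj⟩ := exists_chart k n (f P)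
    apply le_antisymm
    · refine sup_le ?_ (Ideal.pow_le_self two_ne_zero)
      have hloc : IsLocalHom (f.stalkMap P).hom := inferInstance
      exact ((IsLocalRing.local_hom_TFAE (f.stalkMap P).hom).out 0 2).mp hloc
    · have h := h2 P hP
      simp_rw [germ_linSec n f j _ P hj] at h
      rw [smul_top_le_span_sup_iff _ (genGerm_bijective n f j P hj)] at h
      refine le_trans h (sup_le_sup_right ?_ _)
      rw [Ideal.span_le]
      rintro _ ⟨c, rfl, hc⟩
      exact Ideal.mem_map_of_mem _ ((mem_maximalIdeal_stalkMap_iff k n f P _).1 hc)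

end Main

end Groth.Agent.Lib.Helper38.SepPts
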