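import Groth.Agent.S8364
import Mathlib.AlgebraicGeometry.Morphisms.Affine
import Mathlib.AlgebraicGeometry.Morphisms.IsIso
import Mathlib.LinearAlgebra.TensorProduct.RightExactness
import Mathlib.Algebra.Category.Ring.Constructions

/-!
# Endomorphisms congruent to the identity modulo a square-zero ideal (scheme version)
-/

set_option autoImplicit false
universe u

open CategoryTheory CategoryTheory.Limits AlgebraicGeometry TensorProduct

namespace Groth.Agent.Lib.Helper38.SqZeroEndo

theorem ker_le_map_of_algIsPushout {R' A Q P : Type*} [CommRing R'] [CommRing A] [CommRing Q]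
    [CommRing P] [Algebra R' A] [Algebra R' Q] [Algebra A P] [Algebra Q P] [Algebra R' P]
    [IsScalarTower R' A P] [IsScalarTower R' Q P] [Algebra.IsPushout R' A Q P]
    (hq : Function.Surjective (algebraMap R' Q)) :
    RingHom.ker (algebraMap A P) ≤ Ideal.map (algebraMap R' A) (RingHom.ker (algebraMap R' Q)) := by
  intro x hx
  have h1 : Algebra.IsPushout.equiv R' A Q P (x ⊗ₜ[R'] (1 : Q)) = 0 := by
    rw [Algebra.IsPushout.equiv_tmul, map_one, mul_one]
    exact hx
  have h2 : x ⊗ₜ[R'] (1 : Q) = 0 := by
    have := (Algebra.IsPushout.equiv R' A Q P).injective (h1.trans (map_zero _).symm)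
    exact this
  let g : R' →ₐ[R'] Q := Algebra.ofId R' Q
  have hg : Function.Surjective g := hq
  have h3 : x ⊗ₜ[R'] (1 : R') ∈ RingHom.ker (Algebra.TensorProduct.map (AlgHom.id R' A) g) := by
    rw [RingHom.mem_ker]
    simpa [g] using h2
  rw [Algebra.TensorProduct.lTensor_ker _ hg] at h3
  have h4 := Ideal.mem_map_of_mem (Algebra.TensorProduct.rid R' R' A).toAlgHom.toRingHom h3
  have h6 : (Algebra.TensorProduct.rid R' R' A).toAlgHom.toRingHom (x ⊗ₜ[R'] (1 : R')) = x := by
    simp
  rw [h6] at h4
  refine (Ideal.map_le_iff_le_comap.mpr ?_) h4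
  refine Ideal.map_le_iff_le_comap.mpr ?_
  intro k hk
  rw [Ideal.mem_comap, Ideal.mem_comap]
  have : (Algebra.TensorProduct.rid R' R' A).toAlgHom.toRingHom
      ((Algebra.TensorProduct.includeRight : R' →ₐ[R'] A ⊗[R'] R') k) = algebraMap R' A k := by
    simp [Algebra.algebraMap_eq_smul_one]
  rw [this]
  exact Ideal.mem_map_of_mem _ (by simpa [g] using hk)

/-- In a pushout square of commutative rings along a surjection `q`, the kernel of the opposite
map is generated by the kernel of `q`. -/
theorem ker_le_map_of_isPushout {R' A Q P : Type u} [CommRing R'] [CommRing A] [CommRing Q]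
    [CommRing P] (f : R' →+* A) (q : R' →+* Q) (a : A →+* P) (b : Q →+* P)
    (h : IsPushout (CommRingCat.ofHom f) (CommRingCat.ofHom q) (CommRingCat.ofHom a)
      (CommRingCat.ofHom b)) (hq : Function.Surjective q) :
    RingHom.ker a ≤ Ideal.map f (RingHom.ker q) := by
  letI := f.toAlgebra
  letI := q.toAlgebra
  letI := a.toAlgebra
  letI := b.toAlgebra
  letI := (a.comp f).toAlgebra
  have hw : a.comp f = b.comp q := by
    have := h.w
    ext r
    exact congrArg (fun g => g.hom r) this
  have : IsScalarTower R' A P := .of_algebraMap_eq' rfl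
  have : IsScalarTower R' Q P := .of_algebraMap_eq' hw
  have : Algebra.IsPushout R' A Q P := CommRingCat.isPushout_iff_isPushout.mp h
  exact ker_le_map_of_algIsPushout (R' := R') (A := A) (Q := Q) (P := P) hq

/-- Affine case: an endomorphism of an affine scheme `V` over an affine `S` which restricts to the
identity on `V ×_S S₀`, for `S₀ → S` a closed immersion of affine schemes with square-zero kernel,
is an isomorphism. -/
theorem isIso_of_affine {V S S₀ : Scheme.{u}} [IsAffine V] [IsAffine S] [IsAffine S₀] (π : V ⟶ S)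
    (j : S₀ ⟶ S) (hj : Function.Surjective j.appTop.hom)
    (hJ : RingHom.ker j.appTop.hom * RingHom.ker j.appTop.hom = ⊥)
    (φ : V ⟶ V) (hφ : φ ≫ π = π) (hi : pullback.fst π j ≫ φ = pullback.fst π j) : IsIso φ := by
  letI alg : Algebra Γ(S, ⊤) Γ(V, ⊤) := π.appTop.hom.toAlgebra
  let θ : Γ(V, ⊤) →ₐ[Γ(S, ⊤)] Γ(V, ⊤) :=
    { φ.appTop.hom with
      commutes' := fun r => by
        change φ.appTop.hom (π.appTop.hom r) = π.appTop.hom r
        have h1 : π.appTop ≫ φ.appTop = π.appTop := by
          rw [← Scheme.Hom.comp_appTop, hφ]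
        exact congrArg (fun g => g.hom r) h1 }
  have hθ : ∀ a, θ a = φ.appTop.hom a := fun a => rfl
  have sq : IsPushout π.appTop j.appTop (pullback.fst π j).appTop (pullback.snd π j).appTop :=
    isPushout_appTop_of_isPullback (IsPullback.of_hasPullback π j)
  have hker := ker_le_map_of_isPushout π.appTop.hom j.appTop.hom (pullback.fst π j).appTop.hom
    (pullback.snd π j).appTop.hom sq hj
  have hmem : ∀ a, θ a - a ∈ Ideal.map (algebraMap Γ(S, ⊤) Γ(V, ⊤)) (RingHom.ker j.appTop.hom) := by
    intro a
    apply hker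
    rw [RingHom.mem_ker, map_sub, sub_eq_zero, hθ]
    have h1 : φ.appTop ≫ (pullback.fst π j).appTop = (pullback.fst π j).appTop := by
      rw [← Scheme.Hom.comp_appTop, hi]
    exact congrArg (fun g => g.hom a) h1
  have hbij : Function.Bijective θ := by
    apply Groth.Agent.S8364.bijective_of_comp_eq Γ(S, ⊤) Γ(V, ⊤) (RingHom.ker j.appTop.hom) hJ θ
    ext a
    rw [AlgHom.comp_apply, Ideal.Quotient.mkₐ_eq_mk]
    exact Ideal.Quotient.eq.2 (hmem a)
  have hiso : IsIso φ.appTop := by
    rw [ConcreteCategory.isIso_iff_bijective]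
    exact hbij
  have := (HasAffineProperty.iff_of_isAffine (P := MorphismProperty.isomorphisms Scheme.{u})
    (f := φ)).mpr ⟨inferInstance, hiso⟩
  exact this

end Groth.Agent.Lib.Helper38.SqZeroEndo
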