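import Groth.Agent.Lib.Helper38.GrpdLib

/-!
# Conjugation on the stabilizer of a groupoid scheme

The base changes of the stabilizer `G → U` along `s` and along `t` are isomorphic over `R`:
`(g, r) ↦ (r g r⁻¹, r)`.  We give it in the form of a second pullback square.
-/

set_option autoImplicit false
universe u

open CategoryTheory CategoryTheory.Limits AlgebraicGeometry Grpd

namespace Groth.Agent.Lib.Helper38.StabConj

open Groth.Agent.Lib.Helper38.GrpdLib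

variable {S : Scheme.{u}} (G : Grpd.GroupoidScheme S)

/-- The arrow underlying a point of the stabilizer. -/
noncomputable def stabR : G.stabilizer ⟶ G.R := pullback.fst G.j G.diag

lemma j_fst : G.j ≫ pullback.fst G.pU G.pU = G.t := pullback.lift_fst _ _ _

lemma j_snd : G.j ≫ pullback.snd G.pU G.pU = G.s := pullback.lift_snd _ _ _

lemma diag_fst : G.diag ≫ pullback.fst G.pU G.pU = 𝟙 _ := pullback.lift_fst _ _ _

lemma diag_snd : G.diag ≫ pullback.snd G.pU G.pU = 𝟙 _ := pullback.lift_snd _ _ _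

lemma stabR_t : stabR G ≫ G.t = G.stabilizerToU := by
  have h := pullback.condition (f := G.j) (g := G.diag)
  have := congrArg (· ≫ pullback.fst G.pU G.pU) h
  simp only [Category.assoc, j_fst, diag_fst, Category.comp_id] at this
  exact this

lemma stabR_s : stabR G ≫ G.s = G.stabilizerToU := by
  have h := pullback.condition (f := G.j) (g := G.diag)
  have := congrArg (· ≫ pullback.snd G.pU G.pU) h
  simp only [Category.assoc, j_snd, diag_snd, Category.comp_id] at this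
  exact this

variable {G} {T : Scheme.{u}}

/-- A `T`-point of the stabilizer from an arrow with equal source and target. -/
noncomputable def stabLift (γ : T ⟶ G.R) (h : γ ≫ G.s = γ ≫ G.t) : T ⟶ G.stabilizer :=
  pullback.lift γ (γ ≫ G.s) (by
    apply pullback.hom_ext
    · rw [Category.assoc, Category.assoc, Category.assoc, j_fst, diag_fst, Category.comp_id, h]
    · rw [Category.assoc, Category.assoc, Category.assoc, j_snd, diag_snd, Category.comp_id])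

@[simp] lemma stabLift_stabR (γ : T ⟶ G.R) (h : γ ≫ G.s = γ ≫ G.t) :
    stabLift γ h ≫ stabR G = γ := pullback.lift_fst _ _ _

@[simp] lemma stabLift_toU (γ : T ⟶ G.R) (h : γ ≫ G.s = γ ≫ G.t) :
    stabLift γ h ≫ G.stabilizerToU = γ ≫ G.s := pullback.lift_snd _ _ _

lemma stab_hom_ext (a b : T ⟶ G.stabilizer) (h : a ≫ stabR G = b ≫ stabR G) : a = b := by
  apply pullback.hom_ext
  · exact h
  · change a ≫ G.stabilizerToU = b ≫ G.stabilizerToU
    rw [← stabR_s, ← Category.assoc, ← Category.assoc, h]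

/-- `ρ γ ρ⁻¹`. -/
noncomputable def conj (γ ρ : T ⟶ G.R) (h₁ : γ ≫ G.s = ρ ≫ G.s) (h₂ : γ ≫ G.t = ρ ≫ G.s) :
    T ⟶ G.R :=
  mul ρ (mul γ (ρ ≫ G.i) (by rw [Category.assoc, G.i_t, h₁])) (by rw [mul_t, h₂])

lemma conj_s (γ ρ : T ⟶ G.R) (h₁ : γ ≫ G.s = ρ ≫ G.s) (h₂ : γ ≫ G.t = ρ ≫ G.s) :
    conj γ ρ h₁ h₂ ≫ G.s = ρ ≫ G.t := by
  rw [conj, mul_s, mul_s, Category.assoc, G.i_s]

lemma conj_t (γ ρ : T ⟶ G.R) (h₁ : γ ≫ G.s = ρ ≫ G.s) (h₂ : γ ≫ G.t = ρ ≫ G.s) :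
    conj γ ρ h₁ h₂ ≫ G.t = ρ ≫ G.t := by
  rw [conj, mul_t]

lemma conj_congr {γ γ' ρ ρ' : T ⟶ G.R} (hγ : γ = γ') (hρ : ρ = ρ')
    (h₁ : γ ≫ G.s = ρ ≫ G.s) (h₂ : γ ≫ G.t = ρ ≫ G.s) :
    conj γ ρ h₁ h₂ = conj γ' ρ' (by rw [← hγ, ← hρ]; exact h₁) (by rw [← hγ, ← hρ]; exact h₂) := by
  subst hγ hρ
  rfl

lemma comp_conj {T' : Scheme.{u}} (f : T' ⟶ T) (γ ρ : T ⟶ G.R) (h₁ : γ ≫ G.s = ρ ≫ G.s)
    (h₂ : γ ≫ G.t = ρ ≫ G.s) :
    f ≫ conj γ ρ h₁ h₂ = conj (f ≫ γ) (f ≫ ρ) (by rw [Category.assoc, Category.assoc, h₁])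
      (by rw [Category.assoc, Category.assoc, h₂]) := by
  unfold conj
  rw [comp_mul]
  exact mul_congr rfl ((comp_mul f γ (ρ ≫ G.i) _).trans
    (mul_congr rfl (Category.assoc _ _ _).symm _)) _

/-- `ρ⁻¹ γ' ρ`. -/
noncomputable def conj' (γ' ρ : T ⟶ G.R) (h₁ : γ' ≫ G.s = ρ ≫ G.t) (h₂ : γ' ≫ G.t = ρ ≫ G.t) :
    T ⟶ G.R :=
  mul (ρ ≫ G.i) (mul γ' ρ h₁) (by rw [mul_t, Category.assoc, G.i_s, h₂])

lemma conj'_s (γ' ρ : T ⟶ G.R) (h₁ : γ' ≫ G.s = ρ ≫ G.t) (h₂ : γ' ≫ G.t = ρ ≫ G.t) :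
    conj' γ' ρ h₁ h₂ ≫ G.s = ρ ≫ G.s := by
  rw [conj', mul_s, mul_s]

lemma conj'_t (γ' ρ : T ⟶ G.R) (h₁ : γ' ≫ G.s = ρ ≫ G.t) (h₂ : γ' ≫ G.t = ρ ≫ G.t) :
    conj' γ' ρ h₁ h₂ ≫ G.t = ρ ≫ G.s := by
  rw [conj', mul_t, Category.assoc, G.i_t]

/-- `ρ (ρ⁻¹ γ' ρ) ρ⁻¹ = γ'`. -/
lemma conj_conj' (γ' ρ : T ⟶ G.R) (h₁ : γ' ≫ G.s = ρ ≫ G.t) (h₂ : γ' ≫ G.t = ρ ≫ G.t) :
    conj (conj' γ' ρ h₁ h₂) ρ (conj'_s _ _ _ _) (conj'_t _ _ _ _) = γ' := by
  unfold conj conj'
  -- (ρ⁻¹ (γ' ρ)) ρ⁻¹ = ρ⁻¹ ((γ' ρ) ρ⁻¹) = ρ⁻¹ γ'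
  have e1 : mul (mul (ρ ≫ G.i) (mul γ' ρ h₁) (by rw [mul_t, Category.assoc, G.i_s, h₂])) (ρ ≫ G.i)
      (by rw [mul_s, mul_s, Category.assoc, G.i_t]) =
      mul (ρ ≫ G.i) γ' (by rw [Category.assoc, G.i_s, h₂]) := by
    rw [mul_assoc (ρ ≫ G.i) (mul γ' ρ h₁) (ρ ≫ G.i)
      (by rw [mul_t, Category.assoc, G.i_s, h₂]) (by rw [mul_s, Category.assoc, G.i_t])]
    exact mul_congr rfl (mul_mul_i γ' ρ h₁) _
  rw [mul_congr rfl e1]
  exact mul_i_mul ρ γ' h₂.symm

/-- `ρ⁻¹ (ρ γ ρ⁻¹) ρ = γ`. -/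
lemma conj'_conj (γ ρ : T ⟶ G.R) (h₁ : γ ≫ G.s = ρ ≫ G.s) (h₂ : γ ≫ G.t = ρ ≫ G.s) :
    conj' (conj γ ρ h₁ h₂) ρ (conj_s _ _ _ _) (conj_t _ _ _ _) = γ := by
  unfold conj conj'
  -- (ρ (γ ρ⁻¹)) ρ = ρ ((γ ρ⁻¹) ρ) = ρ γ
  have e1 : mul (mul ρ (mul γ (ρ ≫ G.i) (by rw [Category.assoc, G.i_t, h₁])) (by rw [mul_t, h₂])) ρ
      (by rw [mul_s, mul_s, Category.assoc, G.i_s]) =
      mul ρ γ h₂.symm := by
    rw [mul_assoc ρ (mul γ (ρ ≫ G.i) (by rw [Category.assoc, G.i_t, h₁])) ρ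
      (by rw [mul_t, h₂]) (by rw [mul_s, Category.assoc, G.i_s])]
    exact mul_congr rfl (mul_i_mul' γ ρ h₁) _
  rw [mul_congr rfl e1]
  exact i_mul_mul ρ γ h₂.symm

variable (G)

/-- The conjugation map `s^* Stab ⟶ Stab`, `(g, r) ↦ r g r⁻¹`. -/
noncomputable def conjMap : pullback G.stabilizerToU G.s ⟶ G.stabilizer :=
  stabLift (conj (pullback.fst G.stabilizerToU G.s ≫ stabR G) (pullback.snd G.stabilizerToU G.s)
    (by rw [Category.assoc, stabR_s, pullback.condition])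
    (by rw [Category.assoc, stabR_t, pullback.condition]))
    (by rw [conj_s, conj_t])

lemma conjMap_stabR : conjMap G ≫ stabR G =
    conj (pullback.fst G.stabilizerToU G.s ≫ stabR G) (pullback.snd G.stabilizerToU G.s)
    (by rw [Category.assoc, stabR_s, pullback.condition])
    (by rw [Category.assoc, stabR_t, pullback.condition]) := stabLift_stabR _ _

/-- The base change of the stabilizer along `s` is also a base change along `t`, via conjugation. -/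
theorem isPullback_conjMap :
    IsPullback (conjMap G) (pullback.snd G.stabilizerToU G.s) G.stabilizerToU G.t := by
  refine ⟨⟨by rw [conjMap, stabLift_toU, conj_s]⟩, ⟨PullbackCone.IsLimit.mk _
    (fun c => pullback.lift
      (stabLift (conj' (c.fst ≫ stabR G) c.snd
        (by rw [Category.assoc, stabR_s, c.condition])
        (by rw [Category.assoc, stabR_t, c.condition]))
        (by rw [conj'_s, conj'_t]))
      c.snd (by rw [stabLift_toU, conj'_s])) ?_ ?_ ?_⟩⟩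
  · intro c
    apply stab_hom_ext
    rw [Category.assoc, conjMap_stabR, comp_conj]
    refine (conj_congr ?_ ?_ _ _).trans (conj_conj' (c.fst ≫ stabR G) c.snd
      (by rw [Category.assoc, stabR_s, c.condition])
      (by rw [Category.assoc, stabR_t, c.condition]))
    · rw [← Category.assoc, pullback.lift_fst, stabLift_stabR]
    · rw [pullback.lift_snd]
  · intro c
    exact pullback.lift_snd _ _ _
  · intro c m hm₁ hm₂
    apply pullback.hom_ext
    · rw [pullback.lift_fst]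
      apply stab_hom_ext
      rw [stabLift_stabR]
      have h3 : c.fst ≫ stabR G = conj (m ≫ pullback.fst G.stabilizerToU G.s ≫ stabR G)
          (m ≫ pullback.snd G.stabilizerToU G.s)
          (by simp only [Category.assoc, stabR_s, pullback.condition])
          (by simp only [Category.assoc, stabR_t, pullback.condition]) := by
        rw [← hm₁, Category.assoc, conjMap_stabR, comp_conj]
      have h4 := conj'_conj (m ≫ pullback.fst G.stabilizerToU G.s ≫ stabR G)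
          (m ≫ pullback.snd G.stabilizerToU G.s)
          (by simp only [Category.assoc, stabR_s, pullback.condition])
          (by simp only [Category.assoc, stabR_t, pullback.condition])
      rw [Category.assoc]
      refine h4.symm.trans ?_
      unfold conj'
      exact mul_congr (by rw [hm₂]) (mul_congr h3.symm hm₂ _) _
    · rw [pullback.lift_snd]
      exact hm₂

end Groth.Agent.Lib.Helper38.StabConj
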