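import Groth.Agent.Lib.Helper38.StabConj

/-!
# `R` as a pseudo-torsor under the stabilizer over `U ×_S U`

`G ×_{U,t} R ≅ R ×_{j,j} R`, `(γ, r) ↦ (γ r, r)`, and the diagonal of `j` as a base change
of the identity section of the stabilizer.
-/

set_option autoImplicit false
universe u

open CategoryTheory CategoryTheory.Limits AlgebraicGeometry Grpd

namespace Groth.Agent.Lib.Helper38.StabTorsor

open Groth.Agent.Lib.Helper38.GrpdLib Groth.Agent.Lib.Helper38.StabConj

variable {S : Scheme.{u}} (G : Grpd.GroupoidScheme S)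

lemma fst_jj_t : pullback.fst G.j G.j ≫ G.t = pullback.snd G.j G.j ≫ G.t := by
  have := congrArg (· ≫ pullback.fst G.pU G.pU) (pullback.condition (f := G.j) (g := G.j))
  simp only [Category.assoc, j_fst] at this
  exact this

lemma fst_jj_s : pullback.fst G.j G.j ≫ G.s = pullback.snd G.j G.j ≫ G.s := by
  have := congrArg (· ≫ pullback.snd G.pU G.pU) (pullback.condition (f := G.j) (g := G.j))
  simp only [Category.assoc, j_snd] at this
  exact this

lemma j_ext {T : Scheme.{u}} (a b : T ⟶ G.R) (ht : a ≫ G.t = b ≫ G.t) (hs : a ≫ G.s = b ≫ G.s) :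
    a ≫ G.j = b ≫ G.j := by
  apply pullback.hom_ext
  · rw [Category.assoc, Category.assoc, j_fst, ht]
  · rw [Category.assoc, Category.assoc, j_snd, hs]

/-- `(γ, r) ↦ γ r`. -/
noncomputable def actMap : pullback G.stabilizerToU G.t ⟶ G.R :=
  mul (pullback.fst G.stabilizerToU G.t ≫ stabR G) (pullback.snd G.stabilizerToU G.t)
    (by rw [Category.assoc, stabR_s, pullback.condition])

lemma actMap_t : actMap G ≫ G.t = pullback.snd G.stabilizerToU G.t ≫ G.t := by
  rw [actMap, mul_t, Category.assoc, stabR_t, pullback.condition]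

lemma actMap_s : actMap G ≫ G.s = pullback.snd G.stabilizerToU G.t ≫ G.s := by
  rw [actMap, mul_s]

/-- `(γ, r) ↦ (γ r, r)`. -/
noncomputable def torsorMap : pullback G.stabilizerToU G.t ⟶ pullback G.j G.j :=
  pullback.lift (actMap G) (pullback.snd G.stabilizerToU G.t)
    (j_ext G _ _ (actMap_t G) (actMap_s G))

/-- `(r₁, r₂) ↦ r₁ r₂⁻¹`. -/
noncomputable def diffMap : pullback G.j G.j ⟶ G.R :=
  mul (pullback.fst G.j G.j) (pullback.snd G.j G.j ≫ G.i)
    (by rw [Category.assoc, G.i_t, fst_jj_s])

lemma diffMap_s : diffMap G ≫ G.s = pullback.snd G.j G.j ≫ G.t := by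
  rw [diffMap, mul_s, Category.assoc, G.i_s]

lemma diffMap_t : diffMap G ≫ G.t = pullback.snd G.j G.j ≫ G.t := by
  rw [diffMap, mul_t, fst_jj_t]

/-- `(r₁, r₂) ↦ (r₁ r₂⁻¹, r₂)`. -/
noncomputable def torsorInv : pullback G.j G.j ⟶ pullback G.stabilizerToU G.t :=
  pullback.lift (stabLift (diffMap G) (by rw [diffMap_s, diffMap_t])) (pullback.snd G.j G.j)
    (by rw [stabLift_toU, diffMap_s])

lemma torsorMap_inv : torsorMap G ≫ torsorInv G = 𝟙 _ := by
  apply pullback.hom_ext
  · rw [Category.assoc, torsorInv, pullback.lift_fst, Category.id_comp]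
    apply stab_hom_ext
    rw [Category.assoc, stabLift_stabR, diffMap, comp_mul]
    have h1 : torsorMap G ≫ pullback.fst G.j G.j = actMap G := pullback.lift_fst _ _ _
    have h2 : torsorMap G ≫ pullback.snd G.j G.j ≫ G.i =
        pullback.snd G.stabilizerToU G.t ≫ G.i := by
      rw [← Category.assoc, torsorMap, pullback.lift_snd]
    rw [mul_congr h1 h2]
    exact mul_mul_i _ _ _
  · rw [Category.assoc, torsorInv, pullback.lift_snd, torsorMap, pullback.lift_snd,
      Category.id_comp]

lemma torsorInv_map : torsorInv G ≫ torsorMap G = 𝟙 _ := by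
  apply pullback.hom_ext
  · rw [Category.assoc, torsorMap, pullback.lift_fst, Category.id_comp, actMap, comp_mul]
    have h1 : torsorInv G ≫ pullback.fst G.stabilizerToU G.t ≫ stabR G = diffMap G := by
      rw [← Category.assoc, torsorInv, pullback.lift_fst, stabLift_stabR]
    have h2 : torsorInv G ≫ pullback.snd G.stabilizerToU G.t = pullback.snd G.j G.j := by
      rw [torsorInv, pullback.lift_snd]
    rw [mul_congr h1 h2]
    exact mul_i_mul' _ _ (fst_jj_s G)
  · rw [Category.assoc, torsorMap, pullback.lift_snd, torsorInv, pullback.lift_snd,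
      Category.id_comp]

instance : IsIso (torsorMap G) := ⟨torsorInv G, torsorMap_inv G, torsorInv_map G⟩

/-- The isomorphism `G ×_{U,t} R ≅ R ×_{U ×_S U} R`. -/
noncomputable def torsorIso : pullback G.stabilizerToU G.t ≅ pullback G.j G.j :=
  ⟨torsorMap G, torsorInv G, torsorMap_inv G, torsorInv_map G⟩

/-- Characterization of `torsorMap`. -/
lemma eq_torsorMap (α : pullback G.stabilizerToU G.t ⟶ pullback G.s G.t)
    (hα₁ : α ≫ pullback.fst G.s G.t = pullback.fst G.stabilizerToU G.t ≫ pullback.fst G.j G.diag)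
    (hα₂ : α ≫ pullback.snd G.s G.t = pullback.snd G.stabilizerToU G.t)
    (β : pullback G.stabilizerToU G.t ⟶ pullback G.j G.j)
    (hβ₁ : β ≫ pullback.fst G.j G.j = α ≫ G.c)
    (hβ₂ : β ≫ pullback.snd G.j G.j = pullback.snd G.stabilizerToU G.t) : β = torsorMap G := by
  apply pullback.hom_ext
  · rw [hβ₁, torsorMap, pullback.lift_fst, comp_c, actMap]
    exact mul_congr hα₁ hα₂ _
  · rw [hβ₂, torsorMap, pullback.lift_snd]

/-- The base change of a section. -/
lemma isPullback_section {X Y Z : Scheme.{u}} (f : X ⟶ Y) (σ : Y ⟶ X) (hσ : σ ≫ f = 𝟙 Y)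
    (g : Z ⟶ Y) :
    IsPullback (pullback.lift (g ≫ σ) (𝟙 Z) (by rw [Category.assoc, hσ, Category.comp_id,
      Category.id_comp])) g (pullback.fst f g) σ := by
  have right : IsPullback (pullback.snd f g) (pullback.fst f g) g f :=
    (IsPullback.of_hasPullback f g).flip
  refine IsPullback.of_right (h₁₂ := pullback.snd f g) (v₁₃ := g) (h₂₂ := f) ?_
    (by rw [pullback.lift_fst]) right
  rw [pullback.lift_snd, hσ]
  exact IsPullback.id_horiz g

lemma eStab_toU : G.eStab ≫ G.stabilizerToU = 𝟙 _ := pullback.lift_snd _ _ _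

/-- The diagonal of `j` corresponds to `(e ∘ t, id)` under the torsor isomorphism. -/
lemma diagonal_torsorInv : pullback.diagonal G.j ≫ torsorInv G =
    pullback.lift (G.t ≫ G.eStab) (𝟙 G.R) (by
      rw [Category.assoc, eStab_toU, Category.comp_id, Category.id_comp]) := by
  apply pullback.hom_ext
  · rw [Category.assoc, torsorInv, pullback.lift_fst, pullback.lift_fst]
    apply stab_hom_ext
    rw [Category.assoc, stabLift_stabR, Category.assoc]
    have he : G.eStab ≫ stabR G = G.e := pullback.lift_fst _ _ _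
    rw [he, diffMap, comp_mul]
    have h1 : pullback.diagonal G.j ≫ pullback.fst G.j G.j = 𝟙 _ := pullback.diagonal_fst _
    have h2 : pullback.diagonal G.j ≫ pullback.snd G.j G.j ≫ G.i = 𝟙 _ ≫ G.i := by
      rw [← Category.assoc, pullback.diagonal_snd]
    rw [mul_congr h1 h2, mul_i, Category.id_comp]
  · rw [Category.assoc, torsorInv, pullback.lift_snd, pullback.lift_snd, pullback.diagonal_snd]

/-- The diagonal of `j`, composed with the torsor isomorphism, is a base change of the identity
section of the stabilizer. -/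
lemma isPullback_diagonal :
    IsPullback (pullback.diagonal G.j ≫ torsorInv G) G.t
      (pullback.fst G.stabilizerToU G.t) G.eStab := by
  rw [diagonal_torsorInv]
  exact isPullback_section G.stabilizerToU G.eStab (eStab_toU G) G.t

end Groth.Agent.Lib.Helper38.StabTorsor
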