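import Mathlib.RingTheory.Flat.TorsionFree
import Mathlib.RingTheory.RingHom.Flat
import Mathlib.RingTheory.Flat.FaithfullyFlat.Algebra
import Mathlib.RingTheory.Valuation.ValuationRing

/-!
# An injective local homomorphism from a valuation ring to a local domain is surjective on spectra
-/

set_option autoImplicit false

namespace Groth.Agent.Lib.Helper38.ValExtSurj

theorem flat_of_injective {V W : Type*} [CommRing V] [IsDomain V]
    [ValuationRing V] [CommRing W] [IsDomain W] (φ : V →+* W)
    (hinj : Function.Injective φ) : φ.Flat := by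
  algebraize [φ]
  show Module.Flat V W
  rw [Module.Flat.flat_iff_torsion_eq_bot_of_isBezout, Submodule.eq_bot_iff]
  intro w hw
  obtain ⟨⟨v, hv⟩, hvw⟩ := (Submodule.mem_torsion_iff w).mp hw
  have hv0 : v ≠ 0 := nonZeroDivisors.ne_zero hv
  have h1 : φ v * w = 0 := by
    have : (⟨v, hv⟩ : nonZeroDivisors V) • w = φ v * w := by
      show v • w = φ v * w
      rw [Algebra.smul_def]; rfl
    rw [← this]; exact hvw
  rcases mul_eq_zero.mp h1 with h2 | h2
  · exact absurd (hinj (h2.trans (map_zero φ).symm)) hv0
  · exact h2

theorem comap_surjective_of_injective_local {V W : Type*} [CommRing V] [IsDomain V]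
    [ValuationRing V] [CommRing W] [IsDomain W] [IsLocalRing W] (φ : V →+* W)
    (hinj : Function.Injective φ) [hloc : IsLocalHom φ] :
    Function.Surjective (PrimeSpectrum.comap φ) := by
  algebraize [φ]
  have hflat : Module.Flat V W := by
    rw [Module.Flat.flat_iff_torsion_eq_bot_of_isBezout, Submodule.eq_bot_iff]
    intro w hw
    obtain ⟨⟨v, hv⟩, hvw⟩ := (Submodule.mem_torsion_iff w).mp hw
    have hv0 : v ≠ 0 := nonZeroDivisors.ne_zero hv
    have h1 : φ v * w = 0 := by
      have : (⟨v, hv⟩ : nonZeroDivisors V) • w = φ v * w := by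
        show v • w = φ v * w
        rw [Algebra.smul_def]; rfl
      rw [← this]; exact hvw
    rcases mul_eq_zero.mp h1 with h2 | h2
    · exact absurd (hinj (h2.trans (map_zero φ).symm)) hv0
    · exact h2
  have : IsLocalHom (algebraMap V W) := hloc
  have := Module.FaithfullyFlat.of_flat_of_isLocalHom (A := V) (B := W)
  exact PrimeSpectrum.comap_surjective_of_faithfullyFlat

end Groth.Agent.Lib.Helper38.ValExtSurj
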