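import Groth.Agent.S14769
import Groth.Agent.Lib.Helper38.ProConsClosure
import Groth.Agent.Lib.Helper38.ValExtSurj
import Mathlib.AlgebraicGeometry.Morphisms.Flat
import Mathlib.AlgebraicGeometry.Morphisms.UniversallyOpen
import Mathlib.AlgebraicGeometry.IdealSheaf.Subscheme

/-!
# Morphisms to the spectrum of a valuation ring: lifting of the pair (generic point, closed point)
-/

set_option autoImplicit false
universe u

open CategoryTheory CategoryTheory.Limits AlgebraicGeometry TopologicalSpace IsLocalRing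

namespace Groth.Agent.Lib.Helper38.SubtrVal

open Groth.Agent.Lib.Helper38.HTopV Groth.Agent.Lib.Helper38.ValExtSurj

variable (V : Type u) [CommRing V] [IsDomain V] [ValuationRing V] {X : Scheme.{u}}
  (f : X ⟶ Spec (CommRingCat.of V))

/-- (d) ⇒ (e). -/
theorem exists_valuationRing_surjective (x x' : X) (h : x' ⤳ x) (hx : f x = closedPoint V)
    (hx' : f x' = (⊥ : PrimeSpectrum V)) :
    ∃ (W : Type u) (_ : CommRing W) (_ : IsDomain W) (_ : ValuationRing W)
      (g : Spec (CommRingCat.of W) ⟶ X), Surjective (g ≫ f) := by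
  obtain ⟨W, hWd, hWv, φ, ⟨hinj, hloc⟩, ι, hι, -⟩ :=
    exists_extVal_lift (V := CommRingCat.of V) f h hx' hx
  refine ⟨W, inferInstance, hWd, hWv, ι, ?_⟩
  rw [hι]
  exact ⟨comap_surjective_of_injective_local φ.hom hinj⟩

/-- (e) ⇒ (a). -/
theorem univSSubtrusive_of_valuationRing (W : Type u) [CommRing W] [IsDomain W] [ValuationRing W]
    (g : Spec (CommRingCat.of W) ⟶ X) (hs : Surjective (g ≫ f)) : Subtr.UnivSSubtrusive f := by
  rw [Groth.Agent.S14769.result]
  intro V₁ _ _ _ g₁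
  obtain ⟨ψ, hψ⟩ : ∃ ψ : CommRingCat.of V ⟶ CommRingCat.of W, Spec.map ψ = g ≫ f :=
    ⟨Spec.preimage (g ≫ f), Spec.map_preimage _⟩
  have hinj : Function.Injective ψ.hom := by
    obtain ⟨p, hp⟩ := hs.surj (⊥ : PrimeSpectrum V)
    rw [← hψ] at hp
    rw [RingHom.injective_iff_ker_eq_bot, eq_bot_iff]
    intro v hv
    have h1 : v ∈ (PrimeSpectrum.comap ψ.hom p).asIdeal := by
      show ψ.hom v ∈ p.asIdeal
      rw [RingHom.mem_ker.mp hv]; exact zero_mem _
    have hp' : PrimeSpectrum.comap ψ.hom p = ⊥ := hp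
    rw [hp'] at h1
    exact h1
  have hflat : Flat (g ≫ f) := by
    rw [← hψ, HasRingHomProperty.Spec_iff (P := @Flat)]
    exact flat_of_injective ψ.hom hinj
  have hflat' : Flat (pullback.snd (g ≫ f) g₁) := inferInstance
  have hsurj' : Surjective (pullback.snd (g ≫ f) g₁) := inferInstance
  have hgen := Flat.generalizingMap (pullback.snd (g ≫ f) g₁)
  obtain ⟨c, hc⟩ := hsurj'.surj (closedPoint V₁)
  have hspec : (⊥ : PrimeSpectrum V₁) ⤳ closedPoint V₁ := specializes_closedPoint _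
  rw [← hc] at hspec
  obtain ⟨η, hηc, hη⟩ := hgen hspec
  obtain ⟨V', hd, hv, φ', ⟨hinj', hloc'⟩, ι, hι, -⟩ :=
    exists_extVal_lift (V := CommRingCat.of V₁) (pullback.snd (g ≫ f) g₁) hηc hη hc
  refine ⟨V', inferInstance, hd, hv, ι ≫ pullback.fst (g ≫ f) g₁ ≫ g,
    ι ≫ pullback.snd (g ≫ f) g₁, ?_, ?_⟩
  · rw [hι]
    exact ⟨comap_surjective_of_injective_local φ'.hom hinj'⟩
  · simp only [Category.assoc]
    rw [← pullback.condition]

set_option backward.isDefEq.respectTransparency false in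
/-- The reduced closed subscheme on the closure of a point over the generic point of `Spec V`
is flat over `Spec V`. -/
theorem flat_subschemeι_comp (x' : X) (hx' : f x' = (⊥ : PrimeSpectrum V)) :
    Flat ((Scheme.IdealSheafData.vanishingIdeal
      (⟨closure {x'}, isClosed_closure⟩ : Closeds X)).subschemeι ≫ f) := by
  obtain ⟨I, hI⟩ : ∃ I : X.IdealSheafData, I = Scheme.IdealSheafData.vanishingIdeal
      (⟨closure {x'}, isClosed_closure⟩ : Closeds X) := ⟨_, rfl⟩
  rw [← hI]
  have key : ∀ (U : X.Opens) (hU : IsAffineOpen U), Flat (Spec.map (CommRingCat.ofHom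
      (Ideal.Quotient.mk (I.ideal ⟨U, hU⟩))) ≫ hU.fromSpec ≫ f) := ?_
  · rw [IsZariskiLocalAtSource.iff_of_openCover (P := @Flat) I.subschemeCover.openCover]
    intro U₀
    obtain ⟨U, hU⟩ : X.affineOpens := U₀
    have e : I.subschemeCover.f ⟨U, hU⟩ ≫ I.subschemeι ≫ f =
        Spec.map (CommRingCat.ofHom (Ideal.Quotient.mk (I.ideal ⟨U, hU⟩))) ≫
          IsAffineOpen.fromSpec hU ≫ f := by
      rw [← Category.assoc, I.subschemeCover_map_subschemeι, I.glueDataObjι_ι, Category.assoc]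
    have := key U hU
    rw [← e] at this
    exact this
  intro U hU
  obtain ⟨θ, hθ⟩ : ∃ θ : CommRingCat.of V ⟶ Γ(X, U), Spec.map θ = hU.fromSpec ≫ f :=
    ⟨Spec.preimage _, Spec.map_preimage _⟩
  rw [← hθ, ← Spec.map_comp, HasRingHomProperty.Spec_iff (P := @Flat)]
  have hideal : I.ideal ⟨U, hU⟩ = PrimeSpectrum.vanishingIdeal (hU.fromSpec ⁻¹' closure {x'}) := by
    rw [hI]; rfl
  by_cases hxU : x' ∈ U
  · obtain ⟨p, hp⟩ : ∃ p : PrimeSpectrum Γ(X, U), hU.fromSpec p = x' :=
      ⟨hU.primeIdealOf ⟨x', hxU⟩, hU.fromSpec_primeIdealOf ⟨x', hxU⟩⟩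
    have hpre : hU.fromSpec ⁻¹' closure {x'} = closure {p} := by
      rw [hU.fromSpec.isOpenEmbedding.isOpenMap.preimage_closure_eq_closure_preimage
        hU.fromSpec.continuous]
      congr 1
      ext q
      simp only [Set.mem_preimage, Set.mem_singleton_iff]
      constructor
      · intro hq
        exact hU.fromSpec.isOpenEmbedding.injective (hq.trans hp.symm)
      · rintro rfl
        exact hp
    have hideal' : I.ideal ⟨U, hU⟩ = p.asIdeal := by
      rw [hideal, hpre, PrimeSpectrum.vanishingIdeal_closure,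
        PrimeSpectrum.vanishingIdeal_singleton]
    have hinj : Function.Injective
        (θ ≫ CommRingCat.ofHom (Ideal.Quotient.mk (I.ideal ⟨U, hU⟩))).hom := by
      rw [RingHom.injective_iff_ker_eq_bot, eq_bot_iff]
      intro v hv
      have h1 : Ideal.Quotient.mk (I.ideal ⟨U, hU⟩) (θ.hom v) = 0 := hv
      rw [Ideal.Quotient.eq_zero_iff_mem, hideal'] at h1
      have h2 : v ∈ (PrimeSpectrum.comap θ.hom p).asIdeal := h1
      have h3 : PrimeSpectrum.comap θ.hom p = (⊥ : PrimeSpectrum V) := by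
        have : (Spec.map θ) p = f x' := by
          rw [hθ, Scheme.Hom.comp_apply, hp]
        exact this.trans hx'
      rw [h3] at h2
      exact h2
    have hprime : (I.ideal ⟨U, hU⟩).IsPrime := by rw [hideal']; exact p.2
    have : IsDomain (Γ(X, U) ⧸ I.ideal ⟨U, hU⟩) := Ideal.Quotient.isDomain _
    exact flat_of_injective _ hinj
  · have hpre : hU.fromSpec ⁻¹' closure {x'} = ∅ := by
      ext q
      simp only [Set.mem_preimage, Set.mem_empty_iff_false, iff_false]
      intro hq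
      have h1 : x' ⤳ hU.fromSpec q := specializes_iff_mem_closure.mpr hq
      have h2 : hU.fromSpec q ∈ (U : Set X) := by
        rw [← hU.range_fromSpec]
        exact Set.mem_range_self q
      exact hxU (h1.mem_open U.2 h2)
    have hideal' : I.ideal ⟨U, hU⟩ = ⊤ := by
      rw [hideal, hpre, PrimeSpectrum.vanishingIdeal_empty]
    have hsub : Subsingleton (Γ(X, U) ⧸ I.ideal ⟨U, hU⟩) := by
      rw [hideal']; exact Ideal.Quotient.subsingleton_iff.mpr rfl
    obtain ⟨φ, hφ⟩ : ∃ φ : V →+* (Γ(X, U) ⧸ I.ideal ⟨U, hU⟩),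
      φ = (θ ≫ CommRingCat.ofHom (Ideal.Quotient.mk (I.ideal ⟨U, hU⟩))).hom := ⟨_, rfl⟩
    rw [← hφ]
    algebraize [φ]
    have : Module.Flat V (Γ(X, U) ⧸ I.ideal ⟨U, hU⟩) := inferInstance
    exact this

/-- (d) ⇒ (f). -/
theorem exists_flat_closed (x x' : X) (h : x' ⤳ x) (hx : f x = closedPoint V)
    (hx' : f x' = (⊥ : PrimeSpectrum V)) :
    ∃ (Z : Scheme.{u}) (i : Z ⟶ X), IsClosedImmersion i ∧ Flat (i ≫ f) ∧ Surjective (i ≫ f) := by
  obtain ⟨I, hI⟩ : ∃ I : X.IdealSheafData, I = Scheme.IdealSheafData.vanishingIdeal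
      (⟨closure {x'}, isClosed_closure⟩ : Closeds X) := ⟨_, rfl⟩
  have hflat : Flat (I.subschemeι ≫ f) := by rw [hI]; exact flat_subschemeι_comp V f x' hx'
  refine ⟨I.subscheme, I.subschemeι, inferInstance, hflat, ⟨?_⟩⟩
  have hrange : Set.range I.subschemeι = closure {x'} := by
    rw [Scheme.IdealSheafData.range_subschemeι, hI]
    simp
  have hxmem : x ∈ Set.range I.subschemeι := by
    rw [hrange]; exact h.mem_closure
  obtain ⟨z, hz⟩ := hxmem
  have hgen := Flat.generalizingMap (I.subschemeι ≫ f)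
  intro y
  have hy : y ⤳ (I.subschemeι ≫ f) z := by
    rw [Scheme.Hom.comp_apply, hz, hx]
    exact specializes_closedPoint y
  obtain ⟨z', -, hz'⟩ := hgen hy
  exact ⟨z', hz'⟩

/-- (f) ⇒ (d). -/
theorem exists_pair_of_flat_closed (Z : Scheme.{u}) (i : Z ⟶ X) (hflat : Flat (i ≫ f))
    (hsurj : Surjective (i ≫ f)) :
    ∃ x x' : X, x' ⤳ x ∧ f x = closedPoint V ∧ f x' = (⊥ : PrimeSpectrum V) := by
  obtain ⟨z, hz⟩ := hsurj.surj (closedPoint V)
  have hgen := Flat.generalizingMap (i ≫ f)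
  have hspec : (⊥ : PrimeSpectrum V) ⤳ (i ≫ f) z := by
    rw [hz]; exact specializes_closedPoint _
  obtain ⟨z', hz'z, hz'⟩ := hgen hspec
  refine ⟨i z, i z', hz'z.map i.continuous, ?_, ?_⟩
  · rw [← Scheme.Hom.comp_apply]; exact hz
  · rw [← Scheme.Hom.comp_apply]; exact hz'

end Groth.Agent.Lib.Helper38.SubtrVal
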