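import Mathlib.Algebra.MonoidAlgebra.NoZeroDivisors
import Mathlib.Algebra.Group.UniqueProds.Basic
import Mathlib.Algebra.MonoidAlgebra.Basic


open AddMonoidAlgebra Finset

namespace Groth.Agent.Lib.Helper38.Torus

theorem exists_single_of_isUnit {A : Type*} [CommRing A] [IsDomain A] {G : Type*} [AddCommGroup G]
    [TwoUniqueSums G] (x : AddMonoidAlgebra A G) (hx : IsUnit x) :
    ∃ (a : Aˣ) (e : G), x = single e (a : A) := by
  classical
  obtain ⟨⟨x, y, hxy, hyx⟩, rfl⟩ := hx
  simp only
  have h1 : (1 : AddMonoidAlgebra A G).coeff = Finsupp.single 0 1 := by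
    rw [one_def, coeff_single]
  have hx0 : x ≠ 0 := by
    rintro rfl; rw [zero_mul] at hxy; exact zero_ne_one hxy
  have hy0 : y ≠ 0 := by
    rintro rfl; rw [mul_zero] at hxy; exact zero_ne_one hxy
  have hSx : x.coeff.support.Nonempty := by
    rw [Finsupp.support_nonempty_iff]; intro h; exact hx0 (AddMonoidAlgebra.ext (by rw [h]; rfl))
  have hSy : y.coeff.support.Nonempty := by
    rw [Finsupp.support_nonempty_iff]; intro h; exact hy0 (AddMonoidAlgebra.ext (by rw [h]; rfl))
  have hcard : ¬ 1 < #x.coeff.support * #y.coeff.support := by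
    intro hlt
    obtain ⟨p1, hp1, p2, hp2, hne, hu1, hu2⟩ := TwoUniqueSums.uniqueAdd_of_one_lt_card hlt
    rw [Finset.mem_product] at hp1 hp2
    have key : ∀ p : G × G, p ∈ x.coeff.support ×ˢ y.coeff.support →
        UniqueAdd x.coeff.support y.coeff.support p.1 p.2 → p.1 + p.2 = 0 := by
      intro p hp hu
      rw [Finset.mem_product] at hp
      have h := coeff_mul_add_of_uniqueAdd hu
      rw [hxy, h1] at h
      by_contra hne0
      rw [Finsupp.single_apply, if_neg (Ne.symm hne0)] at h
      have h2 := Finsupp.mem_support_iff.mp hp.1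
      have h3 := Finsupp.mem_support_iff.mp hp.2
      exact mul_ne_zero h2 h3 h.symm
    have e1 := key p1 (Finset.mem_product.mpr hp1) hu1
    have e2 := key p2 (Finset.mem_product.mpr hp2) hu2
    have := hu1 hp2.1 hp2.2 (e2.trans e1.symm)
    exact hne (Prod.ext this.1 this.2).symm
  have hcx : #x.coeff.support = 1 := by
    have h1 := Finset.card_pos.mpr hSx
    have h2 := Finset.card_pos.mpr hSy
    by_contra hc
    apply hcard
    have : 2 ≤ #x.coeff.support := by omega
    calc 1 < 2 * 1 := by norm_num
      _ ≤ #x.coeff.support * #y.coeff.support := Nat.mul_le_mul this h2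
  have hcy : #y.coeff.support = 1 := by
    have h1 := Finset.card_pos.mpr hSx
    have h2 := Finset.card_pos.mpr hSy
    by_contra hc
    apply hcard
    have : 2 ≤ #y.coeff.support := by omega
    calc 1 < 1 * 2 := by norm_num
      _ ≤ #x.coeff.support * #y.coeff.support := Nat.mul_le_mul h1 this
  obtain ⟨e, he⟩ := Finset.card_eq_one.mp hcx
  obtain ⟨e', he'⟩ := Finset.card_eq_one.mp hcy
  have hxs : x = single e (x.coeff e) := by
    apply AddMonoidAlgebra.ext
    rw [coeff_single]
    exact Finsupp.eq_single_iff.mpr ⟨he.le, rfl⟩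
  have hys : y = single e' (y.coeff e') := by
    apply AddMonoidAlgebra.ext
    rw [coeff_single]
    exact Finsupp.eq_single_iff.mpr ⟨he'.le, rfl⟩
  have hprod : single (e + e') (x.coeff e * y.coeff e') = (1 : AddMonoidAlgebra A G) := by
    rw [← single_mul_single, ← hxs, ← hys, hxy]
  have hee : e + e' = 0 := by
    by_contra hne0
    have := congrArg (fun z : AddMonoidAlgebra A G => z.coeff 0) hprod
    simp only [coeff_single, h1] at this
    rw [Finsupp.single_apply, if_neg hne0, Finsupp.single_apply, if_pos rfl] at this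
    exact zero_ne_one this
  have hab : x.coeff e * y.coeff e' = 1 := by
    have := congrArg (fun z : AddMonoidAlgebra A G => z.coeff 0) hprod
    simp only [coeff_single, h1, hee] at this
    simpa using this
  refine ⟨⟨x.coeff e, y.coeff e', hab, by rw [mul_comm]; exact hab⟩, e, hxs⟩

theorem single_eq_single_iff' {A : Type*} [CommRing A] {G : Type*} [AddCommGroup G]
    {e e' : G} {a a' : A} (ha : a ≠ 0) (h : (single e a : AddMonoidAlgebra A G) = single e' a') :
    e = e' ∧ a = a' := by
  have := congrArg AddMonoidAlgebra.coeff h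
  rw [coeff_single, coeff_single, Finsupp.single_eq_single_iff] at this
  rcases this with h | h
  · exact h
  · exact absurd h.1 ha

end Groth.Agent.Lib.Helper38.Torus
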