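import Mathlib
import Groth.Agent.Lib.Helper38.TorusA

set_option autoImplicit false
universe u
open CategoryTheory CategoryTheory.Limits AlgebraicGeometry Opposite

namespace Groth.Agent.Lib.Helper38.Torus

variable (n : ℕ)

/-- the Laurent ring -/
noncomputable abbrev LL : CommRingCat.{u} := CommRingCat.of (ULift.{u} (AddMonoidAlgebra ℤ (Fin n → ℤ)))

/-- A[ℤ^n] -/
noncomputable abbrev AG (A : CommRingCat.{u}) : CommRingCat.{u} :=
  CommRingCat.of (AddMonoidAlgebra A (Fin n → ℤ))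

/-- constants -/
noncomputable def cA (A : CommRingCat.{u}) : A ⟶ AG n A :=
  CommRingCat.ofHom AddMonoidAlgebra.singleZeroRingHom

/-- the Laurent ring maps to A[ℤ^n] -/
noncomputable def lA (A : CommRingCat.{u}) : LL.{u} n ⟶ AG n A :=
  CommRingCat.ofHom ((AddMonoidAlgebra.mapRingHom (Fin n → ℤ) (Int.castRingHom A)).comp
    (ULift.ringEquiv : ULift.{u} (AddMonoidAlgebra ℤ (Fin n → ℤ)) ≃+* _).toRingHom)

/-- functoriality -/
noncomputable def mapAG {A B : CommRingCat.{u}} (φ : A ⟶ B) : AG n A ⟶ AG n B :=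
  CommRingCat.ofHom (AddMonoidAlgebra.mapRingHom (Fin n → ℤ) φ.hom)

lemma cA_mapAG {A B : CommRingCat.{u}} (φ : A ⟶ B) : cA n A ≫ mapAG n φ = φ ≫ cA n B := by
  ext a
  simp [cA, mapAG]

lemma lA_mapAG {A B : CommRingCat.{u}} (φ : A ⟶ B) : lA n A ≫ mapAG n φ = lA n B := by
  apply CommRingCat.hom_ext
  simp only [lA, mapAG, CommRingCat.hom_comp, CommRingCat.hom_ofHom]
  rw [← RingHom.comp_assoc]
  congr 1
  apply AddMonoidAlgebra.ringHom_ext
  · intro r; simp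
  · intro m; simp

variable {n} {X : Scheme.{u}}

/-- the morphism Spec A[ℤ^n] ⟶ X × T -/
noncomputable def sig {A : CommRingCat.{u}} (g : Spec A ⟶ X) :
    Spec (AG n A) ⟶ X ⨯ Spec (LL.{u} n) :=
  prod.lift (Spec.map (cA n A) ≫ g) (Spec.map (lA n A))

/-- pullback of functions -/
noncomputable def theta {A : CommRingCat.{u}} (g : Spec A ⟶ X) :
    Γ(X ⨯ Spec (LL.{u} n), ⊤) →+* AddMonoidAlgebra A (Fin n → ℤ) :=
  ((sig g).appTop ≫ (Scheme.ΓSpecIso (AG n A)).hom).hom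

lemma theta_fst {A : CommRingCat.{u}} (g : Spec A ⟶ X) (s : Γ(X, ⊤)) :
    theta g ((prod.fst : X ⨯ Spec (LL.{u} n) ⟶ X).appTop s) =
      AddMonoidAlgebra.single 0 ((Scheme.ΓSpecIso A).hom (g.appTop s)) := by
  have h1 : sig g ≫ (prod.fst : X ⨯ Spec (LL.{u} n) ⟶ X) = Spec.map (cA n A) ≫ g := by
    exact prod.lift_fst _ _
  have h2 := congrArg (fun f => f.appTop) h1
  simp only [Scheme.Hom.comp_appTop] at h2
  have h3 : (prod.fst : X ⨯ Spec (LL.{u} n) ⟶ X).appTop ≫ (sig g).appTop ≫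
      (Scheme.ΓSpecIso (AG n A)).hom = g.appTop ≫ (Scheme.ΓSpecIso A).hom ≫ cA n A := by
    rw [← Category.assoc, h2, Category.assoc, Scheme.ΓSpecIso_naturality]
  have h4 := congrArg (fun f => f.hom s) h3
  simpa [theta, cA] using h4

lemma theta_snd {A : CommRingCat.{u}} (g : Spec A ⟶ X) (l : LL.{u} n) :
    theta g ((prod.snd : X ⨯ Spec (LL.{u} n) ⟶ Spec (LL.{u} n)).appTop
      ((Scheme.ΓSpecIso (LL.{u} n)).inv l)) = (lA n A).hom l := by
  have h1 : sig g ≫ (prod.snd : X ⨯ Spec (LL.{u} n) ⟶ _) = Spec.map (lA n A) := by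
    exact prod.lift_snd _ _
  have h2 := congrArg (fun f => f.appTop) h1
  simp only [Scheme.Hom.comp_appTop] at h2
  have h3 : (Scheme.ΓSpecIso (LL.{u} n)).inv ≫
      (prod.snd : X ⨯ Spec (LL.{u} n) ⟶ _).appTop ≫ (sig g).appTop ≫
      (Scheme.ΓSpecIso (AG n A)).hom = lA n A := by
    rw [← Category.assoc _ (sig g).appTop, h2, Scheme.ΓSpecIso_naturality, Iso.inv_hom_id_assoc]
  have h4 := congrArg (fun f => f.hom l) h3
  simpa [theta] using h4

lemma sig_comp {A B : CommRingCat.{u}} (g : Spec A ⟶ X) (φ : A ⟶ B) :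
    sig (n := n) (Spec.map φ ≫ g) = Spec.map (mapAG n φ) ≫ sig g := by
  apply Limits.prod.hom_ext
  · simp only [sig, prod.lift_fst, Category.assoc]
    rw [← Spec.map_comp_assoc, ← Spec.map_comp_assoc, cA_mapAG]
  · simp only [sig, prod.lift_snd, Category.assoc]
    rw [← Spec.map_comp, lA_mapAG]

lemma theta_comp {A B : CommRingCat.{u}} (g : Spec A ⟶ X) (φ : A ⟶ B)
    (v : Γ(X ⨯ Spec (LL.{u} n), ⊤)) :
    theta (Spec.map φ ≫ g) v = AddMonoidAlgebra.mapRingHom (Fin n → ℤ) φ.hom (theta g v) := by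
  have h3 : (sig (n := n) (Spec.map φ ≫ g)).appTop ≫ (Scheme.ΓSpecIso (AG n B)).hom =
      ((sig g).appTop ≫ (Scheme.ΓSpecIso (AG n A)).hom) ≫ mapAG n φ := by
    rw [sig_comp, Scheme.Hom.comp_appTop, Category.assoc, Scheme.ΓSpecIso_naturality,
      Category.assoc]
  have h4 := congrArg (fun f => f.hom v) h3
  simpa [theta, mapAG] using h4

lemma exists_desc {A C : CommRingCat.{u}} (α : A ⟶ C) (β : LL.{u} n ⟶ C) :
    ∃ ψ : AG n A ⟶ C, cA n A ≫ ψ = α ∧ lA n A ≫ ψ = β := by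
  let β' : AddMonoidAlgebra ℤ (Fin n → ℤ) →+* C := β.hom.comp
    (ULift.ringEquiv : ULift.{u} (AddMonoidAlgebra ℤ (Fin n → ℤ)) ≃+* _).symm.toRingHom
  let γ : Multiplicative (Fin n → ℤ) →* C :=
    (β' : AddMonoidAlgebra ℤ (Fin n → ℤ) →* C).comp (AddMonoidAlgebra.of ℤ (Fin n → ℤ))
  refine ⟨CommRingCat.ofHom (AddMonoidAlgebra.liftNCRingHom α.hom γ (fun _ _ => Commute.all _ _)),
    ?_, ?_⟩
  · ext a
    simp [cA, AddMonoidAlgebra.liftNCRingHom, AddMonoidAlgebra.liftNC_single]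
  · apply CommRingCat.hom_ext
    have hβ : β.hom = β'.comp
        (ULift.ringEquiv : ULift.{u} (AddMonoidAlgebra ℤ (Fin n → ℤ)) ≃+* _).toRingHom := by
      ext x; simp [β']
    rw [hβ]
    simp only [lA, CommRingCat.hom_comp, CommRingCat.hom_ofHom]
    rw [← RingHom.comp_assoc]
    congr 1
    apply AddMonoidAlgebra.ringHom_ext
    · intro r
      have := RingHom.ext_int
        (((AddMonoidAlgebra.liftNCRingHom α.hom γ (fun _ _ => Commute.all _ _)).comp
          (AddMonoidAlgebra.mapRingHom (Fin n → ℤ) (Int.castRingHom A))).comp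
          AddMonoidAlgebra.singleZeroRingHom)
        (β'.comp AddMonoidAlgebra.singleZeroRingHom)
      exact congrFun (congrArg DFunLike.coe this) r
    · intro m
      simp [AddMonoidAlgebra.liftNCRingHom, AddMonoidAlgebra.liftNC_single, γ]

lemma fromSpec_appTop_ΓSpecIso {Y : Scheme.{u}} {W : Y.Opens} (hW : IsAffineOpen W) :
    hW.fromSpec.appTop ≫ (Scheme.ΓSpecIso Γ(Y, W)).hom =
      Y.presheaf.map (homOfLE le_top).op := by
  have h1 := hW.fromSpec_toSpecΓ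
  have h2 := congrArg (fun f => f.appTop) h1
  simp only [Scheme.Hom.comp_appTop, Scheme.toSpecΓ_appTop] at h2
  rw [← cancel_epi (Scheme.ΓSpecIso Γ(Y, ⊤)).hom, ← Category.assoc, h2,
    Scheme.ΓSpecIso_naturality]

theorem ext_of_theta (v v' : Γ(X ⨯ Spec (LL.{u} n), ⊤))
    (h : ∀ U : X.affineOpens, theta (n := n) U.2.fromSpec v = theta U.2.fromSpec v') :
    v = v' := by
  let ι := {W : (X ⨯ Spec (LL.{u} n)).Opens // IsAffineOpen W ∧ ∃ U : X.affineOpens,
    W ≤ (prod.fst : X ⨯ Spec (LL.{u} n) ⟶ X) ⁻¹ᵁ U.1}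
  apply (X ⨯ Spec (LL.{u} n)).sheaf.eq_of_locally_eq' (fun i : ι => i.1) ⊤
    (fun i => homOfLE le_top)
  · intro p _
    obtain ⟨U, hU, hpU, -⟩ := exists_isAffineOpen_mem_and_subset
      (x := (prod.fst : X ⨯ Spec (LL.{u} n) ⟶ X) p) (U := ⊤) trivial
    obtain ⟨W, hW, hpW, hWU⟩ := exists_isAffineOpen_mem_and_subset (x := p)
      (U := (prod.fst : X ⨯ Spec (LL.{u} n) ⟶ X) ⁻¹ᵁ U) hpU
    exact TopologicalSpace.Opens.mem_iSup.mpr ⟨⟨W, hW, ⟨U, hU⟩, hWU⟩, hpW⟩
  · rintro ⟨W, hW, U, hWU⟩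
    have hα := IsAffineOpen.SpecMap_appLE_fromSpec
      (prod.fst : X ⨯ Spec (LL.{u} n) ⟶ X) U.2 hW hWU
    obtain ⟨ψ, hψ1, hψ2⟩ := exists_desc (n := n)
      ((prod.fst : X ⨯ Spec (LL.{u} n) ⟶ X).appLE U.1 W hWU)
      (Spec.preimage (hW.fromSpec ≫ (prod.snd : X ⨯ Spec (LL.{u} n) ⟶ _)))
    have hfac : Spec.map ψ ≫ sig (n := n) U.2.fromSpec = hW.fromSpec := by
      apply Limits.prod.hom_ext
      · simp only [sig, prod.lift_fst, Category.assoc]
        rw [← Spec.map_comp_assoc, hψ1, hα]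
      · simp only [sig, prod.lift_snd, Category.assoc]
        rw [← Spec.map_comp, hψ2, Spec.map_preimage]
    have h1 : (sig (n := n) U.2.fromSpec).appTop v = (sig (n := n) U.2.fromSpec).appTop v' := by
      have := h U
      simp only [theta, CommRingCat.hom_comp, RingHom.comp_apply] at this
      exact (ConcreteCategory.bijective_of_isIso (Scheme.ΓSpecIso (AG n Γ(X, U.1))).hom).1 this
    have h2 : hW.fromSpec.appTop v = hW.fromSpec.appTop v' := by
      rw [← hfac, Scheme.Hom.comp_appTop, CommRingCat.comp_apply, CommRingCat.comp_apply, h1]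
    have h3 := fromSpec_appTop_ΓSpecIso hW
    have h4 : ∀ w, (X ⨯ Spec (LL.{u} n)).presheaf.map (homOfLE le_top).op w =
        (Scheme.ΓSpecIso Γ(X ⨯ Spec (LL.{u} n), W)).hom (hW.fromSpec.appTop w) := by
      intro w; rw [← h3]; rfl
    change (X ⨯ Spec (LL.{u} n)).presheaf.map (homOfLE le_top).op v =
      (X ⨯ Spec (LL.{u} n)).presheaf.map (homOfLE le_top).op v'
    rw [h4, h4, h2]

end Groth.Agent.Lib.Helper38.Torus
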