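import Mathlib
import Groth.Agent.Lib.Helper38.TorusB

set_option autoImplicit false
universe u
open CategoryTheory CategoryTheory.Limits AlgebraicGeometry Opposite

namespace Groth.Agent.Lib.Helper38.Torus

variable {n : ℕ} {X : Scheme.{u}}

lemma theta_fst_mul_snd (U : X.affineOpens) (s : Γ(X, ⊤)) (e : Fin n → ℤ) :
    theta (n := n) U.2.fromSpec ((prod.fst : X ⨯ Spec (LL.{u} n) ⟶ X).appTop s *
      (prod.snd : X ⨯ Spec (LL.{u} n) ⟶ Spec (LL.{u} n)).appTop
        ((Scheme.ΓSpecIso (LL.{u} n)).inv (ULift.up (AddMonoidAlgebra.single e 1)))) =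
      AddMonoidAlgebra.single e (X.presheaf.map (homOfLE (le_top : U.1 ≤ ⊤)).op s) := by
  rw [map_mul, theta_fst, theta_snd]
  have h1 : (Scheme.ΓSpecIso Γ(X, U.1)).hom (U.2.fromSpec.appTop s) =
      X.presheaf.map (homOfLE (le_top : U.1 ≤ ⊤)).op s := by
    rw [← fromSpec_appTop_ΓSpecIso U.2]; rfl
  rw [h1]
  have h2 : (lA n Γ(X, U.1)).hom (ULift.up (AddMonoidAlgebra.single e 1)) =
      AddMonoidAlgebra.single e 1 := by
    simp only [lA, CommRingCat.hom_ofHom, RingHom.comp_apply]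
    change (AddMonoidAlgebra.mapRingHom (Fin n → ℤ) (Int.castRingHom ↑Γ(X, U.1)))
      (AddMonoidAlgebra.single e 1) = _
    simp
  rw [h2, AddMonoidAlgebra.single_mul_single, zero_add, mul_one]

lemma theta_res (U U' : X.affineOpens) (h : U'.1 ≤ U.1) (v : Γ(X ⨯ Spec (LL.{u} n), ⊤)) :
    theta (n := n) U'.2.fromSpec v =
      AddMonoidAlgebra.mapRingHom (Fin n → ℤ) (X.presheaf.map (homOfLE h).op).hom
        (theta U.2.fromSpec v) := by
  rw [← U.2.map_fromSpec U'.2 (homOfLE h).op, theta_comp]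

/-- a section of the projection -/
lemma isUnit_of_isUnit_fst (u : Γ(X, ⊤))
    (h : IsUnit ((prod.fst : X ⨯ Spec (LL.{u} n) ⟶ X).appTop u)) : IsUnit u := by
  let aug : LL.{u} n ⟶ Γ(X, ⊤) := CommRingCat.ofHom
    ((AddMonoidAlgebra.liftNCRingHom (Int.castRingHom Γ(X, ⊤)) (1 : Multiplicative (Fin n → ℤ) →* _)
      (fun _ _ => Commute.all _ _)).comp
      (ULift.ringEquiv : ULift.{u} (AddMonoidAlgebra ℤ (Fin n → ℤ)) ≃+* _).toRingHom)
  let s : X ⟶ X ⨯ Spec (LL.{u} n) := prod.lift (𝟙 X) (X.toSpecΓ ≫ Spec.map aug)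
  have hs : s ≫ (prod.fst : X ⨯ Spec (LL.{u} n) ⟶ X) = 𝟙 X := prod.lift_fst _ _
  have h2 := congrArg (fun f => f.appTop) hs
  simp only [Scheme.Hom.comp_appTop, Scheme.Hom.id_appTop] at h2
  have h3 : s.appTop ((prod.fst : X ⨯ Spec (LL.{u} n) ⟶ X).appTop u) = u := by
    rw [← CommRingCat.comp_apply, h2]; rfl
  rw [← h3]
  exact h.map s.appTop.hom

end Groth.Agent.Lib.Helper38.Torus
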