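import Mathlib
import Groth.Agent.Lib.Helper38.TorusC

set_option autoImplicit false
set_option linter.style.haveILetI false
universe u
open CategoryTheory CategoryTheory.Limits AlgebraicGeometry Opposite

namespace Groth.Agent.Lib.Helper38.Torus

variable {n : ℕ} {X : Scheme.{u}}

lemma map_single' {A B : Type u} [CommRing A] [CommRing B] (φ : A →+* B) (e : Fin n → ℤ) (a : A) :
    AddMonoidAlgebra.mapRingHom (Fin n → ℤ) φ (AddMonoidAlgebra.single e a) =
      AddMonoidAlgebra.single e (φ a) := by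
  simp

lemma subsingleton_of_not_nonempty (U : X.Opens) (h : ¬ Nonempty U) : Subsingleton Γ(X, U) := by
  have : U = ⊥ := by
    ext x
    constructor
    · intro hx; exact (h ⟨⟨x, hx⟩⟩).elim
    · intro hx; exact hx.elim
  rw [this]; infer_instance

lemma res_res {U V W : X.Opens} (h1 : W ≤ V) (h2 : V ≤ U) (s : Γ(X, U)) :
    X.presheaf.map (homOfLE h1).op (X.presheaf.map (homOfLE h2).op s) =
      X.presheaf.map (homOfLE (h1.trans h2)).op s := by
  rw [← CommRingCat.comp_apply, ← Functor.map_comp]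
  rfl

theorem main (X : Scheme.{u}) [IsIntegral X] (n : ℕ)
    (v : Γ(X ⨯ Spec (LL.{u} n), ⊤)) (hv : IsUnit v) :
    ∃! p : (Γ(X, ⊤))ˣ × (Fin n → ℤ),
      v = (prod.fst : X ⨯ Spec (LL.{u} n) ⟶ X).appTop (p.1 : Γ(X, ⊤)) *
        (prod.snd : X ⨯ Spec (LL.{u} n) ⟶ Spec (LL.{u} n)).appTop
          ((Scheme.ΓSpecIso (LL.{u} n)).inv (ULift.up (AddMonoidAlgebra.single p.2 1))) := by
  classical
  have hex : ∀ U : X.affineOpens, Nonempty U.1 →
      ∃ (a : (Γ(X, U.1))ˣ) (e : Fin n → ℤ),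
        theta (n := n) U.2.fromSpec v = AddMonoidAlgebra.single e (a : Γ(X, U.1)) := by
    intro U hU
    haveI := hU
    exact exists_single_of_isUnit _ (hv.map (theta U.2.fromSpec))
  choose a e hae using hex
  have hcomp : ∀ (U U' : X.affineOpens) (hU : Nonempty U.1) (hU' : Nonempty U'.1)
      (h : U'.1 ≤ U.1), e U hU = e U' hU' ∧
        X.presheaf.map (homOfLE h).op (a U hU : Γ(X, U.1)) = ((a U' hU' : Γ(X, U'.1)ˣ) : Γ(X, U'.1)) := by
    intro U U' hU hU' h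
    have h1 := theta_res U U' h v
    rw [hae U hU, hae U' hU', map_single'] at h1
    haveI := hU'
    have hne : X.presheaf.map (homOfLE h).op (a U hU : Γ(X, U.1)) ≠ 0 :=
      ((a U hU).isUnit.map (X.presheaf.map (homOfLE h).op).hom).ne_zero
    exact single_eq_single_iff' hne h1.symm
  -- a base affine open
  obtain ⟨x0⟩ : Nonempty X := inferInstance
  obtain ⟨U0', hU0', hx0, -⟩ := exists_isAffineOpen_mem_and_subset (x := x0) (U := ⊤) trivial
  let U0 : X.affineOpens := ⟨U0', hU0'⟩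
  have hU0 : Nonempty U0.1 := ⟨⟨x0, hx0⟩⟩
  have hconst : ∀ (U : X.affineOpens) (hU : Nonempty U.1), e U hU = e U0 hU0 := by
    intro U hU
    obtain ⟨⟨y, hy⟩⟩ := hU
    have hne : ((U.1 : Set X) ∩ (U0.1 : Set X)).Nonempty :=
      nonempty_preirreducible_inter U.1.2 U0.1.2 ⟨y, hy⟩ ⟨x0, hx0⟩
    obtain ⟨z, hz⟩ := hne
    obtain ⟨W, hW, hzW, hWU⟩ := exists_isAffineOpen_mem_and_subset (x := z)
      (U := U.1 ⊓ U0.1) hz
    have hWne : Nonempty (⟨W, hW⟩ : X.affineOpens).1 := ⟨⟨z, hzW⟩⟩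
    have h1 := (hcomp U ⟨W, hW⟩ ⟨⟨y, hy⟩⟩ hWne (fun t ht => (hWU ht).1)).1
    have h2 := (hcomp U0 ⟨W, hW⟩ hU0 hWne (fun t ht => (hWU ht).2)).1
    exact h1.trans h2.symm
  -- gluing
  let sf : ∀ U : X.affineOpens, Γ(X, U.1) := fun U =>
    if h : Nonempty U.1 then ((a U h : Γ(X, U.1)ˣ) : Γ(X, U.1)) else 0
  have hsf : ∀ (U : X.affineOpens) (h : Nonempty U.1), sf U = (a U h : Γ(X, U.1)) := by
    intro U h; simp only [sf, dif_pos h]
  have hcompat : TopCat.Presheaf.IsCompatible X.sheaf.1 (fun U : X.affineOpens => U.1) sf := by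
    intro U1 U2
    let ι' := {W : X.affineOpens // W.1 ≤ U1.1 ⊓ U2.1 ∧ Nonempty W.1}
    apply X.sheaf.eq_of_locally_eq' (fun i : ι' => i.1.1) (U1.1 ⊓ U2.1) (fun i => homOfLE i.2.1)
    · intro y hy
      obtain ⟨W, hW, hyW, hWU⟩ := exists_isAffineOpen_mem_and_subset (x := y)
        (U := U1.1 ⊓ U2.1) hy
      exact TopologicalSpace.Opens.mem_iSup.mpr ⟨⟨⟨W, hW⟩, hWU, ⟨⟨y, hyW⟩⟩⟩, hyW⟩
    · rintro ⟨W, hWU, hWne⟩
      obtain ⟨⟨y, hy⟩⟩ := hWne
      have hU1 : Nonempty U1.1 := ⟨⟨y, (hWU hy).1⟩⟩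
      have hU2 : Nonempty U2.1 := ⟨⟨y, (hWU hy).2⟩⟩
      have e1 := (hcomp U1 W hU1 ⟨⟨y, hy⟩⟩ (hWU.trans inf_le_left)).2
      have e2 := (hcomp U2 W hU2 ⟨⟨y, hy⟩⟩ (hWU.trans inf_le_right)).2
      change X.presheaf.map (homOfLE hWU).op (X.presheaf.map (homOfLE inf_le_left).op (sf U1)) =
        X.presheaf.map (homOfLE hWU).op (X.presheaf.map (homOfLE inf_le_right).op (sf U2))
      rw [res_res, res_res, hsf U1 hU1, hsf U2 hU2, e1, e2]
  obtain ⟨uu, huu, huniq⟩ := X.sheaf.existsUnique_gluing' (fun U : X.affineOpens => U.1) ⊤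
    (fun U => homOfLE le_top)
    (by
      intro y _
      obtain ⟨W, hW, hyW, -⟩ := exists_isAffineOpen_mem_and_subset (x := y) (U := ⊤) trivial
      exact TopologicalSpace.Opens.mem_iSup.mpr ⟨⟨W, hW⟩, hyW⟩) sf hcompat
  have huu' : ∀ U : X.affineOpens, X.presheaf.map (homOfLE (le_top : U.1 ≤ ⊤)).op uu = sf U := huu
  -- the equation
  have hveq : v = (prod.fst : X ⨯ Spec (LL.{u} n) ⟶ X).appTop uu *
        (prod.snd : X ⨯ Spec (LL.{u} n) ⟶ Spec (LL.{u} n)).appTop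
          ((Scheme.ΓSpecIso (LL.{u} n)).inv (ULift.up (AddMonoidAlgebra.single (e U0 hU0) 1))) := by
    apply ext_of_theta
    intro U
    refine Eq.trans ?_ (theta_fst_mul_snd (n := n) U uu (e U0 hU0)).symm
    rw [huu' U]
    by_cases hU : Nonempty U.1
    · rw [hae U hU, hsf U hU, hconst U hU]
    · haveI := subsingleton_of_not_nonempty U.1 hU
      exact Subsingleton.elim _ _
  have huunit : IsUnit uu := by
    apply isUnit_of_isUnit_fst (n := n)
    rw [hveq] at hv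
    exact isUnit_of_mul_isUnit_left hv
  refine ⟨(huunit.unit, e U0 hU0), hveq, ?_⟩
  rintro ⟨u', e'⟩ hp
  simp only at hp
  have key : ∀ (U : X.affineOpens) (hU : Nonempty U.1), e U hU = e' ∧
      ((a U hU : Γ(X, U.1)ˣ) : Γ(X, U.1)) = X.presheaf.map (homOfLE (le_top : U.1 ≤ ⊤)).op (u' : Γ(X, ⊤)) := by
    intro U hU
    have h1 := congrArg (theta (n := n) U.2.fromSpec) hp
    rw [theta_fst_mul_snd, hae U hU] at h1
    haveI := hU
    exact single_eq_single_iff' (a U hU).ne_zero h1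
  have hu' : (u' : Γ(X, ⊤)) = uu := by
    apply huniq
    intro U
    change X.presheaf.map (homOfLE (le_top : U.1 ≤ ⊤)).op (u' : Γ(X, ⊤)) = sf U
    by_cases hU : Nonempty U.1
    · rw [hsf U hU, (key U hU).2]
    · haveI := subsingleton_of_not_nonempty U.1 hU
      exact Subsingleton.elim _ _
  refine Prod.ext (Units.ext ?_) ((key U0 hU0).1).symm
  exact hu'

end Groth.Agent.Lib.Helper38.Torus
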