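import Groth.Agent.Lib.Helper38.BddFibComp
import Groth.Agent.Lib.Helper51.AlgSpPull
import Groth.Prelude.Def_W4decUnivBdd

/-!
# Universally bounded fibres for maps from schemes to sheaves: bridges to `BddFib`
-/

set_option autoImplicit false
universe u

open CategoryTheory CategoryTheory.Limits AlgebraicGeometry

namespace Groth.Agent.Lib.Helper38

/-- A scheme finite of degree `≤ N` over a field is finite with rank function `≤ N`. -/
theorem isFinite_and_finrank_le_of_finiteOfDegLE {K : Type u} [Field K] {T : Scheme.{u}}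
    (p : T ⟶ Spec (CommRingCat.of K)) {N : ℕ}
    (h : BddFib.FiniteOfDegLE (CommRingCat.of K) p N) :
    IsFinite p ∧ ∀ s, p.finrank s ≤ N := by
  rw [finiteOfDegLE_iff] at h
  obtain ⟨haff, h⟩ := h
  set φ := (Scheme.ΓSpecIso (CommRingCat.of K)).inv ≫ p.appTop with hφ
  have hp : T.isoSpec.hom ≫ Spec.map φ = p := isoSpec_hom_comp_SpecMap p
  have hφflat : φ.hom.Flat := RingHom.Flat.of_isField (Field.toIsField K) _
  unfold RingFinDegLE at h
  have hφfin : φ.hom.Finite := h.1
  have hfin' : IsFinite (Spec.map φ) := by rwa [IsFinite.SpecMap_iff]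
  have hflat' : Flat (Spec.map φ) := by rwa [Flat.SpecMap_iff]
  have hpfin : IsFinite p := by
    rw [← hp]
    infer_instance
  refine ⟨hpfin, fun x => ?_⟩
  have h1 : p.finrank x = φ.hom.finrank x := by
    conv_lhs => rw [← hp]
    rw [Scheme.Hom.finrank_comp_left_of_isIso, Scheme.Hom.finrank_SpecMap_eq_finrank hφfin hφflat]
  rw [h1]
  obtain ⟨h1', h2'⟩ := h
  algebraize [φ.hom]
  have h2 : φ.hom.finrank x = Module.finrank K Γ(T, ⊤) := by
    rw [← RingHom.algebraMap_toAlgebra φ.hom, RingHom.finrank_algebraMap,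
      Module.rankAtStalk_eq_finrank_of_free]
    rfl
  rw [h2]
  exact h2'

variable {S : Scheme.{u}}

/-- Bounded fibre degree in the sheaf sense, for a morphism of schemes, gives `BddFib.FibreDegLE`. -/
theorem fibreDegLE_of_degFibresLE {U V : Over S} (f : V ⟶ U) (n : ℕ)
    (h : W4dec.DegFibresLE n ((AlgSp.yon S).map f)) : BddFib.FibreDegLE f.left n := by
  intro u
  let q : AlgSp.FieldPt ((AlgSp.yon S).obj U) := AlgSp.FieldPt.ofPt (𝟙 _) u
  let jo : q.pt ⟶ U := Over.homMk (U.left.fromSpecResidueField u) rfl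
  have hq : q.toHom = (AlgSp.yon S).map jo := by
    rw [AlgSp.FieldPt.toHom_ofPt, Category.comp_id]
  let T : Over S := Over.mk (f.left.fiberToSpecResidueField u ≫ q.str)
  let c : T ⟶ q.pt := Over.homMk (f.left.fiberToSpecResidueField u) rfl
  have hv : f.left.fiberι u ≫ V.hom = f.left.fiberToSpecResidueField u ≫ q.str := by
    have h1 : f.left.fiberι u ≫ f.left =
        f.left.fiberToSpecResidueField u ≫ U.left.fromSpecResidueField u :=
      (IsPullback.of_hasPullback f.left (U.left.fromSpecResidueField u)).w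
    rw [← Over.w f, ← Category.assoc, h1, Category.assoc]
    rfl
  let v : T ⟶ V := Over.homMk (f.left.fiberι u) hv
  have sq : IsPullback c v jo f :=
    IsPullback.of_map_of_faithful (Over.forget S)
      (IsPullback.of_hasPullback f.left (U.left.fromSpecResidueField u)).flip
  have sq' := sq.map (AlgSp.yon S)
  rw [← hq] at sq'
  obtain ⟨hfin, hrank⟩ := h q T c _ sq'
  have hfin' : IsFinite (f.left.fiberToSpecResidueField u) := hfin
  let pt : Spec (U.left.residueField u) := default
  exact finiteOfDegLE_of_isFinite_of_le (K := U.left.residueField u)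
    (f.left.fiberToSpecResidueField u) pt (hrank pt)

end Groth.Agent.Lib.Helper38
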