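import Groth.Agent.Lib.Helper38.UnivBddSp
import Groth.Agent.Lib.Helper38.BddFibCover
import Groth.Agent.S7437

/-!
# More on universally bounded fibres for maps from schemes to sheaves
-/

set_option autoImplicit false
universe u

open CategoryTheory CategoryTheory.Limits AlgebraicGeometry

namespace Groth.Agent.Lib.Helper38

/-- A scheme over a field with a finite jointly surjective flat family of pieces, each finite of
degree `≤ n i`, is finite of degree `≤ ∑ n i`. -/
theorem finiteOfDegLE_of_finite_flat_cover {K : Type u} [Field K] {Z : Scheme.{u}}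
    (p : Z ⟶ Spec (CommRingCat.of K)) {ι : Type u} [Fintype ι] (T : ι → Scheme.{u})
    (j : ∀ i, T i ⟶ Z) [∀ i, Flat (j i)] (hcov : ∀ z : Z, ∃ i y, j i y = z)
    (n : ι → ℕ) (h : ∀ i, BddFib.FiniteOfDegLE (CommRingCat.of K) (j i ≫ p) (n i)) :
    BddFib.FiniteOfDegLE (CommRingCat.of K) p (∑ i, n i) := by
  let q : ∐ T ⟶ Z := Sigma.desc j
  have hq : ∀ i, Sigma.ι T i ≫ q = j i := fun i => Sigma.ι_desc _ _
  have h1 : BddFib.FiniteOfDegLE (CommRingCat.of K) (q ≫ p) (∑ i, n i) := by
    refine finiteOfDegLE_of_finite_cover (q ≫ p) T (fun i => Sigma.ι T i) ?_ n ?_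
    · intro z
      obtain ⟨i, y, hy⟩ := (sigmaOpenCover T).exists_eq z
      exact ⟨i, y, hy⟩
    · intro i
      rw [← Category.assoc, hq]
      exact h i
  have : Flat q := by
    rw [IsZariskiLocalAtSource.iff_of_openCover (P := @Flat) (sigmaOpenCover T)]
    intro i
    show Flat (Sigma.ι T i ≫ q)
    rw [hq]
    infer_instance
  have : Surjective q := ⟨fun z => by
    obtain ⟨i, y, hy⟩ := hcov z
    exact ⟨Sigma.ι T i y, by rw [← Scheme.Hom.comp_apply, hq, hy]⟩⟩
  exact finiteOfDegLE_of_flat_surjective q p h1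

variable {S : Scheme.{u}}

/-- Bounded fibre degree for a morphism of schemes gives the sheaf-level bound. -/
theorem degFibresLE_of_fibreDegLE {U V : Over S} (f : V ⟶ U) (n : ℕ)
    (h : BddFib.FibreDegLE f.left n) : W4dec.DegFibresLE n ((AlgSp.yon S).map f) := by
  intro q T c snd hpb
  obtain ⟨v, rfl⟩ := (AlgSp.yon S).map_surjective snd
  obtain ⟨q', hq'⟩ := (AlgSp.yon S).map_surjective q.toHom
  rw [← hq'] at hpb
  have sq : IsPullback c.left v.left q'.left f.left :=
    Groth.Agent.Lib.Helper51.isPullback_left_of_yon hpb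
  have hdeg : BddFib.FiniteOfDegLE (CommRingCat.of q.K) c.left n :=
    (fibreDegLE_iff_forall_field_points f.left n).mp h q.K q'.left _ _ _ sq.flip
  exact isFinite_and_finrank_le_of_finiteOfDegLE c.left hdeg

/-- Family version of the flat surjective triangle: bounds on a finite jointly surjective flat
family over `V` give a bound for `V`. -/
theorem hasUnivBddFibres_of_finite_flat_family (X : AlgSp.Space S) {V : Over S}
    (ψ : (AlgSp.yon S).obj V ⟶ X.obj) {κ : Type u} [Fintype κ] (W : κ → Over S)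
    (g : ∀ k, W k ⟶ V) (hflat : ∀ k, Flat (g k).left)
    (hsurj : ∀ v : V.left, ∃ k w, (g k).left w = v)
    (hb : ∀ k, W4dec.HasUnivBddFibres ((AlgSp.yon S).map (g k) ≫ ψ)) :
    W4dec.HasUnivBddFibres ψ := by
  choose n hn using hb
  refine ⟨∑ k, n k, ?_⟩
  intro q T c snd hpb
  obtain ⟨v, rfl⟩ := (AlgSp.yon S).map_surjective snd
  -- the fibres of the members of the family
  have hrep : ∀ k, ∃ (T' : Over S) (c' : T' ⟶ q.pt) (u' : T' ⟶ W k),
      IsPullback ((AlgSp.yon S).map u') ((AlgSp.yon S).map c')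
        ((AlgSp.yon S).map (g k) ≫ ψ) q.toHom := by
    intro k
    obtain ⟨T', c', fst', sq'⟩ :=
      X.property.representable_from_yon ((AlgSp.yon S).map (g k) ≫ ψ) q.toHom
    obtain ⟨u', rfl⟩ := (AlgSp.yon S).map_surjective fst'
    exact ⟨T', c', u', sq'⟩
  choose T' c' u' sq' using hrep
  have hlift : ∀ k, ∃ d : T' k ⟶ T, d ≫ c = c' k ∧
      IsPullback (u' k).left d.left (g k).left v.left := by
    intro k
    have hw : (AlgSp.yon S).map (c' k) ≫ q.toHom =
        (AlgSp.yon S).map (u' k ≫ g k) ≫ ψ := by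
      rw [Functor.map_comp, Category.assoc]
      exact (sq' k).w.symm
    obtain ⟨d, hd⟩ := (AlgSp.yon S).map_surjective (hpb.lift _ _ hw)
    have e1 : (AlgSp.yon S).map d ≫ (AlgSp.yon S).map c = (AlgSp.yon S).map (c' k) := by
      rw [hd, hpb.lift_fst]
    have e2 : (AlgSp.yon S).map d ≫ (AlgSp.yon S).map v =
        (AlgSp.yon S).map (u' k) ≫ (AlgSp.yon S).map (g k) := by
      rw [hd, hpb.lift_snd, Functor.map_comp]
    refine ⟨d, (AlgSp.yon S).map_injective (by rw [Functor.map_comp, e1]), ?_⟩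
    have sqtop : IsPullback ((AlgSp.yon S).map (u' k)) ((AlgSp.yon S).map d)
        ((AlgSp.yon S).map (g k)) ((AlgSp.yon S).map v) := by
      refine IsPullback.of_bot ?_ e2.symm hpb.flip
      rw [e1]
      exact sq' k
    exact Groth.Agent.Lib.Helper51.isPullback_left_of_yon sqtop
  choose d hd1 hd2 using hlift
  have : ∀ k, Flat (d k).left := fun k => MorphismProperty.of_isPullback (hd2 k) (hflat k)
  have hcov : ∀ z : T.left, ∃ k y, (d k).left y = z := by
    intro z
    obtain ⟨k, w, hw⟩ := hsurj (v.left z)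
    obtain ⟨y, hy1, hy2⟩ := Scheme.exists_preimage_of_isPullback (hd2 k) w z hw
    exact ⟨k, y, hy2⟩
  let pt : Spec (CommRingCat.of q.K) := default
  have hdeg : ∀ k, BddFib.FiniteOfDegLE (CommRingCat.of q.K) ((d k).left ≫ c.left) (n k) := by
    intro k
    obtain ⟨hfin', hrank'⟩ := hn k q (T' k) (c' k) _ (sq' k).flip
    have e3 : (d k).left ≫ c.left = (c' k).left := by rw [← hd1 k]; rfl
    rw [e3]
    exact finiteOfDegLE_of_isFinite_of_le (K := q.K) (c' k).left pt (hrank' pt)
  have := finiteOfDegLE_of_finite_flat_cover (K := q.K) c.left (fun k => (T' k).left)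
    (fun k => (d k).left) hcov n hdeg
  exact isFinite_and_finrank_le_of_finiteOfDegLE c.left this

end Groth.Agent.Lib.Helper38
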